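import Groth.Agent.FlatCrit65.Assassin.Points
import Groth.Agent.CAlg6.FiberMod

/-!
# Weakly associated primes of `N ⊗ X`
-/

universe u

noncomputable section

open TensorProduct

attribute [local instance] Algebra.TensorProduct.rightAlgebra

namespace Groth.Agent.FlatCrit65

variable {R S : Type u} [CommRing R] [CommRing S] [Algebra R S] [Algebra.FiniteType R S]
  {N : Type u} [AddCommGroup N] [Module S N] [Module R N] [IsScalarTower R S N] [Module.Finite S N]
  {p : Ideal R} [p.IsPrime] {X : Type u} [AddCommGroup X] [Module R X]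

set_option maxHeartbeats 800000 in -- one long construction
/-- A weakly associated prime of `N ⊗ X` at which `N` is flat is an associated point of its fibre lying
over a weakly associated prime of `X`. -/
theorem of_mem_weakAss_tensor (q : Ideal S) [q.IsPrime] [q.LiesOver p]
    (hflat : Module.Flat R (LocalizedModule q.primeCompl N)) (h : q ∈ FlatCA.weakAss S (N ⊗[R] X)) :
    p ∈ FlatCA.weakAss R X ∧
      FlatCA.fiberIdeal p q ∈ associatedPrimes (p.Fiber S) (FlatCA.fiberMod p S N) := by
  classical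
  have hqp : q.comap (algebraMap R S) = p := (Ideal.LiesOver.over (P := q) (p := p)).symm
  obtain ⟨x, hx, hx'⟩ := Groth.Agent.CAlg5.mem_weakAss_iff.mp h
  refine ⟨?_, ?_⟩
  · -- descend the torsion
    obtain ⟨n, π, hπ⟩ := Algebra.FiniteType.iff_quotient_mvPolynomial''.mp ‹Algebra.FiniteType R S›
    let _ : Algebra (MvPolynomial (Fin n) R) S := π.toRingHom.toAlgebra
    have : IsScalarTower R (MvPolynomial (Fin n) R) S :=
      IsScalarTower.of_algebraMap_eq fun a => (π.commutes a).symm
    have : Module.Finite (MvPolynomial (Fin n) R) S :=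
      Module.Finite.of_surjective (Algebra.linearMap (MvPolynomial (Fin n) R) S) hπ
    let _ : Module (MvPolynomial (Fin n) R) N := Module.compHom N π.toRingHom
    have : IsScalarTower (MvPolynomial (Fin n) R) S N := IsScalarTower.of_algebraMap_smul fun _ _ => rfl
    have : IsScalarTower R (MvPolynomial (Fin n) R) N := IsScalarTower.of_algebraMap_smul fun a m => by
      show π (algebraMap R _ a) • m = a • m
      rw [π.commutes, algebraMap_smul]
    have : Module.Finite (MvPolynomial (Fin n) R) N := Module.Finite.trans S N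
    have hπs : ∀ (a : MvPolynomial (Fin n) R) (w : N ⊗[R] X), π a • w = a • w := by
      intro a w
      induction w using TensorProduct.induction_on with
      | zero => simp only [smul_zero]
      | tmul m x => rfl
      | add a b ha hb => simp only [smul_add, ha, hb]
    let q' : Ideal (MvPolynomial (Fin n) R) := q.comap (algebraMap (MvPolynomial (Fin n) R) S)
    have hq'p : q'.comap (algebraMap R (MvPolynomial (Fin n) R)) = p := by
      rw [Ideal.comap_comap, ← IsScalarTower.algebraMap_eq]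
      exact hqp
    have hflat' : Module.Flat R (LocalizedModule q'.primeCompl N) :=
      (flat_localized_comap_iff (A := MvPolynomial (Fin n) R) (M := N) hπ q).mp hflat
    have : Module.Finite (Localization.AtPrime q') (LocalizedModule q'.primeCompl N) :=
      Module.Finite.of_isLocalizedModule q'.primeCompl (LocalizedModule.mkLinearMap q'.primeCompl N)
    let ι := AlgebraTensorModule.rTensor R X (LocalizedModule.mkLinearMap q'.primeCompl N)
    have hne : ι x ≠ 0 := fun h0 => by
      obtain ⟨⟨t, ht⟩, htx⟩ := (IsLocalizedModule.eq_zero_iff q'.primeCompl ι).mp h0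
      exact ht (hx (π t) (by rw [hπs]; exact htx))
    have htor : ∀ a ∈ p, ∃ k : ℕ, a ^ k • ι x = 0 := fun a ha => by
      obtain ⟨s, hs, k, hk⟩ := hx' (algebraMap R S a) (by rw [← hqp] at ha; exact ha)
      obtain ⟨s', rfl⟩ := hπ s
      refine ⟨k, ?_⟩
      rw [← map_pow, mul_smul, algebraMap_smul, hπs] at hk
      have h0 : s' • (a ^ k • ι x) = 0 := by
        rw [← LinearMap.map_smul_of_tower ι (a ^ k) x, ← map_smul, hk, map_zero]
      exact IsLocalizedModule.smul_injective ι (⟨s', hs⟩ : q'.primeCompl) (h0.trans (smul_zero s').symm)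
    obtain ⟨c, hc, hc'⟩ := exists_torsion_of_flat (R := R) (L := Localization.AtPrime q')
      (M := LocalizedModule q'.primeCompl N) q' p hq'p (ι x) hne htor
    refine Groth.Agent.CAlg5.mem_weakAss_iff.mpr ⟨c, fun s hs => by_contra fun hsp => hc s hsp hs, fun a ha => ?_⟩
    obtain ⟨k, s, hs, hk⟩ := hc' a ha
    exact ⟨s, hs, k, by rw [mul_smul]; exact hk⟩
  · -- regularity spreads from the fibre
    refine fiberIdeal_mem_ass ?_
    by_contra hq
    obtain ⟨s, hsq, hs⟩ := exists_regular_at hq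
    have hpow : ∀ (k : ℕ) (z : N ⊗[R] X), s ^ k • z = 0 → ∃ t ∉ q, t • z = 0 := by
      intro k
      induction k with
      | zero =>
        intro z hz
        exact ⟨1, q.primeCompl.one_mem, by rw [pow_zero] at hz; exact hz⟩
      | succ k ih =>
        intro z hz
        rw [pow_succ', mul_smul] at hz
        obtain ⟨t, ht, htz⟩ := kill_at_finite p q hqp hflat s hs X (s ^ k • z) hz
        rw [smul_comm] at htz
        obtain ⟨t', ht', htz'⟩ := ih _ htz
        exact ⟨t' * t, q.primeCompl.mul_mem ht' ht, by rw [mul_smul, htz']⟩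
    obtain ⟨t, ht, k, hk⟩ := hx' s hsq
    rw [mul_comm, mul_smul] at hk
    obtain ⟨t', ht', hk'⟩ := hpow k _ hk
    rw [← mul_smul] at hk'
    exact q.primeCompl.mul_mem ht' ht (hx _ hk')

omit [Algebra.FiniteType R S] [Module.Finite S N] [p.IsPrime] in
/-- An element of `X` which is torsion at `p` may be replaced by one killed at `p` by given elements. -/
theorem exists_killed_at {X : Type u} [AddCommGroup X] [Module R X] (l : List R) :
    ∀ (c : X), (∀ s ∉ p, s • c ≠ 0) → (∀ a ∈ p, ∃ s ∉ p, ∃ k : ℕ, (s * a ^ k) • c = 0) →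
      (∀ a ∈ l, a ∈ p) →
      ∃ d : X, (∀ s ∉ p, s • d ≠ 0) ∧ (∀ a ∈ p, ∃ s ∉ p, ∃ k : ℕ, (s * a ^ k) • d = 0) ∧
        ∀ a ∈ l, ∃ s ∉ p, (s * a) • d = 0 := by
  classical
  induction l with
  | nil => exact fun c h1 h2 _ => ⟨c, h1, h2, fun a ha => absurd ha List.not_mem_nil⟩
  | cons a l ih =>
    intro c h1 h2 hl
    obtain ⟨d, hd1, hd2, hd3⟩ := ih c h1 h2 fun b hb => hl b (List.mem_cons_of_mem _ hb)
    have hex : ∃ k : ℕ, ∃ s ∉ p, (s * a ^ k) • d = 0 := by
      obtain ⟨s, hs, k, hk⟩ := hd2 a (hl a List.mem_cons_self)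
      exact ⟨k, s, hs, hk⟩
    obtain ⟨s₀, hs₀, hk₀⟩ := Nat.find_spec hex
    obtain ⟨j, hj⟩ : ∃ j, Nat.find hex = j + 1 := Nat.exists_eq_succ_of_ne_zero fun h0 => by
      rw [h0, pow_zero, mul_one] at hk₀
      exact hd1 s₀ hs₀ hk₀
    refine ⟨a ^ j • d, fun s hs h0 => ?_, fun b hb => ?_, fun b hb => ?_⟩
    · exact Nat.find_min hex (show j < Nat.find hex by omega) ⟨s, hs, by rw [mul_smul]; exact h0⟩
    · obtain ⟨s, hs, k, hk⟩ := hd2 b hb
      exact ⟨s, hs, k, by rw [smul_comm, hk, smul_zero]⟩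
    · rcases List.mem_cons.mp hb with rfl | hb'
      · refine ⟨s₀, hs₀, ?_⟩
        rw [smul_smul, mul_assoc, ← pow_succ', ← hj]
        exact hk₀
      · obtain ⟨s, hs, hk⟩ := hd3 b hb'
        exact ⟨s, hs, by rw [smul_comm, hk, smul_zero]⟩

omit [Algebra.FiniteType R S] [Module.Finite S N] [p.IsPrime] in
/-- An element of `p N` lies in `J N` for a finite subset `J` of `p`. -/
theorem exists_list_of_mem_smul {n : N} (h : n ∈ p • (⊤ : Submodule R N)) :
    ∃ l : List R, (∀ a ∈ l, a ∈ p) ∧
      ∀ {X : Type u} [AddCommGroup X] [Module R X] (d : X) (u : R), (∀ a ∈ l, (u * a) • d = 0) →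
        algebraMap R S u • (n ⊗ₜ[R] d) = 0 := by
  refine Submodule.smul_induction_on h (fun a ha m _ => ?_) (fun x y hx hy => ?_)
  · refine ⟨[a], fun b hb => by rw [List.mem_singleton] at hb; exact hb ▸ ha, fun d u hd => ?_⟩
    rw [smul_tmul', algebraMap_smul, smul_smul, smul_tmul, hd a (List.mem_singleton.mpr rfl), tmul_zero]
  · obtain ⟨l, hl, hlx⟩ := hx
    obtain ⟨l', hl', hly⟩ := hy
    refine ⟨l ++ l', fun a ha => (List.mem_append.mp ha).elim (hl a) (hl' a), fun d u hd => ?_⟩
    rw [add_tmul, smul_add, hlx d u (fun a ha => hd a (List.mem_append_left _ ha)),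
      hly d u (fun a ha => hd a (List.mem_append_right _ ha)), add_zero]

omit [Module.Finite S N] in
set_option maxHeartbeats 800000 in -- one long construction
/-- An associated point of the fibre at which `N` is flat, over a weakly associated prime of `X`, is
weakly associated to `N ⊗ X`. -/
theorem mem_weakAss_tensor (q : Ideal S) [q.IsPrime] [q.LiesOver p]
    (hflat : Module.Flat R (LocalizedModule q.primeCompl N)) (hX : p ∈ FlatCA.weakAss R X)
    (hq : FlatCA.fiberIdeal p q ∈ associatedPrimes (p.Fiber S) (FlatCA.fiberMod p S N)) :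
    q ∈ FlatCA.weakAss S (N ⊗[R] X) := by
  classical
  have hqp : q.comap (algebraMap R S) = p := (Ideal.LiesOver.over (P := q) (p := p)).symm
  have hout : ∀ r ∉ p, algebraMap R S r ∉ q := fun r hr h => hr (hqp ▸ h : r ∈ p)
  obtain ⟨c, hc1, hc2⟩ := Groth.Agent.CAlg5.mem_weakAss_iff.mp hX
  obtain ⟨y, hy⟩ := (Groth.Agent.FlatMor67.PurePush.ass_fiber_iff p q).mp hq
  -- lift the point of the fibre
  obtain ⟨r₀, hr₀, n, hn⟩ : ∃ r₀ ∉ p, ∃ n : N, algebraMap R S r₀ • y = n ⊗ₜ[R] (1 : p.ResidueField) := by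
    obtain ⟨e, he⟩ := Groth.Agent.CAlg6.exists_fiberEquiv (p := p) (S := S) (N := N)
    obtain ⟨r, hr, n, h⟩ := Groth.Agent.CAlg6.exists_smul_eq_toFiberMod (e.symm y)
    exact ⟨r, hr, n, by rw [← he, ← h, map_smul, e.apply_symm_apply]⟩
  -- finitely many generators of the point
  have : IsNoetherianRing (p.Fiber S) := Algebra.FiniteType.isNoetherianRing p.ResidueField _
  obtain ⟨G, hGq, hG⟩ : ∃ G : Finset S, (G : Set S) ⊆ q ∧
      FlatCA.fiberIdeal p q ≤ Ideal.map (algebraMap S (p.Fiber S)) (Ideal.span (G : Set S)) := by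
    obtain ⟨T, hT, hTspan⟩ := (Submodule.fg_span_iff_fg_span_finset_subset
      ((algebraMap S (p.Fiber S)) '' (q : Set S))).mp (IsNoetherian.noetherian (R := p.Fiber S) _)
    obtain ⟨G, hGq, hGT⟩ := Finset.subset_set_image_iff.mp hT
    refine ⟨G, hGq, ?_⟩
    show Ideal.map _ q ≤ _
    rw [Ideal.map_span, Ideal.map]
    refine le_of_eq_of_le hTspan ?_
    rw [← hGT, Finset.coe_image]
  have hb : ∀ b : G, ∃ r ∉ p, ∃ (k : ℕ) (l : List R), (∀ a ∈ l, a ∈ p) ∧
      ∀ (d : X) (u : R), (∀ a ∈ l, (u * a) • d = 0) →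
        algebraMap R S u • (((algebraMap R S r * (b : S) ^ k) • n) ⊗ₜ[R] d) = 0 := by
    intro b
    obtain ⟨k, hk⟩ := (hy b).mp (hGq b.2)
    obtain ⟨r, hr, hrn⟩ := (Groth.Agent.CAlg6.tmul_one_eq_zero_iff (p := p) ((b : S) ^ k • n)).mp (by
      rw [← smul_tmul', ← hn, smul_comm, hk, smul_zero])
    obtain ⟨l, hl, hld⟩ := exists_list_of_mem_smul (S := S) hrn
    refine ⟨r, hr, k, l, hl, fun d u hd => ?_⟩
    rw [mul_smul, algebraMap_smul S r]
    exact hld d u hd
  choose r hr k l hl hld using hb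
  obtain ⟨d, hd1, hd2, hd3⟩ := exists_killed_at (p := p) (Finset.univ.toList.flatMap l) c
    (fun s hs h0 => hs (hc1 s h0)) hc2 (fun a ha => by
      obtain ⟨b, -, hab⟩ := List.mem_flatMap.mp ha
      exact hl b a hab)
  let w := n ⊗ₜ[R] d
  -- nothing outside `q` kills it
  have hsub : ∀ t : S, t • w = 0 → t ∈ q := by
    intro t htw
    by_contra ht
    let I : Ideal R := LinearMap.ker (LinearMap.toSpanSingleton R X d)
    have hIp : I ≤ p := fun a ha => by_contra fun h => hd1 a h ha
    let φ : R ⧸ I →ₗ[R] X := Submodule.liftQ I (LinearMap.toSpanSingleton R X d) le_rfl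
    have hφ : Function.Injective φ := by
      rw [injective_iff_map_eq_zero]
      intro a ha
      obtain ⟨a, rfl⟩ := Submodule.mkQ_surjective I a
      exact (Submodule.Quotient.mk_eq_zero I).mpr ha
    let ψ : R ⧸ I →ₗ[R] p.ResidueField := Submodule.liftQ I (Algebra.linearMap R p.ResidueField)
      (fun a ha => Ideal.algebraMap_residueField_eq_zero.mpr (hIp ha))
    let ι := LocalizedModule.mkLinearMap q.primeCompl N
    have h1 : ι (t • n) ⊗ₜ[R] (Submodule.mkQ I 1) = (0 : _ ⊗[R] (R ⧸ I)) := by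
      apply Module.Flat.lTensor_preserves_injective_linearMap (M := LocalizedModule q.primeCompl N) φ hφ
      rw [map_zero, LinearMap.lTensor_tmul]
      have := congrArg (AlgebraTensorModule.rTensor R X ι) htw
      rw [map_zero, smul_tmul'] at this
      rw [← this]
      show ι (t • n) ⊗ₜ[R] φ (Submodule.mkQ I 1) = ι (t • n) ⊗ₜ[R] d
      congr 1
      exact one_smul R d
    have h2 : AlgebraTensorModule.rTensor R p.ResidueField ι ((t • n) ⊗ₜ[R] (1 : p.ResidueField)) = 0 := by
      show ι (t • n) ⊗ₜ[R] (1 : p.ResidueField) = 0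
      have := congrArg (ψ.lTensor _) h1
      rw [map_zero, LinearMap.lTensor_tmul, show ψ (Submodule.mkQ I 1) = 1 from map_one (algebraMap R p.ResidueField)] at this
      exact this
    obtain ⟨⟨t', ht'⟩, ht''⟩ := (IsLocalizedModule.eq_zero_iff q.primeCompl _).mp h2
    have h3 : (t' * (t * algebraMap R S r₀)) • y = 0 := by
      rw [mul_smul, mul_smul, hn, smul_tmul']
      exact ht''
    exact q.primeCompl.mul_mem ht' (q.primeCompl.mul_mem ht (hout _ hr₀)) ((hy _).mpr ⟨1, by rw [pow_one]; exact h3⟩)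
  refine Groth.Agent.CAlg5.mem_weakAss_iff.mpr ⟨w, hsub, fun b hb => ?_⟩
  by_contra hne
  push Not at hne
  obtain ⟨P, hP, hPI, hPd⟩ := Ideal.exists_le_prime_disjoint (Submodule.span S {w}).annihilator
    (q.primeCompl ⊔ Submonoid.powers b) (Set.disjoint_left.mpr fun z hz hzS => by
      obtain ⟨s, hs, _, ⟨j, rfl⟩, rfl⟩ := Submonoid.mem_sup.mp hzS
      exact hne s hs j (Groth.Agent.CAlg5.mem_ann.mp hz))
  have hPq : P ≤ q := fun z hz => by_contra fun h => Set.disjoint_left.mp hPd hz (Submonoid.mem_sup_left h)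
  have hPp : P.LiesOver p := by
    refine ⟨le_antisymm (fun a ha => ?_) ((Ideal.comap_mono hPq).trans hqp.le)⟩
    obtain ⟨s, hs, j, hj⟩ := hd2 a ha
    have hmem : algebraMap R S s * algebraMap R S a ^ j ∈ P := by
      refine hPI (Groth.Agent.CAlg5.mem_ann.mpr ?_)
      show (algebraMap R S s * algebraMap R S a ^ j) • (n ⊗ₜ[R] d) = 0
      rw [← map_pow, ← map_mul, smul_tmul', algebraMap_smul, smul_tmul, hj, tmul_zero]
    exact hP.mem_of_pow_mem j ((hP.mem_or_mem hmem).resolve_left fun h => hout s hs (hPq h))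
  have hqP : q ≤ P := by
    intro z hz
    rw [← Groth.Agent.FlatMor67.PurePush.comap_fiberIdeal p P]
    refine (Ideal.map_mono (Ideal.span_le.mpr fun g hg => ?_) (hG (Ideal.mem_map_of_mem _ hz)))
    let b' : G := ⟨g, hg⟩
    have hu : ∃ u ∉ p, ∀ a ∈ l b', (u * a) • d = 0 := by
      suffices ∀ L : List R, (∀ a ∈ L, ∃ s ∉ p, (s * a) • d = 0) → ∃ u ∉ p, ∀ a ∈ L, (u * a) • d = 0 from
        this _ fun a ha => hd3 a (List.mem_flatMap.mpr ⟨b', Finset.mem_toList.mpr (Finset.mem_univ _), ha⟩)
      intro L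
      induction L with
      | nil => exact fun _ => ⟨1, p.primeCompl.one_mem, fun a ha => absurd ha List.not_mem_nil⟩
      | cons a L ih =>
        intro hL
        obtain ⟨u, hu, hu'⟩ := ih fun x hx => hL x (List.mem_cons_of_mem _ hx)
        obtain ⟨s, hs, hs'⟩ := hL a List.mem_cons_self
        refine ⟨u * s, p.primeCompl.mul_mem hu hs, fun x hx => ?_⟩
        rcases List.mem_cons.mp hx with rfl | hx'
        · rw [mul_assoc, mul_smul, hs', smul_zero]
        · rw [mul_comm u s, mul_assoc, mul_smul, hu' x hx', smul_zero]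
    obtain ⟨u, hu, hu'⟩ := hu
    have hmem : algebraMap R S u * (algebraMap R S (r b') * g ^ k b') ∈ P := by
      refine hPI (Groth.Agent.CAlg5.mem_ann.mpr ?_)
      show (algebraMap R S u * _) • (n ⊗ₜ[R] d) = 0
      rw [mul_smul, smul_tmul' (algebraMap R S (r b') * g ^ k b')]
      exact hld b' d u hu'
    have h' := (hP.mem_or_mem hmem).resolve_left fun h => hout u hu (hPq h)
    exact hP.mem_of_pow_mem _ ((hP.mem_or_mem h').resolve_left fun h => hout _ (hr b') (hPq h))
  exact Set.disjoint_left.mp hPd (hqP hb) (Submonoid.mem_sup_right (Submonoid.mem_powers b))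

omit [Algebra.FiniteType R S] [Module.Finite S N] in
theorem flat_localized_of_flat [Module.Flat R N] (q : Ideal S) [q.IsPrime] :
    Module.Flat R (LocalizedModule q.primeCompl N) := by
  refine (flat_localized_iff_kernels q).mpr fun I z hz => ⟨1, q.primeCompl.one_mem, ?_⟩
  rw [one_smul]
  exact Module.Flat.lTensor_preserves_injective_linearMap (M := N) I.subtype Subtype.val_injective
    (hz.trans (map_zero _).symm)

/-- The weakly associated primes of `N ⊗ X` at which `N` is flat. -/
theorem mem_weakAss_tensor_iff (q : Ideal S) [q.IsPrime] [q.LiesOver p]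
    (hflat : Module.Flat R (LocalizedModule q.primeCompl N)) :
    q ∈ FlatCA.weakAss S (N ⊗[R] X) ↔ p ∈ FlatCA.weakAss R X ∧
      FlatCA.fiberIdeal p q ∈ associatedPrimes (p.Fiber S) (FlatCA.fiberMod p S N) :=
  ⟨of_mem_weakAss_tensor q hflat, fun h => mem_weakAss_tensor q hflat h.1 h.2⟩

end Groth.Agent.FlatCrit65
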