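import Groth.Agent.FlatCrit65.Assassin.FlatAt

/-!
# Flatness at a prime is decided at the associated points of the fibre
-/

universe u

noncomputable section

open TensorProduct

attribute [local instance] Algebra.TensorProduct.rightAlgebra

namespace Groth.Agent.FlatCrit65

variable {R S : Type u} [CommRing R] [CommRing S] [Algebra R S]
  {N : Type u} [AddCommGroup N] [Module S N] [Module R N] [IsScalarTower R S N]

set_option maxHeartbeats 800000 in -- one long construction
theorem flat_localized_of_assoc [Algebra.FiniteType R S] [Module.Finite S N] (p : Ideal R) [p.IsPrime]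
    (q : Ideal S) [q.IsPrime] (hqp : q.comap (algebraMap R S) = p)
    (h : ∀ q' : Ideal S, ∀ _ : q'.IsPrime, q' ≤ q → q'.LiesOver p →
      q' ∈ FlatCA.weakAss S (N ⊗[R] p.ResidueField) → Module.Flat R (LocalizedModule q'.primeCompl N)) :
    Module.Flat R (LocalizedModule q.primeCompl N) := by
  classical
  refine flat_localized_of_grInjAt p q hqp fun X _ _ _ _ V hV w hw => ?_
  let A := Localization.AtPrime p
  have htors : Module.IsTorsionBySet A V (IsLocalRing.maximalIdeal A : Set A) := fun v a =>
    Subtype.ext (hV a.1 a.2 v.1 v.2)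
  let _ : Module p.ResidueField V := htors.module
  have : IsScalarTower R p.ResidueField V := IsScalarTower.of_algebraMap_smul fun r v => by
    let _ : Module (A ⧸ IsLocalRing.maximalIdeal A) V := htors.module
    show Ideal.Quotient.mk (IsLocalRing.maximalIdeal A) (algebraMap R A r) • v = r • v
    rw [Module.IsTorsionBySet.mk_smul, algebraMap_smul]
  let B := Module.Free.chooseBasis p.ResidueField V
  let Φ := (AlgebraTensorModule.congr (LinearEquiv.refl S N) (B.repr.restrictScalars R)).trans
    (TensorProduct.finsuppRight R S N p.ResidueField _)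
  by_contra hne
  push Not at hne
  have hann : (Submodule.span S {w}).annihilator ≤ q := fun t ht => by
    by_contra htq
    exact hne t htq (Groth.Agent.CAlg5.mem_ann.mp ht)
  obtain ⟨q₁, hmin, hq₁⟩ := Ideal.exists_minimalPrimes_le hann
  have := hmin.1.1
  have hw0 : ∀ s : S, s • w = 0 ↔ ∀ i ∈ (Φ w).support, s • Φ w i = 0 := by
    intro s
    rw [← Φ.map_eq_zero_iff, map_smul]
    refine ⟨fun h0 i _ => by rw [← Finsupp.smul_apply, h0]; rfl, fun h0 => Finsupp.ext fun i => ?_⟩
    by_cases hi : i ∈ (Φ w).support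
    · exact h0 i hi
    · rw [Finsupp.smul_apply, Finsupp.notMem_support_iff.mp hi, smul_zero, Finsupp.zero_apply]
  have hinf : (Φ w).support.inf (fun i => (Submodule.span S {Φ w i}).annihilator) ≤ q₁ := by
    refine le_trans (fun s hs => ?_) hmin.1.2
    refine Groth.Agent.CAlg5.mem_ann.mpr ((hw0 s).mpr fun i hi => ?_)
    exact Groth.Agent.CAlg5.mem_ann.mp (Finset.inf_le (f := fun i => (Submodule.span S {Φ w i}).annihilator) hi hs)
  obtain ⟨i, hi, hle⟩ := (‹q₁.IsPrime›.inf_le').mp hinf
  have hw₁ : q₁ ∈ FlatCA.weakAss S (N ⊗[R] p.ResidueField) := by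
    refine ⟨Φ w i, ⟨‹_›, hle⟩, fun P hP hPq => hmin.2 ⟨hP.1, fun s hs => hP.2 ?_⟩ hPq⟩
    exact Groth.Agent.CAlg5.mem_ann.mpr ((hw0 s).mp (Groth.Agent.CAlg5.mem_ann.mp hs) i hi)
  have := liesOver_of_mem_weakAss_fibre hw₁
  have hflat := h q₁ inferInstance hq₁ this hw₁
  obtain ⟨s, hs, hsw⟩ := exists_smul_eq_zero_of_injective q₁.primeCompl (V.subtype.restrictScalars R)
    (Module.Flat.lTensor_preserves_injective_linearMap _ V.injective_subtype) w hw
  exact hs (hmin.1.2 (Groth.Agent.CAlg5.mem_ann.mpr hsw))

end Groth.Agent.FlatCrit65
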