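import Groth.Prelude.Def_FlatCA
import Mathlib.RingTheory.Flat.Basic
import Mathlib.RingTheory.Ideal.AssociatedPrime.Basic
import Mathlib.RingTheory.FiniteType

/-!
# The fibre module and associated points of fibres
-/

universe u

noncomputable section

open TensorProduct

attribute [local instance] Algebra.TensorProduct.rightAlgebra

namespace Groth.Agent.FlatCrit65

variable {R S : Type u} [CommRing R] [CommRing S] [Algebra R S] (p : Ideal R) [p.IsPrime]

/-- `S ⊗ κ(p) ≅ κ(p) ⊗ S`, linearly over `S`. -/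
def fibreComm : (S ⊗[R] p.ResidueField) ≃ₗ[S] p.Fiber S :=
  { (TensorProduct.comm R S p.ResidueField).toAddEquiv with
    map_smul' := fun s z => by
      show TensorProduct.comm R S p.ResidueField (s • z) = s • TensorProduct.comm R S p.ResidueField z
      induction z using TensorProduct.induction_on with
      | zero => simp only [smul_zero, map_zero]
      | tmul a c =>
        rw [TensorProduct.smul_tmul', TensorProduct.comm_tmul, TensorProduct.comm_tmul, smul_eq_mul,
          Algebra.smul_def s (c ⊗ₜ[R] a)]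
        show c ⊗ₜ[R] (s * a) = ((1 : p.ResidueField) ⊗ₜ[R] s) * (c ⊗ₜ[R] a)
        rw [Algebra.TensorProduct.tmul_mul_tmul, one_mul]
      | add a b ha hb => simp only [smul_add, map_add, ha, hb] }

variable (N : Type u) [AddCommGroup N] [Module S N] [Module R N] [IsScalarTower R S N]

/-- `N ⊗ κ(p)` is the fibre module. -/
def fibreEquiv : (N ⊗[R] p.ResidueField) ≃ₗ[S] FlatCA.fiberMod p S N :=
  ((AlgebraTensorModule.cancelBaseChange R S S N p.ResidueField).symm.trans
    ((TensorProduct.congr (LinearEquiv.refl S N) (fibreComm p)).trans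
      (TensorProduct.comm S N (p.Fiber S))))

variable {p N}

theorem fibreComm_one (s : S) : fibreComm p (s ⊗ₜ[R] (1 : p.ResidueField)) = (1 : p.ResidueField) ⊗ₜ[R] s := rfl

omit [p.IsPrime] in
theorem one_tmul_smul_fiberMod [p.IsPrime] (s : S) (w : FlatCA.fiberMod p S N) :
    ((1 : p.ResidueField) ⊗ₜ[R] s : p.Fiber S) • w = s • w :=
  algebraMap_smul (p.Fiber S) s (show (p.Fiber S) ⊗[S] N from w)

/-- A prime of the fibre ring is extended from the prime below it. -/
theorem fiberIdeal_comap (P : Ideal (p.Fiber S)) [P.IsPrime] :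
    FlatCA.fiberIdeal p (P.comap (algebraMap S (p.Fiber S))) = P := by
  refine le_antisymm (Ideal.map_le_iff_le_comap.mpr fun s hs => hs) fun z hz => ?_
  obtain ⟨c, hc, s, hcs⟩ := Ideal.Fiber.exists_smul_eq_one_tmul p z
  have hu : IsUnit (algebraMap R (p.Fiber S) c) := by
    rw [IsScalarTower.algebraMap_apply R p.ResidueField (p.Fiber S)]
    exact (IsUnit.mk0 _ fun h0 => hc (Ideal.algebraMap_residueField_eq_zero.mp h0)).map _
  rw [← Ideal.unit_mul_mem_iff_mem _ hu, ← Algebra.smul_def, hcs]
  refine Ideal.mem_map_of_mem _ ?_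
  show (1 : p.ResidueField) ⊗ₜ[R] s ∈ P
  rw [← hcs]
  exact Submodule.smul_of_tower_mem P c hz

theorem liesOver_comap (P : Ideal (p.Fiber S)) [P.IsPrime] :
    (P.comap (algebraMap S (p.Fiber S))).LiesOver p := by
  refine ⟨(P.over_def p).trans ?_⟩
  rw [Ideal.under, Ideal.under, Ideal.comap_comap]
  congr 1
  refine RingHom.ext fun r => ?_
  show algebraMap R p.ResidueField r ⊗ₜ[R] (1 : S) = (1 : p.ResidueField) ⊗ₜ[R] algebraMap R S r
  rw [Algebra.algebraMap_eq_smul_one, Algebra.algebraMap_eq_smul_one, TensorProduct.smul_tmul]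

/-- The annihilator of a nonzero element of the fibre lies in an associated point of the fibre. -/
theorem exists_assoc_point [Algebra.FiniteType R S] (z : N ⊗[R] p.ResidueField) (hz : z ≠ 0) :
    ∃ (q : Ideal S) (_ : q.IsPrime) (_ : q.LiesOver p),
      FlatCA.fiberIdeal p q ∈ associatedPrimes (p.Fiber S) (FlatCA.fiberMod p S N) ∧
      ∀ s : S, s • z = 0 → s ∈ q := by
  have : IsNoetherianRing (p.Fiber S) := Algebra.FiniteType.isNoetherianRing p.ResidueField _
  obtain ⟨P, hP, hle⟩ := exists_le_isAssociatedPrime_of_isNoetherianRing (p.Fiber S) (M := FlatCA.fiberMod p S N) (fibreEquiv (S := S) p N z)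
    (fun h => hz ((fibreEquiv (S := S) p N).map_eq_zero_iff.mp h))
  have := hP.isPrime
  refine ⟨P.comap (algebraMap S (p.Fiber S)), inferInstance, liesOver_comap P, ?_, fun s hs => hle ?_⟩
  · rw [fiberIdeal_comap]; exact hP
  · have h1 : s • fibreEquiv (S := S) p N z = 0 := by rw [← map_smul, hs, map_zero]
    have h2 : algebraMap S (p.Fiber S) s • fibreEquiv (S := S) p N z = 0 :=
      (one_tmul_smul_fiberMod (R := R) (S := S) (p := p) (N := N) s _).trans h1
    simpa [Submodule.mem_colon_singleton, Submodule.mem_annihilator_span_singleton] using h2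

/-- Base change to a flat algebra whose image meets all associated points of a fibre is injective on
that fibre. -/
theorem lTensor_injective_of_assoc_covered [Algebra.FiniteType R S] {S' : Type u} [CommRing S']
    [Algebra R S'] [Algebra S S'] [IsScalarTower R S S'] [Module.Flat S S']
    (h : ∀ (q : Ideal S) [q.IsPrime] [q.LiesOver p],
      FlatCA.fiberIdeal p q ∈ associatedPrimes (p.Fiber S) (FlatCA.fiberMod p S N) →
      ∃ q' : Ideal S', q'.IsPrime ∧ q'.comap (algebraMap S S') = q) :
    Function.Injective (((TensorProduct.mk S S' N 1).restrictScalars R).lTensor p.ResidueField) := by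
  rw [LinearMap.lTensor_inj_iff_rTensor_inj, injective_iff_map_eq_zero]
  intro z hz
  let e := AlgebraTensorModule.assoc R S S S' N p.ResidueField
  have key : ∀ w, e (((TensorProduct.mk S S' N 1).restrictScalars R).rTensor p.ResidueField w) =
      (1 : S') ⊗ₜ[S] w := by
    intro w
    induction w using TensorProduct.induction_on with
    | zero => simp only [map_zero, TensorProduct.tmul_zero]
    | tmul m x => rfl
    | add a b ha hb => simp only [map_add, ha, hb, TensorProduct.tmul_add]
  have h1 : (1 : S') ⊗ₜ[S] z = 0 := by rw [← key, hz, map_zero]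
  by_contra hne
  obtain ⟨q, _, _, hass, hann⟩ := exists_assoc_point (S := S) (p := p) (N := N) z hne
  obtain ⟨q', hq', hcomap⟩ := h q hass
  let g : S →ₗ[S] N ⊗[R] p.ResidueField := LinearMap.toSpanSingleton S _ z
  let gbar : S ⧸ LinearMap.ker g →ₗ[S] N ⊗[R] p.ResidueField := (LinearMap.ker g).liftQ g le_rfl
  have hg : Function.Injective gbar := LinearMap.ker_eq_bot.mp (Submodule.ker_liftQ_eq_bot _ _ _ le_rfl)
  have h2 : (1 : S') ⊗ₜ[S] (Submodule.mkQ (LinearMap.ker g) 1) = 0 := by
    apply Module.Flat.lTensor_preserves_injective_linearMap (M := S') gbar hg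
    rw [map_zero, LinearMap.lTensor_tmul, ← h1]
    congr 1
    show (1 : S) • z = z
    rw [one_smul]
  let χ : S ⧸ LinearMap.ker g →ₗ[S] S' ⧸ q' :=
    (LinearMap.ker g).liftQ (Algebra.linearMap S (S' ⧸ q')) fun s hs => by
      show algebraMap S (S' ⧸ q') s = 0
      rw [IsScalarTower.algebraMap_apply S S' (S' ⧸ q')]
      refine Ideal.Quotient.eq_zero_iff_mem.mpr ?_
      rw [← Ideal.mem_comap, hcomap]
      exact hann s hs
  let μ : S' ⊗[S] (S ⧸ LinearMap.ker g) →ₗ[S] S' ⧸ q' :=
    (LinearMap.mul' S (S' ⧸ q')).comp (TensorProduct.map (IsScalarTower.toAlgHom S S' (S' ⧸ q')).toLinearMap χ)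
  have h3 := congrArg μ h2
  rw [map_zero] at h3
  have h4 : μ ((1 : S') ⊗ₜ[S] (Submodule.mkQ (LinearMap.ker g) 1)) = 1 := by
    show Ideal.Quotient.mk q' 1 * algebraMap S (S' ⧸ q') 1 = 1
    rw [map_one, map_one, one_mul]
  rw [h4] at h3
  exact hq'.ne_top ((Ideal.eq_top_iff_one _).mpr (Ideal.Quotient.eq_zero_iff_mem.mp h3))

end Groth.Agent.FlatCrit65
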