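import Mathlib.Algebra.Module.FinitePresentation
import Mathlib.Algebra.Module.LocalizedModule.Submodule
import Mathlib.RingTheory.Localization.Integer

/-!
# Finitely presented modules over a localization come from finitely presented modules
-/

universe u

noncomputable section

namespace Groth.Agent.FlatCrit65

theorem exists_fp_model {B : Type u} [CommRing B] (T : Submonoid B) (L : Type u) [CommRing L] [Algebra B L]
    [IsLocalization T L] (N : Type u) [AddCommGroup N] [Module L N] [Module B N] [IsScalarTower B L N]
    [Module.FinitePresentation L N] :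
    ∃ (M : Type u) (_ : AddCommGroup M) (_ : Module B M) (f : M →ₗ[B] N),
      Module.FinitePresentation B M ∧ IsLocalizedModule T f := by
  classical
  obtain ⟨k, π, hπ⟩ := Module.Finite.exists_fin' L N
  obtain ⟨G, hG⟩ := Module.FinitePresentation.fg_ker π hπ
  let f : (Fin k → B) →ₗ[B] (Fin k → L) := LinearMap.pi fun i => (Algebra.linearMap B L).comp (LinearMap.proj i)
  have hf : ∀ x i, f x i = algebraMap B L (x i) := fun _ _ => rfl
  have hloc : IsLocalizedModule T f := by
    refine ⟨fun t => ?_, fun y => ?_, fun {x y} h => ?_⟩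
    · obtain ⟨u, hu⟩ := IsLocalization.map_units L t
      refine (Module.End.isUnit_iff _).mpr ⟨fun a b hab => funext fun i => ?_, fun a => ⟨fun i => ↑u⁻¹ * a i, funext fun i => ?_⟩⟩
      · have h := congrFun hab i
        simp only [Module.algebraMap_end_apply, Pi.smul_apply, Algebra.smul_def] at h
        rw [← hu] at h
        exact u.mul_right_inj.mp h
      · simp only [Module.algebraMap_end_apply, Pi.smul_apply, Algebra.smul_def, ← hu]
        rw [← mul_assoc, Units.mul_inv, one_mul]
    · obtain ⟨b, hb⟩ := IsLocalization.exist_integer_multiples_of_finite T y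
      choose x hx using hb
      exact ⟨(x, b), funext fun i => by rw [hf, Submonoid.smul_def, Pi.smul_apply, hx]⟩
    · have hi : ∀ i, ∃ c : T, (c : B) * x i = c * y i := fun i =>
        (IsLocalization.eq_iff_exists T L).mp (congrFun h i)
      choose c hc using hi
      refine ⟨∏ i, c i, funext fun i => ?_⟩
      simp only [Submonoid.smul_def, Pi.smul_apply, smul_eq_mul, Submonoid.coe_finsetProd]
      rw [← Finset.prod_erase_mul _ _ (Finset.mem_univ i), mul_assoc, hc, mul_assoc]
  have hw : ∀ g : G, ∃ w : Fin k → B, ∃ t : T, t • (g : Fin k → L) = f w := fun g => by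
    obtain ⟨⟨w, t⟩, h⟩ := IsLocalizedModule.surj T f (g : Fin k → L)
    exact ⟨w, t, h⟩
  choose w t hwt using hw
  let W : Submodule B (Fin k → B) := Submodule.span B (Set.range w)
  have hker : W.localized' L T f = LinearMap.ker π := by
    rw [Submodule.localized'_span, ← hG]
    refine le_antisymm (Submodule.span_le.mpr ?_) (Submodule.span_le.mpr ?_)
    · rintro _ ⟨_, ⟨g, rfl⟩, rfl⟩
      rw [← hwt, Submonoid.smul_def, ← algebraMap_smul L]
      exact Submodule.smul_mem _ _ (Submodule.subset_span g.2)
    · intro g hg
      obtain ⟨u, hu⟩ := IsLocalization.map_units L (t ⟨g, hg⟩)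
      have : g = (↑u⁻¹ : L) • f (w ⟨g, hg⟩) := by
        rw [← hwt, Submonoid.smul_def, ← algebraMap_smul L ((t ⟨g, hg⟩ : T) : B) (g : Fin k → L), ← hu,
          smul_smul, Units.inv_mul, one_smul]
      rw [this]
      exact Submodule.smul_mem _ _ (Submodule.subset_span ⟨_, ⟨⟨g, hg⟩, rfl⟩, rfl⟩)
  let e : ((Fin k → L) ⧸ W.localized' L T f) ≃ₗ[L] N :=
    (Submodule.quotEquivOfEq _ _ hker).trans (π.quotKerEquivOfSurjective hπ)
  refine ⟨(Fin k → B) ⧸ W, inferInstance, inferInstance,
    (e.restrictScalars B).toLinearMap ∘ₗ W.toLocalizedQuotient' L T f,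
    Module.finitePresentation_of_surjective W.mkQ W.mkQ_surjective
      (by rw [Submodule.ker_mkQ]; exact Submodule.fg_span (Set.finite_range w)), inferInstance⟩

end Groth.Agent.FlatCrit65
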