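import Groth.Agent.FlatCrit65.Assassin.NzdFibre
import Groth.Agent.FlatCrit65.Assassin.Fiber
import Groth.Agent.FlatCrit65.Assassin.FpModel
import Groth.Agent.FlatCrit65.Pullback

/-!
# Regularity on the closed fibre: finitely presented modules
-/

universe u

noncomputable section

open TensorProduct

namespace Groth.Agent.FlatCrit65

set_option maxHeartbeats 800000 in -- one long construction
/-- An element which is regular on the closed fibre at a flat point is regular on every `M ⊗ Q` there. -/
theorem kill_at_of_fibre_nzd {R S M : Type u} [CommRing R] [IsLocalRing R] [CommRing S] [Algebra R S]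
    [Algebra.FinitePresentation R S] [AddCommGroup M] [Module S M] [Module R M] [IsScalarTower R S M]
    [Module.FinitePresentation S M] (q : Ideal S) [q.IsPrime]
    (hqm : q.comap (algebraMap R S) = IsLocalRing.maximalIdeal R)
    (hflat : Module.Flat R (LocalizedModule q.primeCompl M)) (s : S)
    (hs : ∀ z : M ⊗[R] (IsLocalRing.maximalIdeal R).ResidueField, s • z = 0 → ∃ t ∉ q, t • z = 0)
    (Q : Type u) [AddCommGroup Q] [Module R Q] (z : M ⊗[R] Q) (hz : s • z = 0) :
    ∃ t ∉ q, t • z = 0 := by
  classical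
  obtain ⟨n, π, hπ, hker⟩ := ‹Algebra.FinitePresentation R S›.out
  let _ : Algebra (MvPolynomial (Fin n) R) S := π.toRingHom.toAlgebra
  have : IsScalarTower R (MvPolynomial (Fin n) R) S :=
    IsScalarTower.of_algebraMap_eq fun a => (π.commutes a).symm
  let _ : Module (MvPolynomial (Fin n) R) M := Module.compHom M π.toRingHom
  have : IsScalarTower (MvPolynomial (Fin n) R) S M := IsScalarTower.of_algebraMap_smul fun _ _ => rfl
  have : IsScalarTower R (MvPolynomial (Fin n) R) M := IsScalarTower.of_algebraMap_smul fun a m => by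
    show π (algebraMap R _ a) • m = a • m
    rw [π.commutes, algebraMap_smul]
  have : Module.FinitePresentation (MvPolynomial (Fin n) R) S :=
    Module.finitePresentation_of_surjective (Algebra.linearMap (MvPolynomial (Fin n) R) S) hπ (by
      exact hker)
  have : Module.FinitePresentation (MvPolynomial (Fin n) R) M :=
    Module.FinitePresentation.trans (MvPolynomial (Fin n) R) M S
  obtain ⟨k, L, e, hL⟩ := Module.FinitePresentation.exists_fin (MvPolynomial (Fin n) R) M
  obtain ⟨T, rfl⟩ := hL
  obtain ⟨s', rfl⟩ := hπ s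
  let q' : Ideal (MvPolynomial (Fin n) R) := q.comap π
  have hq' : q'.IsPrime := inferInstance
  have hq'm : q'.comap (algebraMap R (MvPolynomial (Fin n) R)) = IsLocalRing.maximalIdeal R := by
    rw [← hqm]
    ext a
    show π (algebraMap R _ a) ∈ q ↔ _
    rw [π.commutes, Ideal.mem_comap]
  have hflat' := flat_localized_equiv e q'
    ((flat_localized_comap_iff (A := MvPolynomial (Fin n) R) (M := M) hπ q).mp hflat)
  let eQ : ∀ (X : Type u) [AddCommGroup X] [Module R X],
      (M ⊗[R] X) ≃ₗ[MvPolynomial (Fin n) R] _ := fun X _ _ => AlgebraTensorModule.congr e (LinearEquiv.refl R X)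
  have hπs : ∀ (X : Type u) [AddCommGroup X] [Module R X] (a : MvPolynomial (Fin n) R) (w : M ⊗[R] X),
      π a • w = a • w := by
    intro X _ _ a w
    induction w using TensorProduct.induction_on with
    | zero => simp only [smul_zero]
    | tmul m x => rfl
    | add a b ha hb => simp only [smul_add, ha, hb]
  obtain ⟨t, ht, htz⟩ := Monom.exists_kill_of_fibre_nzd T q' hq'm hflat' s' (fun w hw => by
      obtain ⟨w, rfl⟩ := (eQ _).surjective w
      rw [← map_smul, LinearEquiv.map_eq_zero_iff, ← hπs] at hw
      obtain ⟨t, ht, htw⟩ := hs w hw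
      obtain ⟨t', rfl⟩ := hπ t
      exact ⟨t', ht, by rw [← map_smul, ← hπs, htw, map_zero]⟩) Q (eQ Q z)
    (by rw [← map_smul, ← hπs, hz, map_zero])
  refine ⟨π t, ht, (eQ Q).injective ?_⟩
  rw [hπs, map_smul, htz, map_zero]

set_option maxHeartbeats 800000 in -- one long construction
/-- An element regular on the closed fibre of a flat finitely presented module over a local algebra
essentially of finite presentation is regular on every `N ⊗ Q`. -/
theorem eq_zero_of_fibre_nzd {R S : Type u} [CommRing R] [IsLocalRing R] [CommRing S] [IsLocalRing S]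
    [Algebra R S] [IsLocalHom (algebraMap R S)] (hS : FlatCA.EssFinitePresentation R S)
    {N : Type u} [AddCommGroup N] [Module S N] [Module R N] [IsScalarTower R S N]
    [Module.FinitePresentation S N] [Module.Flat R N] (s : S) (hs : s ∈ FlatCA.nzdFiber R S N)
    (Q : Type u) [AddCommGroup Q] [Module R Q] (z : N ⊗[R] Q) (hz : s • z = 0) : z = 0 := by
  obtain ⟨S₀, _, _, _, _, T, _, _⟩ := hS
  let _ : Module S₀ N := Module.compHom N (algebraMap S₀ S)
  have : IsScalarTower S₀ S N := IsScalarTower.of_algebraMap_smul fun _ _ => rfl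
  have : IsScalarTower R S₀ N := IsScalarTower.of_algebraMap_smul fun a m => by
    show algebraMap S₀ S (algebraMap R S₀ a) • m = a • m
    rw [← IsScalarTower.algebraMap_apply, algebraMap_smul]
  obtain ⟨M, _, _, f, _, hf⟩ := exists_fp_model T S N
  let _ : Module R M := Module.compHom M (algebraMap R S₀)
  have : IsScalarTower R S₀ M := IsScalarTower.of_algebraMap_smul fun _ _ => rfl
  let q : Ideal S₀ := (IsLocalRing.maximalIdeal S).comap (algebraMap S₀ S)
  have hqm : q.comap (algebraMap R S₀) = IsLocalRing.maximalIdeal R := by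
    rw [Ideal.comap_comap, ← IsScalarTower.algebraMap_eq]
    exact IsLocalRing.maximalIdeal_comap _
  have hTq : ∀ t ∈ T, t ∉ q := fun t ht h =>
    (IsLocalRing.mem_maximalIdeal _).mp h (IsLocalization.map_units S ⟨t, ht⟩)
  have hunit : ∀ (X : Type u) [AddCommGroup X] [Module R X] (t : S₀) (w : N ⊗[R] X),
      t ∉ q → t • w = 0 → w = 0 := by
    intro X _ _ t w ht htw
    obtain ⟨v, hv⟩ : IsUnit (algebraMap S₀ S t) := not_not.mp fun h => ht ((IsLocalRing.mem_maximalIdeal _).mpr h)
    rw [← algebraMap_smul S t w, ← hv] at htw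
    rw [← one_smul S w, ← Units.inv_mul v, mul_smul, htw, smul_zero]
  have hflat : Module.Flat R (LocalizedModule q.primeCompl M) := by
    rw [flat_localized_iff_kernels]
    intro I w hw
    let ιI := AlgebraTensorModule.rTensor R I f
    have h1 : I.subtype.lTensor N (ιI w) = 0 := by
      have hnat : ∀ v : M ⊗[R] I, I.subtype.lTensor N (ιI v) =
          AlgebraTensorModule.rTensor R R f (I.subtype.lTensor M v) := by
        intro v
        induction v using TensorProduct.induction_on with
        | zero => simp only [map_zero]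
        | tmul a b => rfl
        | add a b ha hb => simp only [map_add, ha, hb]
      rw [hnat, hw, map_zero]
    have h2 : ιI w = 0 := Module.Flat.lTensor_preserves_injective_linearMap (M := N) I.subtype
      Subtype.val_injective (h1.trans (map_zero _).symm)
    obtain ⟨t, ht⟩ := (IsLocalizedModule.eq_zero_iff T ιI).mp h2
    exact ⟨t, hTq t t.2, ht⟩
  obtain ⟨s₀, t₀, rfl⟩ := IsLocalization.exists_mk'_eq T s
  have hs₀ : ∀ (X : Type u) [AddCommGroup X] [Module R X] (w : N ⊗[R] X),
      (IsLocalization.mk' S s₀ t₀ • w = 0 ↔ s₀ • w = 0) := by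
    intro X _ _ w
    rw [← algebraMap_smul S s₀ w, ← IsLocalization.mk'_spec' S s₀ t₀, mul_smul, algebraMap_smul]
    exact ⟨fun h => by rw [h, smul_zero], fun h => hunit X _ _ (hTq _ t₀.2) h⟩
  have hfib : ∀ w : M ⊗[R] (IsLocalRing.maximalIdeal R).ResidueField, s₀ • w = 0 → ∃ t ∉ q, t • w = 0 := by
    intro w hw
    let ι := AlgebraTensorModule.rTensor R (IsLocalRing.maximalIdeal R).ResidueField f
    have h2 : ι w = 0 := by
      have h1 : IsLocalization.mk' S s₀ t₀ • ι w = 0 := (hs₀ _ _).mpr (by rw [← map_smul, hw, map_zero])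
      refine (fibreEquiv (S := S) (IsLocalRing.maximalIdeal R) N).map_eq_zero_iff.mp ?_
      refine mem_nonZeroSMulDivisors_iff.mp hs _ ?_
      rw [← map_smul, h1, map_zero]
    obtain ⟨t, ht⟩ := (IsLocalizedModule.eq_zero_iff T ι).mp h2
    exact ⟨t, hTq t t.2, ht⟩
  let ιQ := AlgebraTensorModule.rTensor R Q f
  obtain ⟨⟨y, t⟩, hy⟩ := IsLocalizedModule.surj T ιQ z
  have h3 : ιQ (s₀ • y) = 0 := by
    rw [map_smul, ← hy, Submonoid.smul_def, smul_comm, (hs₀ Q z).mp hz, smul_zero]
  obtain ⟨t', ht'⟩ := (IsLocalizedModule.eq_zero_iff T ιQ).mp h3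
  rw [Submonoid.smul_def, smul_comm] at ht'
  obtain ⟨t'', ht'', hk⟩ := kill_at_of_fibre_nzd q hqm hflat s₀ hfib Q _ ht'
  refine hunit Q (t'' * t' * t) z
    (q.primeCompl.mul_mem (q.primeCompl.mul_mem ht'' (hTq _ t'.2)) (hTq _ t.2)) ?_
  rw [mul_smul, show (t : S₀) • z = ιQ y from hy, ← map_smul, mul_smul, hk, map_zero]

end Groth.Agent.FlatCrit65
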