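import Groth.Agent.FlatCrit65.Point.Main

/-!
# The expansion of a point ring is universally injective
-/

universe u

noncomputable section

open Polynomial TensorProduct

namespace Groth.Agent.FlatCrit65

variable {R : Type u} [CommRing R] {k : ℕ} (d : PtData R k) (D : Type u) [CommRing D]
  [Algebra R D] [Algebra (QuotA d.f) D] [IsScalarTower R (QuotA d.f) D]
  [IsLocalization (ptSub d.f d.a) D]

theorem isUnit_seriesLift (x : ptSub d.f d.a) :
    IsUnit (AdjoinRoot.lift PtData.toPS d.root d.root_spec (x : QuotA d.f)) := by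
  obtain ⟨_, s, hs, rfl⟩ := x
  show IsUnit (AdjoinRoot.lift PtData.toPS d.root d.root_spec (AdjoinRoot.mk d.f s))
  rw [AdjoinRoot.lift_mk]
  show IsUnit (d.phi s)
  rw [MvPowerSeries.isUnit_iff_constantCoeff, d.constantCoeff_phi]
  exact hs

/-- The expansion of a point ring. -/
def ptSeries : D →+* MvPowerSeries (Fin k) R :=
  IsLocalization.lift (isUnit_seriesLift d)

theorem ptSeries_ptHom (p : PolyA R k) : ptSeries d D (ptHom d D p) = d.phi p := by
  rw [ptHom_apply, ptSeries, IsLocalization.lift_eq, AdjoinRoot.lift_mk]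
  rfl

theorem ptSeries_algebraMap (r : R) : ptSeries d D (algebraMap R D r) = MvPowerSeries.C r := by
  have h : algebraMap R D r = ptHom d D (Polynomial.C (MvPolynomial.C r)) :=
    ((ptHom d D).commutes r).symm
  rw [h, ptSeries_ptHom, d.phi_C, MvPolynomial.coe_C]

/-- A coefficient of the expansion of a point ring. -/
def ptCoeff (e : Fin k →₀ ℕ) : D →ₗ[R] R where
  toFun v := MvPowerSeries.coeff e (ptSeries d D v)
  map_add' a b := by rw [map_add, map_add]
  map_smul' r a := by
    rw [Algebra.smul_def, map_mul, ptSeries_algebraMap, MvPowerSeries.coeff_C_mul]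
    rfl

variable [IsLocalRing R]

theorem mem_map_of_ptCoeff_mem {J : Ideal R} {v : D} (hv : ∀ e, ptCoeff d D e v ∈ J) :
    v ∈ J.map (algebraMap R D) := by
  have h := isPointRing_ptHom d D
  obtain ⟨s, p, hs, hsv⟩ := h.frac v
  refine (Ideal.unit_mul_mem_iff_mem _ (h.unit s hs)).mp ?_
  rw [hsv, h.mem_map_iff, d.rel_iff]
  intro e
  rw [← ptSeries_ptHom d D, ← hsv, map_mul, MvPowerSeries.coeff_mul]
  exact J.sum_mem fun z _ => J.mul_mem_left _ (hv z.2)

omit [IsLocalRing R] in
include d in
theorem flat_point : Module.Flat R D := by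
  have : Module.Free (MvPolynomial (Fin k) R) (QuotA d.f) := d.monic.free_adjoinRoot
  have : Module.Flat R (QuotA d.f) := Module.Flat.trans R (MvPolynomial (Fin k) R) _
  have : Module.Flat (QuotA d.f) D := IsLocalization.flat D (ptSub d.f d.a)
  exact Module.Flat.trans R (QuotA d.f) D

/-- The coefficients of an element of `D ⊗ X` detect it. -/
theorem eq_zero_of_ptCoeff {X : Type u} [AddCommGroup X] [Module R X] (z : D ⊗[R] X)
    (hz : ∀ e, (ptCoeff d D e).rTensor X z = 0) : z = 0 := by
  have := flat_point d D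
  have hcomm : ∀ {Y Z : Type u} [AddCommGroup Y] [Module R Y] [AddCommGroup Z] [Module R Z]
      (g : Y →ₗ[R] Z) (w : D ⊗[R] Y) (e), (ptCoeff d D e).rTensor Z (g.lTensor D w) =
        g.lTensor R ((ptCoeff d D e).rTensor Y w) := fun g w e => by
    rw [← LinearMap.comp_apply, LinearMap.rTensor_comp_lTensor, ← LinearMap.lTensor_comp_rTensor,
      LinearMap.comp_apply]
  -- the cyclic case
  have hcyc : ∀ (Y : Type u) [AddCommGroup Y] [Module R Y] (π : R →ₗ[R] Y), Function.Surjective π →
      ∀ w : D ⊗[R] Y, (∀ e, (ptCoeff d D e).rTensor Y w = 0) → w = 0 := by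
    intro Y _ _ π hπ w hw
    obtain ⟨w', rfl⟩ := LinearMap.lTensor_surjective D hπ w
    obtain ⟨v, rfl⟩ : ∃ v : D, w' = v ⊗ₜ[R] (1 : R) :=
      ⟨TensorProduct.rid R D w', by rw [← TensorProduct.rid_symm_apply, LinearEquiv.symm_apply_apply]⟩
    have hv : v ∈ Ideal.map (algebraMap R D) (LinearMap.ker π : Ideal R) := by
      refine mem_map_of_ptCoeff_mem d D fun e => ?_
      have h := congrArg (TensorProduct.lid R Y) (hw e)
      rw [LinearMap.lTensor_tmul, LinearMap.rTensor_tmul, TensorProduct.lid_tmul, ← map_smul, map_zero,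
        smul_eq_mul, mul_one] at h
      exact h
    rw [LinearMap.lTensor_tmul]
    clear hw
    induction hv using Submodule.span_induction with
    | mem x hx =>
      obtain ⟨a, ha, rfl⟩ := hx
      rw [Algebra.algebraMap_eq_smul_one, TensorProduct.smul_tmul, ← map_smul, smul_eq_mul, mul_one,
        show π a = 0 from ha, TensorProduct.tmul_zero]
    | zero => exact TensorProduct.zero_tmul _ _
    | add x y _ _ hx hy => rw [TensorProduct.add_tmul, hx, hy, add_zero]
    | smul c x _ hx =>
      rw [smul_eq_mul, ← smul_eq_mul, ← TensorProduct.smul_tmul', hx, smul_zero]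
  -- finitely generated modules
  have key : ∀ (m : ℕ) (Y : Type u) [AddCommGroup Y] [Module R Y] (π : (Fin m → R) →ₗ[R] Y),
      Function.Surjective π → ∀ w : D ⊗[R] Y, (∀ e, (ptCoeff d D e).rTensor Y w = 0) → w = 0 := by
    intro m
    induction m with
    | zero =>
      intro Y _ _ π hπ w _
      have : Subsingleton Y := hπ.subsingleton
      exact Subsingleton.elim _ _
    | succ m IH =>
      intro Y _ _ π hπ w hw
      let π₁ : (Fin m → R) →ₗ[R] Y := π.comp (LinearMap.pi fun i =>
        Fin.cases 0 (fun j => LinearMap.proj j) i)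
      let Y₁ := LinearMap.range π₁
      let π₂ : R →ₗ[R] Y ⧸ Y₁ := Y₁.mkQ.comp (π.comp (LinearMap.single R (fun _ => R) 0))
      have hπ₂ : Function.Surjective π₂ := by
        intro y
        obtain ⟨y, rfl⟩ := Y₁.mkQ_surjective y
        obtain ⟨c, rfl⟩ := hπ y
        refine ⟨c 0, ?_⟩
        show Y₁.mkQ (π (Pi.single 0 (c 0))) = Y₁.mkQ (π c)
        rw [← sub_eq_zero, ← map_sub, ← map_sub, Submodule.mkQ_apply, Submodule.Quotient.mk_eq_zero]
        refine ⟨fun j => -c j.succ, ?_⟩
        show π _ = π _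
        congr 1
        funext i
        refine Fin.cases ?_ (fun j => ?_) i <;> simp [Fin.succ_ne_zero]
      have h0 : Y₁.mkQ.lTensor D w = 0 :=
        hcyc _ π₂ hπ₂ _ fun e => by rw [hcomm, hw e, map_zero]
      obtain ⟨w₁, rfl⟩ := (lTensor_exact D (LinearMap.exact_subtype_mkQ Y₁) Y₁.mkQ_surjective w).mp h0
      have : w₁ = 0 := IH Y₁ π₁.rangeRestrict π₁.surjective_rangeRestrict w₁ fun e => by
        refine Module.Flat.lTensor_preserves_injective_linearMap (M := R) Y₁.subtype
          Y₁.injective_subtype ?_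
        rw [← hcomm, hw e, map_zero]
      rw [this, map_zero]
  -- general modules
  obtain ⟨N, hN, z₁, rfl⟩ : ∃ (N : Submodule R X), N.FG ∧ ∃ z₁, N.subtype.lTensor D z₁ = z := by
    clear hz
    induction z using TensorProduct.induction_on with
    | zero => exact ⟨⊥, Submodule.fg_bot, 0, map_zero _⟩
    | tmul v x => exact ⟨Submodule.span R {x}, Submodule.fg_span_singleton x,
        v ⊗ₜ ⟨x, Submodule.mem_span_singleton_self x⟩, rfl⟩
    | add a b ha hb =>
      obtain ⟨N, hN, a, rfl⟩ := ha
      obtain ⟨N', hN', b, rfl⟩ := hb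
      refine ⟨N ⊔ N', hN.sup hN', (Submodule.inclusion le_sup_left).lTensor D a +
        (Submodule.inclusion le_sup_right).lTensor D b, ?_⟩
      rw [map_add, ← LinearMap.lTensor_comp_apply, ← LinearMap.lTensor_comp_apply,
        Submodule.subtype_comp_inclusion, Submodule.subtype_comp_inclusion]
  have : Module.Finite R N := Module.Finite.iff_fg.mpr hN
  obtain ⟨m, π, hπ⟩ := Module.Finite.exists_fin' R N
  have : z₁ = 0 := key m N π hπ z₁ fun e => by
    refine Module.Flat.lTensor_preserves_injective_linearMap (M := R) N.subtype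
      N.injective_subtype ?_
    rw [← hcomm, hz e, map_zero]
  rw [this, map_zero]

end Groth.Agent.FlatCrit65
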