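import Groth.Agent.FlatCrit65.Assassin.Induction
import Groth.Agent.FlatCrit65.Point.General

/-!
# Weakly associated primes of `M ⊗ X` lie over weakly associated primes of `X`
-/

universe u

noncomputable section

open Polynomial TensorProduct

namespace Groth.Agent.FlatCrit65

theorem torsion_map_ideal {R R' W : Type u} [CommRing R] [CommRing R'] [Algebra R R'] [AddCommGroup W]
    [Module R' W] [Module R W] [IsScalarTower R R' W] (I : Ideal R) (x : W)
    (h : ∀ a ∈ I, ∃ n : ℕ, a ^ n • x = 0) : ∀ b ∈ I.map (algebraMap R R'), ∃ n : ℕ, b ^ n • x = 0 := by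
  let J : Ideal R' :=
    { carrier := {b | b • x = 0}
      add_mem' := fun {a b} ha hb => by
        show (a + b) • x = 0
        rw [add_smul, show a • x = 0 from ha, show b • x = 0 from hb, add_zero]
      zero_mem' := zero_smul _ _
      smul_mem' := fun a b hb => by
        show (a * b) • x = 0
        rw [mul_smul, show b • x = 0 from hb, smul_zero] }
  have hle : I.map (algebraMap R R') ≤ J.radical := by
    rw [Ideal.map_le_iff_le_comap]
    intro a ha
    obtain ⟨n, hn⟩ := h a ha
    refine ⟨n, ?_⟩
    show algebraMap R R' a ^ n • x = 0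
    rw [← map_pow, algebraMap_smul, hn]
  exact fun b hb => hle hb

/-- `M ⊗ X → (T' ⊗ M) ⊗ X` is injective for `T → T'` faithfully flat. -/
theorem rTensor_mk_injective {R T T' M : Type u} [CommRing R] [CommRing T] [CommRing T'] [Algebra R T]
    [Algebra T T'] [Algebra R T'] [IsScalarTower R T T'] [Module.FaithfullyFlat T T'] [AddCommGroup M] [Module R M] [Module T M]
    [IsScalarTower R T M] (X : Type u) [AddCommGroup X] [Module R X] (z : M ⊗[R] X)
    (hz : ((TensorProduct.mk T T' M 1).restrictScalars R).rTensor X z = 0) : z = 0 := by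
  let e := AlgebraTensorModule.assoc R T T T' M X
  have key : ∀ w, e (((TensorProduct.mk T T' M 1).restrictScalars R).rTensor X w) = (1 : T') ⊗ₜ[T] w := by
    intro w
    induction w using TensorProduct.induction_on with
    | zero => simp only [map_zero, TensorProduct.tmul_zero]
    | tmul m x => rfl
    | add a b ha hb => simp only [map_add, ha, hb, TensorProduct.tmul_add]
  have h := key z
  rw [hz, map_zero] at h
  refine Module.FaithfullyFlat.tensorProduct_mk_injective (A := T) (B := T') (M ⊗[R] X) ?_
  show (1 : T') ⊗ₜ[T] z = (1 : T') ⊗ₜ[T] 0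
  rw [← h, TensorProduct.tmul_zero]

/-- Transport of `TorsionDescends` along a torsion-descending extension. -/
theorem torsionDescends_of_extension {R R' M M'' : Type u} [CommRing R] [IsLocalRing R] [CommRing R']
    [IsLocalRing R'] [Algebra R R']
    (hmax : IsLocalRing.maximalIdeal R' ≤ (IsLocalRing.maximalIdeal R).map (algebraMap R R'))
    (hext : TorsionExt R R')
    [AddCommGroup M] [Module R M] [AddCommGroup M''] [Module R' M''] [Module R M''] [IsScalarTower R R' M'']
    (hM'' : TorsionDescends R' M'') (j : M →ₗ[R] M'')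
    (hj : ∀ (X : Type u) [AddCommGroup X] [Module R X] (z : M ⊗[R] X), j.rTensor X z = 0 → z = 0) :
    TorsionDescends R M := by
  intro X _ _ x hx ht
  let y : M'' ⊗[R] X := j.rTensor X x
  let e : M'' ⊗[R'] (R' ⊗[R] X) ≃ₗ[R'] M'' ⊗[R] X := AlgebraTensorModule.cancelBaseChange R R' R' M'' X
  have hy : y ≠ 0 := fun h => hx (hj X x h)
  have hyt : ∀ a ∈ IsLocalRing.maximalIdeal R, ∃ n : ℕ, a ^ n • y = 0 := fun a ha => by
    obtain ⟨n, hn⟩ := ht a ha
    exact ⟨n, by rw [← LinearMap.map_smul, hn, LinearMap.map_zero]⟩
  have hyt' := torsion_map_ideal (R' := R') _ y hyt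
  have hey : e.symm y ≠ 0 := fun h => hy ((LinearEquiv.map_eq_zero_iff e.symm).mp h)
  obtain ⟨c', hc', hct⟩ := hM'' (R' ⊗[R] X) (e.symm y) hey (fun b hb => by
    obtain ⟨n, hn⟩ := hyt' b (hmax hb)
    exact ⟨n, by rw [← LinearEquiv.map_smul, hn, LinearEquiv.map_zero]⟩)
  refine hext X c' hc' fun a ha => ?_
  by_cases hab : algebraMap R R' a ∈ IsLocalRing.maximalIdeal R'
  · obtain ⟨n, hn⟩ := hct _ hab
    exact ⟨n, by rw [← algebraMap_smul R' (a ^ n) c', map_pow]; exact hn⟩
  · exfalso
    obtain ⟨n, hn⟩ := hyt a ha
    have hu : IsUnit (algebraMap R R' (a ^ n)) := by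
      rw [map_pow]
      exact (not_not.mp fun h => hab ((IsLocalRing.mem_maximalIdeal _).mpr h)).pow n
    rw [← algebraMap_smul R' (a ^ n) y] at hn
    exact hy (hu.smul_eq_zero.mp hn)

theorem pointTD : ∀ n : ℕ, PointTD.{u} n := by
  intro n
  induction n with
  | zero =>
    intro R S L M _ _ _ _ _ _ _ _ _ _ q _ _ _ _ _ _ _ _ hm _ hdim
    exfalso
    have hne : (IsLocalRing.maximalIdeal R).map (algebraMap R L) ≠ ⊤ := by
      refine ne_top_of_le_ne_top (IsLocalRing.maximalIdeal.isMaximal L).ne_top ?_
      rw [Ideal.map_le_iff_le_comap]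
      intro c hc
      rw [Ideal.mem_comap, IsScalarTower.algebraMap_apply R S L, IsLocalRing.mem_maximalIdeal,
        mem_nonunits_iff, IsLocalization.AtPrime.isUnit_to_map_iff L q]
      exact fun h => h (hm c hc)
    have : Nontrivial (L ⧸ (IsLocalRing.maximalIdeal R).map (algebraMap R L)) :=
      Ideal.Quotient.nontrivial_iff.mpr hne
    exact not_lt.mpr ringKrullDim_nonneg_of_nontrivial (by simpa using hdim)
  | succ n IH =>
    intro R S L M _ _ _ _ _ _ _ _ _ _ q _ _ _ _ _ _ _ _ hm hrat hdim
    obtain ⟨k, hk, t, htq, hmin⟩ := exists_parameters (L := L) q hm n hdim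
    let _ : Algebra (MvPolynomial (Fin k) R) S := (MvPolynomial.aeval t).toRingHom.toAlgebra
    have : IsScalarTower R (MvPolynomial (Fin k) R) S :=
      IsScalarTower.of_algebraMap_eq fun c => ((MvPolynomial.aeval t).commutes c).symm
    have hX : ∀ i, algebraMap (MvPolynomial (Fin k) R) S (MvPolynomial.X i) = t i :=
      fun i => MvPolynomial.aeval_X t i
    have hqf : Algebra.QuasiFiniteAt (MvPolynomial (Fin k) R) q :=
      quasiFiniteAt_of_minimal q hrat (fun i => (hX i).symm ▸ htq i) hm (by simpa only [hX] using hmin)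
    obtain ⟨B', _, _, _, _, _, r', _, hx', hm', hrat', L', _, _, _, _, _, _, hfin, hflat, hff⟩ :=
      exists_finite_split (R := R) (L := L) q hrat (fun i => (hX i).symm ▸ htq i) hm
    obtain ⟨f, a, hmonic, hf, hd, φ, hloc⟩ := exists_std_presentation B' r' hx' hm' hrat'
    set D₀ := Localization.AtPrime r'
    let _ : Algebra (QuotA f) D₀ := φ.toRingHom.toAlgebra
    have : IsScalarTower R (QuotA f) D₀ := IsScalarTower.of_algebraMap_eq fun c => (φ.commutes c).symm
    have : IsLocalization (ptSub f a) D₀ := hloc
    let M' := L' ⊗[L] M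
    let _ : Module D₀ M' := TensorProduct.leftModule
    have : IsScalarTower D₀ L' M' := TensorProduct.isScalarTower_left
    have : Module.Finite D₀ M' := Module.Finite.trans L' M'
    have : IsScalarTower R D₀ M' := IsScalarTower.of_algebraMap_smul fun c m => by
      rw [← algebraMap_smul L' (algebraMap R D₀ c) m, ← IsScalarTower.algebraMap_apply, algebraMap_smul]
    have hflatM' : Module.Flat R M' := flat_tensor_of_flat L' M
    obtain ⟨R', _, _, dd, D, _, _, _, _, _, _, _, hDflat, hDloc, ⟨_, hmax', hext', hcompat, -⟩, htrans⟩ :=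
      exists_point_extension f a hmonic hf hd D₀
    let M'' := D ⊗[D₀] M'
    have : IsScalarTower R' D M'' := TensorProduct.isScalarTower_left
    have := htrans.1 M'
    have hflat'' : Module.Flat R' M'' := Module.Flat.of_linearEquiv (M := RestrictScalars R' D M'')
      ({ (RestrictScalars.addEquiv R' D M'').symm with
          map_smul' := fun r x => by
            show (RestrictScalars.addEquiv R' D M'').symm (r • x) = r • _
            rw [← algebraMap_smul D r x]
            rfl } : M'' ≃ₗ[R'] RestrictScalars R' D M'')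
    let _ : Algebra R D := ((algebraMap D₀ D).comp (algebraMap R D₀)).toAlgebra
    have : IsScalarTower R D₀ D := IsScalarTower.of_algebraMap_eq fun _ => rfl
    have : IsScalarTower R R' D := IsScalarTower.of_algebraMap_eq fun c => hcompat c
    have : IsScalarTower R R' M'' := IsScalarTower.of_algebraMap_smul fun c m => by
      rw [← algebraMap_smul D (algebraMap R R' c) m, ← IsScalarTower.algebraMap_apply, algebraMap_smul]
    have hTD : TorsionDescends R' M'' := torsionDescends_point dd D M'' IH hk
    have hffD : Module.FaithfullyFlat D₀ D := Module.FaithfullyFlat.of_flat_of_isLocalHom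
    -- the composite `M → M''`
    let j₁ : M →ₗ[R] M' := (TensorProduct.mk L L' M 1).restrictScalars R
    let j₂ : M' →ₗ[R] M'' := (TensorProduct.mk D₀ D M' 1).restrictScalars R
    refine torsionDescends_of_extension hmax' hext' hTD (j₂.comp j₁) fun X _ _ z hz => ?_
    rw [LinearMap.rTensor_comp, LinearMap.comp_apply] at hz
    exact rTensor_mk_injective (T := L) (T' := L') X z (rTensor_mk_injective (T := D₀) (T' := D) X _ hz)

section Main

set_option maxHeartbeats 1000000 in -- one long construction
attribute [local instance] Algebra.TensorProduct.rightAlgebra in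
/-- Torsion of `M_p ⊗ X_p` forces torsion of `X_p`, for `M` finite over a local ring of a finitely presented
algebra and flat over the local ring `A` of the base. -/
theorem torsionDescends_localized {R S L M : Type u} [CommRing R] [CommRing S] [Algebra R S]
    [Algebra.FinitePresentation R S] [CommRing L] [IsLocalRing L] [Algebra R L] [Algebra S L]
    [IsScalarTower R S L] (q : Ideal S) [q.IsPrime] [IsLocalization.AtPrime L q]
    (p : Ideal R) [p.IsPrime] (hp : q.comap (algebraMap R S) = p)
    [Algebra (Localization.AtPrime p) L] [IsScalarTower R (Localization.AtPrime p) L]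
    [AddCommGroup M] [Module L M] [Module R M] [IsScalarTower R L M] [Module.Finite L M] [Module.Flat R M]
    [Module (Localization.AtPrime p) M] [IsScalarTower R (Localization.AtPrime p) M]
    [IsScalarTower (Localization.AtPrime p) L M] :
    TorsionDescends (Localization.AtPrime p) M := by
  classical
  let A := Localization.AtPrime p
  have : Module.Flat A M := (Module.flat_iff_of_isLocalization A p.primeCompl M).mpr inferInstance
  obtain ⟨N, φ, hφ⟩ := Algebra.FiniteType.iff_quotient_mvPolynomial''.mp
    (inferInstance : Algebra.FiniteType R S)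
  let res : S →ₐ[R] IsLocalRing.ResidueField L :=
    ((IsScalarTower.toAlgHom R L _).comp (IsScalarTower.toAlgHom R S L))
  have hres : ∀ s, res s = 0 ↔ s ∈ q := fun s => by
    show IsLocalRing.residue L (algebraMap S L s) = 0 ↔ _
    rw [IsLocalRing.residue_eq_zero_iff, IsLocalRing.mem_maximalIdeal, mem_nonunits_iff,
      IsLocalization.AtPrime.isUnit_to_map_iff L q, Ideal.mem_primeCompl_iff, not_not]
  let χ₀ : A →+* IsLocalRing.ResidueField L := (IsLocalRing.residue L).comp (algebraMap A L)
  have hχ₀R : ∀ r : R, χ₀ (algebraMap R A r) = res (algebraMap R S r) := fun r => by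
    show IsLocalRing.residue L (algebraMap A L (algebraMap R A r)) = IsLocalRing.residue L (algebraMap S L (algebraMap R S r))
    rw [← IsScalarTower.algebraMap_apply, ← IsScalarTower.algebraMap_apply]
  have hχ₀ : RingHom.ker χ₀ = IsLocalRing.maximalIdeal A := by
    refine le_antisymm (IsLocalRing.le_maximalIdeal (RingHom.ker_ne_top χ₀)) ?_
    rw [← Localization.AtPrime.map_eq_maximalIdeal, Ideal.map_le_iff_le_comap]
    intro r hr
    show χ₀ (algebraMap R A r) = 0
    rw [hχ₀R, hres]
    rw [← hp] at hr
    exact hr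
  obtain ⟨R', _, _, _, hflat', hmax', hext', χ', hcomp', hker', hθ⟩ :=
    exists_residue_extension N χ₀ hχ₀ (fun i => res (φ (MvPolynomial.X i)))
  let _ : Algebra R R' := ((algebraMap A R').comp (algebraMap R A)).toAlgebra
  have : IsScalarTower R A R' := IsScalarTower.of_algebraMap_eq fun _ => rfl
  have hflatR' : Module.Flat R R' := Module.Flat.trans R A R'
  let χ : R' →ₐ[R] IsLocalRing.ResidueField L :=
    { toRingHom := χ'
      commutes' := fun r => by
        show χ' (algebraMap A R' (algebraMap R A r)) = _
        rw [← RingHom.comp_apply, hcomp', hχ₀R, res.commutes] }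
  have hχ : ∀ c, χ c = χ' c := fun _ => rfl
  have hsurj : ∀ s : S, res s ∈ χ.range := by
    intro s
    obtain ⟨b, rfl⟩ := hφ s
    induction b using MvPolynomial.induction_on with
    | C c => exact ⟨algebraMap R R' c, by rw [← MvPolynomial.algebraMap_eq, φ.commutes, res.commutes]; exact χ.commutes c⟩
    | add a b ha hb => rw [map_add, map_add]; exact add_mem ha hb
    | mul_X a i ha =>
      rw [map_mul, map_mul]
      exact mul_mem ha (hθ i)
  let S' := R' ⊗[R] S
  let ε : S' →ₐ[R] IsLocalRing.ResidueField L :=
    Algebra.TensorProduct.lift χ res fun _ _ => .all _ _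
  let q' : Ideal S' := RingHom.ker ε.toRingHom
  have hq' : q'.IsPrime := RingHom.ker_isPrime _
  have hcomap : q'.comap (algebraMap S S') = q := by
    ext s
    show ε (1 ⊗ₜ s) = 0 ↔ _
    rw [Algebra.TensorProduct.lift_tmul, map_one, one_mul, hres]
  have hm : ∀ c ∈ IsLocalRing.maximalIdeal R', algebraMap R' S' c ∈ q' := by
    intro c hc
    show ε (c ⊗ₜ 1) = 0
    rw [Algebra.TensorProduct.lift_tmul, map_one, mul_one, hχ]
    rw [← hker'] at hc
    exact hc
  have hrat : ∀ z : S', ∃ c : R', z - algebraMap R' S' c ∈ q' := by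
    intro z
    have hz : ε z ∈ χ.range := by
      induction z using TensorProduct.induction_on with
      | zero => rw [map_zero]; exact zero_mem _
      | tmul c s =>
        rw [Algebra.TensorProduct.lift_tmul]
        exact mul_mem ⟨c, rfl⟩ (hsurj s)
      | add a b ha hb => rw [map_add]; exact add_mem ha hb
    obtain ⟨c, hc⟩ := hz
    refine ⟨c, ?_⟩
    show ε (z - c ⊗ₜ 1) = 0
    rw [map_sub, Algebra.TensorProduct.lift_tmul, map_one, mul_one, ← hc]
    exact sub_self _
  let L' := Localization.AtPrime q'
  have hunits : ∀ s : q.primeCompl, IsUnit ((algebraMap S' L').comp (algebraMap S S') s) := fun s =>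
    IsLocalization.map_units (M := q'.primeCompl) L'
      (⟨algebraMap S S' s, fun h => s.2 (hcomap.le h)⟩ : q'.primeCompl)
  let _ : Algebra L L' := (IsLocalization.lift (S := L) hunits).toAlgebra
  have : IsScalarTower S L L' := IsScalarTower.of_algebraMap_eq fun s =>
    (IsScalarTower.algebraMap_apply S S' L' s).trans (IsLocalization.lift_eq (S := L) hunits s).symm
  have : IsScalarTower R L L' := IsScalarTower.of_algebraMap_eq fun c => by
    rw [IsScalarTower.algebraMap_apply R S L, ← IsScalarTower.algebraMap_apply S L L',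
      IsScalarTower.algebraMap_apply S S' L', ← IsScalarTower.algebraMap_apply R S S',
      ← IsScalarTower.algebraMap_apply R S' L']
  have : IsScalarTower A R' L' := inferInstance
  have : IsScalarTower A L L' := IsScalarTower.of_algebraMap_eq' <| IsLocalization.ringHom_ext p.primeCompl <| by
    refine RingHom.ext fun r => ?_
    show algebraMap A L' (algebraMap R A r) = algebraMap L L' (algebraMap A L (algebraMap R A r))
    rw [IsScalarTower.algebraMap_apply A R' L', ← IsScalarTower.algebraMap_apply R A R',
      ← IsScalarTower.algebraMap_apply R A L, ← IsScalarTower.algebraMap_apply R L L',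
      ← IsScalarTower.algebraMap_apply R R' L']
  have hff := faithfullyFlat_localizations (R := R) (R' := R') (L := L) (L' := L') q q' hcomap
  have : Algebra.FinitePresentation R' S' := inferInstance
  have : Algebra.EssFiniteType R' L' :=
    have := Algebra.EssFiniteType.of_isLocalization (S := L') q'.primeCompl
    Algebra.EssFiniteType.comp R' S' L'
  have := isNoetherianRing_closedFibre (R := R') L'
  have hne : (IsLocalRing.maximalIdeal R').map (algebraMap R' L') ≠ ⊤ := by
    refine ne_top_of_le_ne_top (IsLocalRing.maximalIdeal.isMaximal L').ne_top ?_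
    rw [Ideal.map_le_iff_le_comap]
    intro c hc
    rw [Ideal.mem_comap, IsScalarTower.algebraMap_apply R' S' L', IsLocalRing.mem_maximalIdeal,
      mem_nonunits_iff, IsLocalization.AtPrime.isUnit_to_map_iff L' q']
    exact fun h => h (hm c hc)
  have : Nontrivial (L' ⧸ (IsLocalRing.maximalIdeal R').map (algebraMap R' L')) :=
    Ideal.Quotient.nontrivial_iff.mpr hne
  have : IsLocalRing (L' ⧸ (IsLocalRing.maximalIdeal R').map (algebraMap R' L')) :=
    .of_surjective' _ Ideal.Quotient.mk_surjective
  obtain ⟨n, hn⟩ := exists_nat_ringKrullDim_lt (L' ⧸ (IsLocalRing.maximalIdeal R').map (algebraMap R' L'))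
  have : IsScalarTower R' L' (L' ⊗[L] M) := TensorProduct.isScalarTower_left
  have hflat0 := flat_tensor_localizations (R := R) (R' := R') (L := L) (L' := L') (M := M) q q'
  have : Module.Flat R' (L' ⊗[L] M) := Module.Flat.of_linearEquiv (M := RestrictScalars R' L' (L' ⊗[L] M))
      ({ (RestrictScalars.addEquiv R' L' (L' ⊗[L] M)).symm with
          map_smul' := fun r x => by
            show (RestrictScalars.addEquiv R' L' (L' ⊗[L] M)).symm (r • x) = r • _
            rw [← algebraMap_smul L' r x]
            rfl } : L' ⊗[L] M ≃ₗ[R'] RestrictScalars R' L' (L' ⊗[L] M))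
  have : IsScalarTower A R' (L' ⊗[L] M) := IsScalarTower.of_algebraMap_smul fun c m => by
    rw [← algebraMap_smul L' (algebraMap A R' c) m, ← IsScalarTower.algebraMap_apply, algebraMap_smul]
  exact torsionDescends_of_extension hmax'.le hext' (pointTD n R' S' L' (L' ⊗[L] M) q' hm hrat hn)
    ((TensorProduct.mk L L' M 1).restrictScalars A) fun X _ _ z hz => rTensor_mk_injective (T := L) X z hz

/-- If a nonzero element of `M ⊗ X` is killed by powers of every element of `p`, then so is, at `p`,
an element of `X` which is nonzero at `p`. -/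
theorem exists_torsion_of_flat {R S L M : Type u} [CommRing R] [CommRing S] [Algebra R S]
    [Algebra.FinitePresentation R S] [CommRing L] [IsLocalRing L] [Algebra R L] [Algebra S L]
    [IsScalarTower R S L] (q : Ideal S) [q.IsPrime] [IsLocalization.AtPrime L q]
    [AddCommGroup M] [Module L M] [Module R M] [IsScalarTower R L M] [Module.Finite L M] [Module.Flat R M]
    (p : Ideal R) [p.IsPrime] (hp : q.comap (algebraMap R S) = p)
    {X : Type u} [AddCommGroup X] [Module R X] (x : M ⊗[R] X) (hx : x ≠ 0)
    (ht : ∀ a ∈ p, ∃ n : ℕ, a ^ n • x = 0) :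
    ∃ c : X, (∀ s ∉ p, s • c ≠ 0) ∧ ∀ a ∈ p, ∃ n : ℕ, ∃ s ∉ p, s • a ^ n • c = 0 := by
  let A := Localization.AtPrime p
  have hunit : ∀ s : p.primeCompl, IsUnit (algebraMap R L s) := fun s => by
    rw [IsScalarTower.algebraMap_apply R S L, IsLocalization.AtPrime.isUnit_to_map_iff L q]
    exact fun h => s.2 (hp ▸ h : (s : R) ∈ p)
  let _ : Algebra A L := (IsLocalization.lift hunit).toAlgebra
  have : IsScalarTower R A L := IsScalarTower.of_algebraMap_eq fun r => (IsLocalization.lift_eq hunit r).symm
  let _ : Module A M := Module.compHom M (algebraMap A L)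
  have : IsScalarTower A L M := IsScalarTower.of_algebraMap_smul fun _ _ => rfl
  have : IsScalarTower R A M := IsScalarTower.of_algebraMap_smul fun r m => by
    show algebraMap A L (algebraMap R A r) • m = r • m
    rw [← IsScalarTower.algebraMap_apply, algebraMap_smul]
  have hTD := torsionDescends_localized (R := R) (L := L) (M := M) q p hp
  let e : M ⊗[A] (A ⊗[R] X) ≃ₗ[A] M ⊗[R] X := AlgebraTensorModule.cancelBaseChange R A A M X
  have hex : e.symm x ≠ 0 := fun h => hx ((LinearEquiv.map_eq_zero_iff e.symm).mp h)
  obtain ⟨c, hc, hct⟩ := hTD (A ⊗[R] X) (e.symm x) hex (fun b hb => by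
    rw [← Localization.AtPrime.map_eq_maximalIdeal] at hb
    obtain ⟨n, hn⟩ := torsion_map_ideal (R' := A) p x ht b hb
    exact ⟨n, by rw [← LinearEquiv.map_smul, hn, LinearEquiv.map_zero]⟩)
  obtain ⟨⟨c₀, t⟩, htc⟩ := IsLocalizedModule.surj p.primeCompl (TensorProduct.mk R A X 1) c
  refine ⟨c₀, fun s hs hsc => hc ?_, fun a ha => ?_⟩
  · have h0 : TensorProduct.mk R A X 1 c₀ = 0 :=
      (IsLocalizedModule.eq_zero_iff p.primeCompl _).mpr ⟨⟨s, hs⟩, hsc⟩
    rw [h0] at htc
    exact IsLocalizedModule.smul_injective (TensorProduct.mk R A X 1) t (htc.trans (smul_zero t).symm)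
  · obtain ⟨n, hn⟩ := hct (algebraMap R A a) (by
      rw [← Localization.AtPrime.map_eq_maximalIdeal]; exact Ideal.mem_map_of_mem _ ha)
    rw [← map_pow, algebraMap_smul] at hn
    have h0 : TensorProduct.mk R A X 1 (a ^ n • c₀) = 0 := by
      rw [LinearMap.map_smul, ← htc, Submonoid.smul_def, smul_comm, hn, smul_zero]
    obtain ⟨s, hsc⟩ := (IsLocalizedModule.eq_zero_iff p.primeCompl _).mp h0
    exact ⟨n, s, s.2, hsc⟩

end Main

end Groth.Agent.FlatCrit65
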