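import Groth.Agent.FlatCrit65.Assassin.KillFinite
import Groth.Agent.FlatCrit65.Assassin.Descends
import Groth.Agent.FlatMor67.PurePush
import Groth.Agent.CAlg5.WeakAss
import Mathlib.RingTheory.Ideal.AssociatedPrime.Finiteness

/-!
# Weakly associated primes of `N ⊗ X` for `N` flat at a prime
-/

universe u

noncomputable section

open TensorProduct

attribute [local instance] Algebra.TensorProduct.rightAlgebra

namespace Groth.Agent.FlatCrit65

variable {R S : Type u} [CommRing R] [CommRing S] [Algebra R S]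
  {N : Type u} [AddCommGroup N] [Module S N] [Module R N] [IsScalarTower R S N]
  {p : Ideal R} [p.IsPrime]

theorem smul_fibre_eq_zero {c : R} (hc : c ∈ p) (z : N ⊗[R] p.ResidueField) : algebraMap R S c • z = 0 := by
  induction z using TensorProduct.induction_on with
  | zero => exact smul_zero _
  | tmul m x =>
    rw [smul_tmul', algebraMap_smul, smul_tmul, Algebra.smul_def, Ideal.algebraMap_residueField_eq_zero.mpr hc,
      zero_mul, tmul_zero]
  | add a b ha hb => rw [smul_add, ha, hb, add_zero]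

theorem eq_zero_of_smul_fibre {c : R} (hc : c ∉ p) {z : N ⊗[R] p.ResidueField}
    (h : algebraMap R S c • z = 0) : z = 0 := by
  have hne : algebraMap R p.ResidueField c ≠ 0 := fun h0 => hc (Ideal.algebraMap_residueField_eq_zero.mp h0)
  let div : N ⊗[R] p.ResidueField →ₗ[R] N ⊗[R] p.ResidueField :=
    ((LinearMap.mulLeft R (algebraMap R p.ResidueField c)⁻¹).lTensor N)
  have hdiv : ∀ w, div (algebraMap R S c • w) = w := by
    intro w
    induction w using TensorProduct.induction_on with
    | zero => simp only [smul_zero, map_zero]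
    | tmul m x =>
      rw [smul_tmul', algebraMap_smul, smul_tmul]
      show m ⊗ₜ[R] ((algebraMap R p.ResidueField c)⁻¹ * (c • x)) = _
      rw [Algebra.smul_def, inv_mul_cancel_left₀ hne]
    | add a b ha hb => simp only [smul_add, map_add, ha, hb]
  rw [← hdiv z, h, map_zero]

/-- An associated point of the fibre is a weakly associated prime of the fibre. -/
theorem mem_weakAss_fibre {q : Ideal S} [q.IsPrime] [q.LiesOver p]
    (h : FlatCA.fiberIdeal p q ∈ associatedPrimes (p.Fiber S) (FlatCA.fiberMod p S N)) :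
    q ∈ FlatCA.weakAss S (N ⊗[R] p.ResidueField) := by
  obtain ⟨y, hy⟩ := (Groth.Agent.FlatMor67.PurePush.ass_fiber_iff p q).mp h
  refine Groth.Agent.CAlg5.mem_weakAss_iff.mpr ⟨y, fun s hs => (hy s).mpr ⟨1, by rw [pow_one, hs]⟩, fun r hr => ?_⟩
  obtain ⟨k, hk⟩ := (hy r).mp hr
  exact ⟨1, q.primeCompl.one_mem, k, by rw [one_mul, hk]⟩

theorem liesOver_of_mem_weakAss_fibre {q : Ideal S}
    (h : q ∈ FlatCA.weakAss S (N ⊗[R] p.ResidueField)) : q.LiesOver p := by
  have := Groth.Agent.CAlg5.weakAss_isPrime h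
  obtain ⟨z, hz, hz'⟩ := Groth.Agent.CAlg5.mem_weakAss_iff.mp h
  refine ⟨SetLike.ext fun c => ⟨fun hc => hz _ (smul_fibre_eq_zero hc z), fun hc => ?_⟩⟩
  by_contra hcp
  obtain ⟨t, ht, k, hk⟩ := hz' _ hc
  refine ht (hz t ?_)
  refine eq_zero_of_smul_fibre (S := S) (p.primeCompl.pow_mem hcp k) ?_
  rw [map_pow, ← mul_smul, mul_comm, hk]

variable [Algebra.FiniteType R S]

/-- A weakly associated prime of the fibre is an associated point of the fibre. -/
theorem fiberIdeal_mem_ass {q : Ideal S} [q.IsPrime] [q.LiesOver p]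
    (h : q ∈ FlatCA.weakAss S (N ⊗[R] p.ResidueField)) :
    FlatCA.fiberIdeal p q ∈ associatedPrimes (p.Fiber S) (FlatCA.fiberMod p S N) := by
  have : IsNoetherianRing (p.Fiber S) := Algebra.FiniteType.isNoetherianRing p.ResidueField _
  obtain ⟨z, hz⟩ := h
  let z' := fibreEquiv (S := S) p N z
  have hann : ∀ b : S, algebraMap S (p.Fiber S) b • z' = 0 ↔ b • z = 0 := fun b => by
    rw [show algebraMap S (p.Fiber S) b • z' = b • z' from one_tmul_smul_fiberMod (R := R) (p := p) (N := N) b _,
      ← map_smul, LinearEquiv.map_eq_zero_iff]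
  -- a minimal prime below the extension of `q`
  have hcq : (FlatCA.fiberIdeal p q).comap (algebraMap S (p.Fiber S)) = q :=
    Groth.Agent.FlatMor67.PurePush.comap_fiberIdeal p q
  have hprime : (FlatCA.fiberIdeal p q).IsPrime := by
    let P := (PrimeSpectrum.preimageEquivFiber R S ⟨p, inferInstance⟩
      ⟨⟨q, inferInstance⟩, PrimeSpectrum.ext (Ideal.LiesOver.over (P := q) (p := p)).symm⟩)
    have hP : P.asIdeal.comap (algebraMap S (p.Fiber S)) = q :=
      congrArg (fun z => z.1.asIdeal) ((PrimeSpectrum.preimageEquivFiber R S ⟨p, inferInstance⟩).symm_apply_apply _)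
    have : FlatCA.fiberIdeal p q = P.asIdeal := by
      conv_lhs => rw [← hP]
      exact fiberIdeal_comap P.asIdeal
    rw [this]
    infer_instance
  have hle : (⊥ : Submodule (p.Fiber S) (FlatCA.fiberMod p S N)).colon {z'} ≤ FlatCA.fiberIdeal p q := by
    intro a ha
    obtain ⟨c, hc, b, hcb⟩ := Ideal.Fiber.exists_smul_eq_one_tmul p a
    have hb : b ∈ q := by
      refine hz.1.2 (Groth.Agent.CAlg5.mem_ann.mpr ((hann b).mp ?_))
      show ((1 : p.ResidueField) ⊗ₜ[R] b : p.Fiber S) • z' = 0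
      rw [← hcb]
      rw [Submodule.mem_colon_singleton, Submodule.mem_bot] at ha
      rw [← algebraMap_smul (p.Fiber S) c a, smul_eq_mul, mul_smul, ha, smul_zero]
    have hu : IsUnit (algebraMap R (p.Fiber S) c) := by
      rw [IsScalarTower.algebraMap_apply R p.ResidueField (p.Fiber S)]
      exact (IsUnit.mk0 _ fun h0 => hc (Ideal.algebraMap_residueField_eq_zero.mp h0)).map _
    rw [← Ideal.unit_mul_mem_iff_mem _ hu, ← Algebra.smul_def, hcb]
    exact Ideal.mem_map_of_mem _ hb
  obtain ⟨P, hP, hPq⟩ := Ideal.exists_minimalPrimes_le hle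
  have := hP.1.1
  have hPc : P.comap (algebraMap S (p.Fiber S)) = q := by
    refine le_antisymm ((Ideal.comap_mono hPq).trans hcq.le) ?_
    refine hz.2 ⟨inferInstance, fun b hb => hP.1.2 ?_⟩ ((Ideal.comap_mono hPq).trans hcq.le)
    rw [Submodule.mem_colon_singleton, Submodule.mem_bot]
    exact (hann b).mpr (Groth.Agent.CAlg5.mem_ann.mp hb)
  rw [← hPc, fiberIdeal_comap]
  exact isAssociatedPrime_iff.mpr ⟨hP.1.1, Submodule.exists_eq_colon_of_mem_minimalPrimes hP⟩

variable [Module.Finite S N]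

/-- Finitely many points are associated to a fibre. -/
theorem finite_weakAss_fibre (p : Ideal R) [p.IsPrime] :
    (FlatCA.weakAss S (N ⊗[R] p.ResidueField)).Finite := by
  have : IsNoetherianRing (p.Fiber S) := Algebra.FiniteType.isNoetherianRing p.ResidueField _
  have : Module.Finite (p.Fiber S) (FlatCA.fiberMod p S N) :=
    inferInstanceAs (Module.Finite (p.Fiber S) ((p.Fiber S) ⊗[S] N))
  refine ((associatedPrimes.finite (p.Fiber S) (FlatCA.fiberMod p S N)).image
    (Ideal.comap (algebraMap S (p.Fiber S)))).subset fun q hq => ?_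
  have := Groth.Agent.CAlg5.weakAss_isPrime hq
  have := liesOver_of_mem_weakAss_fibre hq
  exact ⟨_, fiberIdeal_mem_ass hq, Groth.Agent.FlatMor67.PurePush.comap_fiberIdeal p q⟩

omit [Algebra.FiniteType R S] [Module.Finite S N] in
/-- An element outside all weakly associated primes below `q` is regular at `q`. -/
theorem exists_kill_of_avoid {V : Type u} [AddCommGroup V] [Module S V] (q : Ideal S) [q.IsPrime] (s : S)
    (h : ∀ q₁ ∈ FlatCA.weakAss S V, q₁ ≤ q → s ∉ q₁) (v : V) (hv : s • v = 0) :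
    ∃ t ∉ q, t • v = 0 := by
  by_contra hne
  push Not at hne
  have hle : (Submodule.span S {v}).annihilator ≤ q := fun t ht => by
    by_contra htq
    exact hne t htq (Groth.Agent.CAlg5.mem_ann.mp ht)
  obtain ⟨q₁, hq₁, hq₁q⟩ := Ideal.exists_minimalPrimes_le hle
  exact h q₁ ⟨v, hq₁⟩ hq₁q (hq₁.1.2 (Groth.Agent.CAlg5.mem_ann.mpr hv))

/-- A point which is not associated to the fibre contains an element regular at it on the fibre. -/
theorem exists_regular_at {q : Ideal S} [q.IsPrime]
    (hq : q ∉ FlatCA.weakAss S (N ⊗[R] p.ResidueField)) :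
    ∃ s ∈ q, ∀ z : N ⊗[R] p.ResidueField, s • z = 0 → ∃ t ∉ q, t • z = 0 := by
  classical
  let F := (finite_weakAss_fibre (S := S) (N := N) p).toFinset.filter (fun q₁ => q₁ ≤ q)
  have hne : ¬ ((q : Set S) ⊆ ⋃ i ∈ (↑F : Set (Ideal S)), (i : Set S)) := by
    intro hsub
    obtain ⟨q₁, hq₁, hle⟩ := (Ideal.subset_union_prime q q fun i hi _ _ =>
      Groth.Agent.CAlg5.weakAss_isPrime ((Set.Finite.mem_toFinset _).mp (Finset.mem_filter.mp hi).1)).mp hsub
    obtain ⟨hw, hle'⟩ := Finset.mem_filter.mp hq₁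
    exact hq (le_antisymm hle hle' ▸ (Set.Finite.mem_toFinset _).mp hw)
  obtain ⟨s, hs, hsF⟩ := Set.not_subset.mp hne
  refine ⟨s, hs, exists_kill_of_avoid q s fun q₁ hq₁ hle hs₁ => hsF ?_⟩
  exact Set.mem_biUnion (Finset.mem_coe.mpr (Finset.mem_filter.mpr ⟨(Set.Finite.mem_toFinset _).mpr hq₁, hle⟩)) hs₁

end Groth.Agent.FlatCrit65
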