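import Groth.Agent.FlatCrit65.Assassin.Valuation
import Groth.Agent.FlatCrit65.Assassin.Points
import Groth.Agent.CAlg6.FiberMod
import Mathlib.RingTheory.Valuation.LocalSubring

/-!
# Flat modules over the local ring of a base have no elements divisible modulo a nonmaximal prime
-/

universe u

noncomputable section

open TensorProduct

attribute [local instance] Algebra.TensorProduct.rightAlgebra

namespace Groth.Agent.FlatCrit65

/-- Flatness at a prime passes to a base change at a compatible prime. -/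
theorem flat_localized_baseChange {R S M V S' M' : Type u} [CommRing R] [CommRing S] [Algebra R S]
    [AddCommGroup M] [Module S M] [Module R M] [IsScalarTower R S M]
    [CommRing V] [Algebra R V] [CommRing S'] [Algebra V S'] [Algebra S S']
    [AddCommGroup M'] [Module S' M'] [Module S M'] [IsScalarTower S S' M'] [Module V M'] [Module R M']
    [IsScalarTower V S' M'] [IsScalarTower R V M'] [IsScalarTower R S M']
    (f : M →ₗ[S] M') (hf : IsBaseChange V (f.restrictScalars R))
    (q : Ideal S) [q.IsPrime] [Module.Flat R (LocalizedModule q.primeCompl M)]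
    (q' : Ideal S') [q'.IsPrime] (hout : ∀ t ∉ q, algebraMap S S' t ∉ q') :
    Module.Flat V (LocalizedModule q'.primeCompl M') := by
  refine (flat_localized_iff_kernels q').mpr fun I z hz => ?_
  let Ψ : M ⊗[R] I →+ M' ⊗[V] I := TensorProduct.liftAddHom
      { toFun := fun m =>
          { toFun := fun i => f m ⊗ₜ[V] i
            map_zero' := tmul_zero _ _
            map_add' := fun c d => tmul_add _ c d }
        map_zero' := by ext; simp
        map_add' := fun a b => by ext; simp [add_tmul] }
      (fun r x i => by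
        show f (r • x) ⊗ₜ[V] i = f x ⊗ₜ[V] (r • i)
        rw [← algebraMap_smul V r i, ← smul_tmul, algebraMap_smul, LinearMap.map_smul_of_tower])
  have hΨs : ∀ (c : S) w, Ψ (c • w) = algebraMap S S' c • Ψ w := by
    intro c w
    induction w using TensorProduct.induction_on with
    | zero => simp only [smul_zero, map_zero]
    | tmul x i =>
      show f (c • x) ⊗ₜ[V] i = algebraMap S S' c • (f x ⊗ₜ[V] i)
      rw [smul_tmul', algebraMap_smul, map_smul]
    | add a b ha hb => simp only [smul_add, map_add, ha, hb]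
  have hΨsurj : Function.Surjective Ψ := by
    intro z
    induction z using TensorProduct.induction_on with
    | zero => exact ⟨0, map_zero _⟩
    | tmul x i =>
      induction x using hf.inductionOn generalizing i with
      | zero => exact ⟨0, by rw [map_zero, zero_tmul]⟩
      | tmul x => exact ⟨x ⊗ₜ[R] i, rfl⟩
      | smul v x hx =>
        obtain ⟨w, hw⟩ := hx (v • i)
        exact ⟨w, by rw [hw, smul_tmul]⟩
      | add a b ha hb =>
        obtain ⟨w₁, hw₁⟩ := ha i
        obtain ⟨w₂, hw₂⟩ := hb i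
        exact ⟨w₁ + w₂, by rw [map_add, hw₁, hw₂, add_tmul]⟩
    | add a b ha hb =>
      obtain ⟨w₁, hw₁⟩ := ha
      obtain ⟨w₂, hw₂⟩ := hb
      exact ⟨w₁ + w₂, by rw [map_add, hw₁, hw₂]⟩
  obtain ⟨w, rfl⟩ := hΨsurj z
  let IR : I →ₗ[R] V := I.subtype.restrictScalars R
  have key : ∀ w, TensorProduct.comm R V M (hf.equiv.symm (TensorProduct.rid V M' (I.subtype.lTensor M' (Ψ w)))) =
      IR.lTensor M w := by
    intro w
    induction w using TensorProduct.induction_on with
    | zero => simp only [map_zero]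
    | tmul x i =>
      show TensorProduct.comm R V M (hf.equiv.symm ((i : V) • (f.restrictScalars R) x)) = x ⊗ₜ[R] (i : V)
      rw [map_smul, hf.equiv_symm_apply, smul_tmul', smul_eq_mul, mul_one, TensorProduct.comm_tmul]
    | add a b ha hb => simp only [map_add, ha, hb]
  have h0 : IR.lTensor M w = 0 := by rw [← key, hz, map_zero, map_zero, map_zero]
  obtain ⟨t, ht, htw⟩ := exists_smul_eq_zero_of_injective q.primeCompl IR
    (Module.Flat.lTensor_preserves_injective_linearMap (M := LocalizedModule q.primeCompl M) IR Subtype.val_injective) w h0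
  exact ⟨algebraMap S S' t, hout t ht, by rw [← hΨs, htw, map_zero]⟩

/-- A divisible element dies at the valuation point of a base change. -/
theorem exists_kill_of_divisible {R S M V S' M' : Type u} [CommRing R] [CommRing S] [Algebra R S]
    [AddCommGroup M] [Module S M] [Module R M] [IsScalarTower R S M]
    [CommRing V] [IsDomain V] [ValuationRing V] [Algebra R V] [CommRing S'] [Algebra V S'] [Algebra S S']
    [Algebra R S'] [IsScalarTower R S S'] [IsScalarTower R V S'] [Algebra.FinitePresentation V S']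
    [AddCommGroup M'] [Module S' M'] [Module S M'] [IsScalarTower S S' M'] [Module V M'] [Module R M']
    [IsScalarTower V S' M'] [IsScalarTower R V M'] [IsScalarTower R S M'] [Module.Finite S' M']
    (f : M →ₗ[S] M') (hf : IsBaseChange V (f.restrictScalars R))
    (q : Ideal S) [q.IsPrime] [Module.Flat R (LocalizedModule q.primeCompl M)]
    (q' : Ideal S') [q'.IsPrime] (hout : ∀ t ∉ q, algebraMap S S' t ∉ q')
    {m₀ : V} (hm₀ : m₀ ≠ 0) (hm₀q : algebraMap V S' m₀ ∈ q')
    (n : LocalizedModule q.primeCompl M)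
    (hdiv : ∀ v : V, v ≠ 0 → ∃ (a s : R), v * algebraMap R V s = algebraMap R V a ∧
      ∃ (n' : LocalizedModule q.primeCompl M) (t : S), t ∉ q ∧ ∃ (l : Multiset (R × LocalizedModule q.primeCompl M)),
        (∀ x ∈ l, algebraMap R V x.1 = 0) ∧ t • (n - a • n') = (l.map fun x => x.1 • x.2).sum)
    (m : M) (t₀ : S) (ht₀ : t₀ • n = LocalizedModule.mkLinearMap q.primeCompl M m) :
    ∃ t' ∉ q', t' • f m = 0 := by
  have hflat' := flat_localized_baseChange f hf q q' hout
  let ι := LocalizedModule.mkLinearMap q.primeCompl M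
  let ι' := LocalizedModule.mkLinearMap q'.primeCompl M'
  let j₀ : M →ₗ[S] LocalizedModule q'.primeCompl M' := (ι'.restrictScalars S).comp f
  have hj₀ : ∀ t : q.primeCompl, IsUnit (algebraMap S (Module.End S (LocalizedModule q'.primeCompl M')) t) := fun t => by
    have h1 := IsLocalizedModule.map_units ι' (⟨algebraMap S S' t, hout t t.2⟩ : q'.primeCompl)
    refine (Module.End.isUnit_iff _).mpr ?_
    convert (Module.End.isUnit_iff _).mp h1 using 1
    funext x
    exact (algebraMap_smul S' (t : S) x).symm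
  let j : LocalizedModule q.primeCompl M →ₗ[S] LocalizedModule q'.primeCompl M' :=
    IsLocalizedModule.lift q.primeCompl ι j₀ hj₀
  have hj : ∀ x, j (ι x) = j₀ x := IsLocalizedModule.lift_apply q.primeCompl ι j₀ hj₀
  have hjR : ∀ (r : R) x, j (r • x) = algebraMap R V r • j x := fun r x => by
    rw [← algebraMap_smul S r x, map_smul, ← algebraMap_smul S' (algebraMap R S r) (j x),
      ← algebraMap_smul S' (algebraMap R V r) (j x), ← IsScalarTower.algebraMap_apply, ← IsScalarTower.algebraMap_apply]
  have hdiv' : ∀ v : V, v ≠ 0 → ∃ z', v • z' = j n := by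
    intro v hv
    obtain ⟨a, s, has, n', t, ht, l, hl, hsum⟩ := hdiv v hv
    refine ⟨algebraMap R V s • j n', ?_⟩
    rw [← mul_smul, has, ← hjR]
    have h0 : t • j (n - a • n') = 0 := by
      rw [← map_smul, hsum, map_multiset_sum, Multiset.map_map]
      refine Multiset.sum_eq_zero fun y hy => ?_
      obtain ⟨x, hx, rfl⟩ := Multiset.mem_map.mp hy
      rw [Function.comp_apply, hjR, hl x hx, zero_smul]
    have h1 : j (n - a • n') = 0 := by
      refine ((Module.End.isUnit_iff _).mp (hj₀ ⟨t, ht⟩)).1 ?_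
      rw [map_zero]
      exact h0
    rw [map_sub, sub_eq_zero] at h1
    exact h1.symm
  have hjn : j n = 0 := eq_zero_of_divisible_valuation q' hm₀ hm₀q (j n) hdiv'
  have h1 : ι' (f m) = 0 := by
    show j₀ m = 0
    rw [← hj, ← ht₀, map_smul, hjn, smul_zero]
  obtain ⟨⟨t', ht'⟩, ht'm⟩ := (IsLocalizedModule.eq_zero_iff q'.primeCompl ι').mp h1
  exact ⟨t', ht', ht'm⟩

/-- A valuation ring dominating a prime through a map to a field. -/
theorem exists_valuation_dominating {S F : Type u} [CommRing S] [Field F] (σ : S →+* F) (q : Ideal S) [q.IsPrime]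
    (hσ : RingHom.ker σ ≤ q) :
    ∃ W : ValuationSubring F, ∃ h : ∀ s, σ s ∈ W, ∀ s, (⟨σ s, h s⟩ : W) ∈ IsLocalRing.maximalIdeal W ↔ s ∈ q := by
  have hunit : ∀ t : q.primeCompl, IsUnit (σ t) := fun t => IsUnit.mk0 _ fun h0 => t.2 (hσ h0)
  let g : Localization.AtPrime q →+* F := IsLocalization.lift hunit
  have hg : ∀ s : S, g (algebraMap S _ s) = σ s := IsLocalization.lift_eq hunit
  obtain ⟨W, hgW, hloc⟩ := IsLocalRing.exists_factor_valuationRing g
  have hW : ∀ s, σ s ∈ W := fun s => by rw [← hg]; exact hgW _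
  refine ⟨W, hW, fun s => ?_⟩
  have he : (⟨σ s, hW s⟩ : W) = (g.codRestrict W.toSubring hgW) (algebraMap S _ s) := Subtype.ext (hg s).symm
  rw [he, IsLocalRing.mem_maximalIdeal, mem_nonunits_iff]
  refine ⟨fun h => by_contra fun hs => h ?_, fun hs hu => ?_⟩
  · exact (IsLocalization.map_units (Localization.AtPrime q) (⟨s, hs⟩ : q.primeCompl)).map _
  · exact (IsLocalization.AtPrime.isUnit_to_map_iff (Localization.AtPrime q) q s).mp (hloc.map_nonunit _ hu) hs

/-- A fibre element killed by the image of an element of a base change is killed by a scalar which maps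
to a multiple of it. -/
theorem exists_smul_fibre_eq_zero {R S M V : Type u} [CommRing R] [CommRing S] [Algebra R S]
    [AddCommGroup M] [Module S M] [Module R M] [IsScalarTower R S M] [CommRing V] [Algebra R V]
    (p : Ideal R) [p.IsPrime] (incl : V →ₐ[R] p.ResidueField) (t' : V ⊗[R] S) (m : M)
    (h : t' • ((1 : V ⊗[R] S) ⊗ₜ[S] m) = 0) {F : Type u} [Field F] [Algebra R F]
    (η : p.ResidueField →ₐ[R] F) (σ : S →ₐ[R] F) :
    ∃ r : R, r ∉ p ∧ ∃ s : S, s • (m ⊗ₜ[R] (1 : p.ResidueField)) = 0 ∧
      σ s = r • Algebra.TensorProduct.lift (η.comp incl) σ (fun _ _ => .all _ _) t' := by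
  let Φ := Algebra.TensorProduct.map incl (AlgHom.id R S)
  let ΦS : V ⊗[R] S →ₗ[S] p.Fiber S :=
    { toFun := Φ
      map_add' := map_add Φ
      map_smul' := fun c x => by
        rw [RingHom.id_apply, Algebra.smul_def, map_mul, Algebra.smul_def]
        congr 1
        show Φ ((1 : V) ⊗ₜ[R] c) = (1 : p.ResidueField) ⊗ₜ[R] c
        rw [Algebra.TensorProduct.map_tmul, map_one]
        rfl }
  have h2 : (Φ t') ⊗ₜ[S] m = (0 : (p.Fiber S) ⊗[S] M) := by
    rw [smul_tmul', smul_eq_mul, mul_one] at h
    exact (LinearMap.rTensor_tmul M ΦS m t').symm.trans ((congrArg (ΦS.rTensor M) h).trans (map_zero _))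
  obtain ⟨r, hr, s, hrs⟩ := Ideal.Fiber.exists_smul_eq_one_tmul p (Φ t')
  refine ⟨r, hr, s, ?_, ?_⟩
  · apply (fibreEquiv (S := S) p M).injective
    rw [map_zero, map_smul]
    show s • ((1 : p.Fiber S) ⊗ₜ[S] m) = (0 : (p.Fiber S) ⊗[S] M)
    rw [smul_tmul', Algebra.smul_def, mul_one, show algebraMap S (p.Fiber S) s = r • Φ t' from hrs.symm,
      ← smul_tmul', h2, smul_zero]
  · have key := congrArg (Algebra.TensorProduct.lift η σ fun _ _ => .all _ _) hrs
    rw [map_smul, Algebra.TensorProduct.lift_tmul, map_one, one_mul] at key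
    rw [← key]
    congr 1
    show ((Algebra.TensorProduct.lift η σ fun _ _ => .all _ _).comp Φ) t' = _
    congr 1
    ext x <;> simp [Φ]

/-- The valuation argument in a tensor product. -/
theorem exists_kill_tensor {R S M V : Type u} [CommRing R] [CommRing S] [Algebra R S]
    [Algebra.FinitePresentation R S] [AddCommGroup M] [Module S M] [Module R M] [IsScalarTower R S M]
    [Module.Finite S M] [CommRing V] [IsDomain V] [ValuationRing V] [Algebra R V]
    (q : Ideal S) [q.IsPrime] [Module.Flat R (LocalizedModule q.primeCompl M)]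
    (q' : Ideal (V ⊗[R] S)) [q'.IsPrime] (hout : ∀ t ∉ q, algebraMap S (V ⊗[R] S) t ∉ q')
    {m₀ : V} (hm₀ : m₀ ≠ 0) (hm₀q : algebraMap V (V ⊗[R] S) m₀ ∈ q')
    (n : LocalizedModule q.primeCompl M)
    (hdiv : ∀ v : V, v ≠ 0 → ∃ (a s : R), v * algebraMap R V s = algebraMap R V a ∧
      ∃ (n' : LocalizedModule q.primeCompl M) (t : S), t ∉ q ∧ ∃ (l : Multiset (R × LocalizedModule q.primeCompl M)),
        (∀ x ∈ l, algebraMap R V x.1 = 0) ∧ t • (n - a • n') = (l.map fun x => x.1 • x.2).sum)
    (m : M) (t₀ : S) (ht₀ : t₀ • n = LocalizedModule.mkLinearMap q.primeCompl M m) :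
    ∃ t' ∉ q', t' • ((1 : V ⊗[R] S) ⊗ₜ[S] m) = 0 := by
  let f : M →ₗ[S] (V ⊗[R] S) ⊗[S] M := TensorProduct.mk S (V ⊗[R] S) M 1
  have hf : IsBaseChange V (f.restrictScalars R) :=
    IsBaseChange.of_equiv (Algebra.IsPushout.cancelBaseChange R V S (V ⊗[R] S) M).symm fun x => by
      rw [Algebra.IsPushout.cancelBaseChange_symm_tmul, map_one]
      rfl
  exact exists_kill_of_divisible (M' := (V ⊗[R] S) ⊗[S] M) f hf q q' hout hm₀ hm₀q n hdiv m t₀ ht₀

set_option maxHeartbeats 1000000 in -- one long construction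
/-- An element of a flat module at a point of the closed fibre which is divisible modulo a prime `p` by
everything outside `p` vanishes modulo `p`. -/
theorem mem_smul_of_divisible {R S M : Type u} [CommRing R] [IsLocalRing R] [CommRing S] [Algebra R S]
    [Algebra.FinitePresentation R S] [AddCommGroup M] [Module S M] [Module R M] [IsScalarTower R S M]
    [Module.FinitePresentation S M] (q : Ideal S) [q.IsPrime]
    (hqm : q.comap (algebraMap R S) = IsLocalRing.maximalIdeal R)
    [Module.Flat R (LocalizedModule q.primeCompl M)] (p : Ideal R) [p.IsPrime]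
    (hp : p ≠ IsLocalRing.maximalIdeal R) (n : LocalizedModule q.primeCompl M)
    (h : ∀ b ∉ p, ∃ n', n - b • n' ∈ p • (⊤ : Submodule R (LocalizedModule q.primeCompl M))) :
    n ∈ p • (⊤ : Submodule R (LocalizedModule q.primeCompl M)) := by
  classical
  let N := LocalizedModule q.primeCompl M
  let ι := LocalizedModule.mkLinearMap q.primeCompl M
  let κ := p.ResidueField
  suffices hy : n ⊗ₜ[R] (1 : κ) = 0 by
    obtain ⟨r, hr, hrn⟩ := (Groth.Agent.CAlg6.tmul_one_eq_zero_iff (p := p) n).mp hy
    let π : R →ₗ[R] R ⧸ p := Submodule.mkQ p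
    have hzero : ∀ x ∈ p • (⊤ : Submodule R N), x ⊗ₜ[R] π 1 = 0 := fun x hx =>
      Submodule.smul_induction_on hx (fun a ha y _ => by
        rw [smul_tmul, ← map_smul, smul_eq_mul, mul_one, show π a = 0 from (Submodule.Quotient.mk_eq_zero p).mpr ha,
          tmul_zero]) (fun a b ha hb => by rw [add_tmul, ha, hb, add_zero])
    have hinj : Function.Injective ((LinearMap.lsmul R (R ⧸ p) r).lTensor N) := by
      refine Module.Flat.lTensor_preserves_injective_linearMap _ ((injective_iff_map_eq_zero _).mpr fun a ha => ?_)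
      obtain ⟨a, rfl⟩ := Submodule.mkQ_surjective p a
      rw [LinearMap.lsmul_apply, ← map_smul, Submodule.mkQ_apply, Submodule.Quotient.mk_eq_zero] at ha
      rw [Submodule.mkQ_apply, Submodule.Quotient.mk_eq_zero]
      exact (‹p.IsPrime›.mem_or_mem ha).resolve_left hr
    have h0 : n ⊗ₜ[R] π 1 = 0 := hinj (by
      rw [LinearMap.lTensor_tmul, LinearMap.lsmul_apply, ← smul_tmul, hzero _ hrn, map_zero])
    have hex := lTensor_exact N (LinearMap.exact_subtype_mkQ p) (Submodule.mkQ_surjective p)
    obtain ⟨w, hw⟩ := (hex (n ⊗ₜ[R] 1)).mp h0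
    have hmem : ∀ w : N ⊗[R] p, TensorProduct.rid R N (p.subtype.lTensor N w) ∈ p • (⊤ : Submodule R N) := by
      intro w
      induction w using TensorProduct.induction_on with
      | zero => simp only [map_zero]; exact zero_mem _
      | tmul a b =>
        rw [LinearMap.lTensor_tmul, TensorProduct.rid_tmul]
        exact Submodule.smul_mem_smul b.2 trivial
      | add a b ha hb => simp only [map_add]; exact add_mem ha hb
    have := hmem w
    rw [hw, TensorProduct.rid_tmul, one_smul] at this
    exact this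
  obtain ⟨⟨m, t₀⟩, ht₀⟩ := IsLocalizedModule.surj q.primeCompl ι n
  by_contra hne
  let y := m ⊗ₜ[R] (1 : κ)
  have hann : (Submodule.span S {y}).annihilator ≤ q := fun t ht => by
    by_contra htq
    have hty : t • y = 0 := Groth.Agent.CAlg5.mem_ann.mp ht
    refine hne ?_
    have h1 : AlgebraTensorModule.rTensor R κ ι (t • y) = 0 := by rw [hty, map_zero]
    rw [map_smul] at h1
    change t • ι m ⊗ₜ[R] (1 : κ) = 0 at h1
    rw [← ht₀, smul_tmul'] at h1
    refine IsLocalizedModule.smul_injective (AlgebraTensorModule.rTensor R κ ι) ⟨t * t₀, q.primeCompl.mul_mem htq t₀.2⟩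
      (?_ : _ = _)
    show (t * (t₀ : S)) • (n ⊗ₜ[R] (1 : κ)) = (t * (t₀ : S)) • 0
    rw [smul_zero, smul_tmul', mul_smul]
    exact h1
  obtain ⟨q₁, hq₁min, hq₁q⟩ := Ideal.exists_minimalPrimes_le hann
  have hq₁w : q₁ ∈ FlatCA.weakAss S (M ⊗[R] p.ResidueField) := ⟨y, hq₁min⟩
  have := hq₁min.1.1
  have := liesOver_of_mem_weakAss_fibre hq₁w
  -- the valuation
  let F := q₁.ResidueField
  let η : κ →ₐ[R] F := Ideal.ResidueField.mapₐ p q₁ (Algebra.ofId R S) (Ideal.LiesOver.over (P := q₁) (p := p))
  obtain ⟨W, hSW, hWq⟩ := exists_valuation_dominating (algebraMap S F) q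
    (fun s hs => hq₁q (Ideal.algebraMap_residueField_eq_zero.mp hs))
  have hηR : ∀ r : R, η (algebraMap R κ r) = algebraMap S F (algebraMap R S r) := fun r => by
    rw [η.commutes, IsScalarTower.algebraMap_apply R S F]
  let V₀ : ValuationSubring κ := W.comap η.toRingHom
  let V := ↥V₀
  have hRV : ∀ r : R, algebraMap R κ r ∈ V₀ := fun r => by
    show η (algebraMap R κ r) ∈ W
    rw [hηR]
    exact hSW _
  let _ : Algebra R V := ((algebraMap R κ).codRestrict V₀.toSubring hRV).toAlgebra
  let incl : V →ₐ[R] κ := { toRingHom := V₀.subtype, commutes' := fun r => rfl }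
  have hincl : Function.Injective incl := Subtype.val_injective
  let S' := V ⊗[R] S
  let φ : S' →ₐ[R] F := Algebra.TensorProduct.lift (η.comp incl) (IsScalarTower.toAlgHom R S F) fun _ _ => .all _ _
  have hφW : ∀ x : S', φ x ∈ W := by
    intro x
    induction x using TensorProduct.induction_on with
    | zero => rw [map_zero]; exact W.zero_mem
    | tmul v s =>
      rw [Algebra.TensorProduct.lift_tmul]
      exact W.mul_mem _ _ v.2 (hSW s)
    | add a b ha hb => rw [map_add]; exact W.add_mem _ _ ha hb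
  let ψ : S' →+* W := φ.toRingHom.codRestrict W.toSubring hφW
  let q' : Ideal S' := (IsLocalRing.maximalIdeal W).comap ψ
  have hψ : ∀ s : S, ψ (algebraMap S S' s) = ⟨algebraMap S F s, hSW s⟩ := fun s => by
    refine Subtype.ext ?_
    show φ ((1 : V) ⊗ₜ[R] s) = _
    rw [Algebra.TensorProduct.lift_tmul, map_one, one_mul]
    rfl
  have hout : ∀ t ∉ q, algebraMap S S' t ∉ q' := by
    intro t ht h
    rw [Ideal.mem_comap, hψ, hWq] at h
    exact ht h
  have hinq : ∀ t ∈ q, algebraMap S S' t ∈ q' := by
    intro t ht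
    rw [Ideal.mem_comap, hψ, hWq]
    exact ht
  obtain ⟨a₀, ha₀, ha₀p⟩ : ∃ a ∈ IsLocalRing.maximalIdeal R, a ∉ p := by
    by_contra hc
    push Not at hc
    exact hp (le_antisymm (IsLocalRing.le_maximalIdeal (Ideal.IsPrime.ne_top ‹_›)) hc)
  have hne0 : ∀ r ∉ p, algebraMap R V r ≠ 0 := fun r hr h0 =>
    hr (Ideal.algebraMap_residueField_eq_zero.mp (congrArg Subtype.val h0))
  have ha₀q : algebraMap V S' (algebraMap R V a₀) ∈ q' := by
    rw [← IsScalarTower.algebraMap_apply, IsScalarTower.algebraMap_apply R S S']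
    refine hinq _ ?_
    rw [← hqm] at ha₀
    exact ha₀
  -- the base change of the module
  obtain ⟨t', ht', ht'm⟩ := exists_kill_tensor (V := V) q q' hout (hne0 a₀ ha₀p) ha₀q n
    (fun v hv => by
      obtain ⟨ab, sb, hsb, hab⟩ := IsFractionRing.div_surjective (R ⧸ p) (v : κ)
      obtain ⟨a, rfl⟩ := Ideal.Quotient.mk_surjective ab
      obtain ⟨s, rfl⟩ := Ideal.Quotient.mk_surjective sb
      have hs : s ∉ p := fun h' => nonZeroDivisors.ne_zero hsb (Ideal.Quotient.eq_zero_iff_mem.mpr h')
      change algebraMap R κ a / algebraMap R κ s = _ at hab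
      have hsne : algebraMap R κ s ≠ 0 := fun h' => hs (Ideal.algebraMap_residueField_eq_zero.mp h')
      have hap : a ∉ p := fun h' => hv (Subtype.ext (by
        rw [← hab, Ideal.algebraMap_residueField_eq_zero.mpr h', zero_div]; rfl))
      obtain ⟨n', hn'⟩ := h a hap
      refine ⟨a, s, Subtype.ext (by
        show (v : κ) * algebraMap R κ s = algebraMap R κ a
        rw [← hab, div_mul_cancel₀ _ hsne]), n', 1, q.primeCompl.one_mem, ?_⟩
      rw [one_smul]
      refine Submodule.smul_induction_on hn' (fun c hc x _ => ?_) (fun x y hx hy => ?_)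
      · exact ⟨{(c, x)}, fun z hz => by
          rw [Multiset.mem_singleton] at hz
          subst hz
          exact Subtype.ext (Ideal.algebraMap_residueField_eq_zero.mpr hc), by simp⟩
      · obtain ⟨l, hl, hlx⟩ := hx
        obtain ⟨l', hl', hly⟩ := hy
        exact ⟨l + l', fun z hz => (Multiset.mem_add.mp hz).elim (hl z) (hl' z),
          by rw [Multiset.map_add, Multiset.sum_add, hlx, hly]⟩)
    m t₀ ht₀
  -- move to the fibre over `p`
  obtain ⟨r, hr, s, hsy, hσs⟩ := exists_smul_fibre_eq_zero p incl t' m ht'm η (IsScalarTower.toAlgHom R S F)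
  have hs₁ : s ∈ q₁ := hq₁min.1.2 (Groth.Agent.CAlg5.mem_ann.mpr hsy)
  have h5 : φ t' = 0 := by
    change algebraMap S F s = r • φ t' at hσs
    rw [Ideal.algebraMap_residueField_eq_zero.mpr hs₁, eq_comm, Algebra.smul_def, mul_eq_zero] at hσs
    refine hσs.resolve_left fun h7 => ?_
    rw [IsScalarTower.algebraMap_apply R S F, Ideal.algebraMap_residueField_eq_zero] at h7
    exact hr ((Ideal.LiesOver.over (P := q₁) (p := p)).symm ▸ h7 : r ∈ p)
  refine ht' ?_
  show ψ t' ∈ IsLocalRing.maximalIdeal W
  rw [show ψ t' = 0 from Subtype.ext h5]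
  exact zero_mem _

end Groth.Agent.FlatCrit65
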