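import Mathlib.RingTheory.QuasiFinite.Basic
import Mathlib.RingTheory.Ideal.GoingUp
import Mathlib.RingTheory.TensorProduct.Basic

/-!
# Torsion and finite ring maps
-/

universe u

noncomputable section

open TensorProduct

namespace Groth.Agent.FlatCrit65

/-- If a section is nonzero at a maximal ideal of a finite algebra over a local ring and is killed
there by powers of every element of the maximal ideal of the base, then some multiple of it is
nonzero and killed by powers of every element of the maximal ideal of the base. -/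
theorem exists_torsion_multiple {A B W : Type u} [CommRing A] [IsLocalRing A] [CommRing B] [Algebra A B]
    [Module.Finite A B] [AddCommGroup W] [Module B W] [Module A W] [IsScalarTower A B W]
    (Q : Ideal B) [Q.IsPrime] (hQm : ∀ a ∈ IsLocalRing.maximalIdeal A, algebraMap A B a ∈ Q)
    (f : W) (hf : ∀ s ∉ Q, s • f ≠ 0)
    (htor : ∀ a ∈ IsLocalRing.maximalIdeal A, ∃ n : ℕ, ∃ s ∉ Q, s • a ^ n • f = 0) :
    ∃ e : B, e • f ≠ 0 ∧ ∀ a ∈ IsLocalRing.maximalIdeal A, ∃ n : ℕ, a ^ n • e • f = 0 := by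
  classical
  let J : Ideal B :=
    { carrier := {b | b • f = 0}
      add_mem' := fun {a b} ha hb => by
        show (a + b) • f = 0
        rw [add_smul, show a • f = 0 from ha, show b • f = 0 from hb, add_zero]
      zero_mem' := zero_smul _ f
      smul_mem' := fun a b hb => by
        show (a * b) • f = 0
        rw [mul_smul, show b • f = 0 from hb, smul_zero] }
  have hJQ : J ≤ Q := fun b hb => by
    by_contra h
    exact hf b h hb
  have hover : ∀ (P : Ideal B) [P.IsPrime], (∀ a ∈ IsLocalRing.maximalIdeal A, algebraMap A B a ∈ P) →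
      P.comap (algebraMap A B) = IsLocalRing.maximalIdeal A := fun P _ h =>
    ((IsLocalRing.maximalIdeal.isMaximal A).eq_of_le (Ideal.IsPrime.ne_top inferInstance) h).symm
  have hmax : ∀ (P : Ideal B) [P.IsPrime], (∀ a ∈ IsLocalRing.maximalIdeal A, algebraMap A B a ∈ P) →
      P.IsMaximal := fun P _ h => by
    have h' := hover P h
    exact Ideal.isMaximal_of_isIntegral_of_isMaximal_comap P (h' ▸ IsLocalRing.maximalIdeal.isMaximal A)
  -- `Q` is minimal over the annihilator
  have hmin : ∀ (P : Ideal B) [P.IsPrime], J ≤ P → P ≤ Q → P = Q := by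
    intro P _ hJP hPQ
    refine (hmax P fun a ha => ?_).eq_of_le (Ideal.IsPrime.ne_top inferInstance) hPQ
    obtain ⟨n, s, hs, hsf⟩ := htor a ha
    have h : s * algebraMap A B a ^ n ∈ J := by
      show (s * algebraMap A B a ^ n) • f = 0
      rw [mul_smul, ← map_pow, algebraMap_smul, hsf]
    rcases Ideal.IsPrime.mem_or_mem (inferInstance : P.IsPrime) (hJP h) with h1 | h1
    · exact absurd (hPQ h1) hs
    · exact Ideal.IsPrime.mem_of_pow_mem inferInstance n h1
  -- an element outside `Q` lying in every other prime above the annihilator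
  have hfin : (Ideal.primesOver (IsLocalRing.maximalIdeal A) B).Finite :=
    Algebra.QuasiFinite.finite_primesOver _
  have hsep : ∀ Q' ∈ Ideal.primesOver (IsLocalRing.maximalIdeal A) B, Q' ≠ Q →
      ∃ u : B, u ∉ Q ∧ ∀ (P : Ideal B) [P.IsPrime], J ≤ P → P ≤ Q' → u ∈ P := by
    intro Q' hQ' hne
    have : Q'.IsPrime := hQ'.1
    obtain ⟨x, hxQ, hxQ'⟩ : ∃ x ∈ Q, x ∉ Q' := by
      by_contra hc
      push Not at hc
      exact hne ((hmax Q hQm).eq_of_le (Ideal.IsPrime.ne_top inferInstance) hc).symm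
    obtain ⟨u, hu, n, hn⟩ : ∃ u, u ∉ Q ∧ ∃ n : ℕ, u * x ^ n ∈ J := by
      by_contra hc
      push Not at hc
      obtain ⟨P, hP, hJP, hdisj⟩ := Ideal.exists_le_prime_disjoint J (Q.primeCompl ⊔ Submonoid.powers x) (by
        rw [Set.disjoint_left]
        intro z hz hzS
        obtain ⟨u, hu, _, ⟨n, rfl⟩, rfl⟩ := Submonoid.mem_sup.mp hzS
        exact hc u hu n hz)
      have hPQ : P ≤ Q := fun z hz => by
        by_contra h
        exact Set.disjoint_left.mp hdisj hz (Submonoid.mem_sup_left h)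
      have hPQ' := hmin P hJP hPQ
      exact Set.disjoint_left.mp hdisj (hPQ' ▸ hxQ) (Submonoid.mem_sup_right (Submonoid.mem_powers x))
    refine ⟨u, hu, fun P _ hJP hPQ' => ?_⟩
    rcases Ideal.IsPrime.mem_or_mem (inferInstance : P.IsPrime) (hJP hn) with h | h
    · exact h
    · exact absurd (hPQ' (Ideal.IsPrime.mem_of_pow_mem inferInstance n h)) hxQ'
  choose! u huQ hu using hsep
  let z : B := ∏ Q' ∈ hfin.toFinset.filter (· ≠ Q), u Q'
  have hzQ : z ∉ Q := by
    intro h
    obtain ⟨Q', hQ', h'⟩ := (Ideal.IsPrime.prod_mem_iff (hp := (inferInstance : Q.IsPrime))).mp h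
    rw [Finset.mem_filter, Set.Finite.mem_toFinset] at hQ'
    exact huQ Q' hQ'.1 hQ'.2 h'
  have hz : ∀ (P : Ideal B) [P.IsPrime], J ≤ P → z ∈ P ∨ P = Q := by
    intro P _ hJP
    obtain ⟨M, hM, hPM⟩ := Ideal.exists_le_maximal P (Ideal.IsPrime.ne_top inferInstance)
    have hMm : M.comap (algebraMap A B) = IsLocalRing.maximalIdeal A := by
      have : (M.comap (algebraMap A B)).IsMaximal := Ideal.isMaximal_comap_of_isIntegral_of_isMaximal M
      exact IsLocalRing.eq_maximalIdeal this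
    by_cases hMQ : M = Q
    · exact Or.inr (hmin P hJP (hMQ ▸ hPM))
    · have hmem : M ∈ Ideal.primesOver (IsLocalRing.maximalIdeal A) B := ⟨hM.isPrime, ⟨hMm.symm⟩⟩
      refine Or.inl ?_
      exact Ideal.prod_mem P (Finset.mem_filter.mpr ⟨hfin.mem_toFinset.mpr hmem, hMQ⟩)
        (hu M hmem hMQ P hJP hPM)
  -- the idempotent modulo the annihilator
  obtain ⟨b, j, c, hj, hc, hsum⟩ : ∃ b j c, j ∈ J ∧ c ∈ Q ∧ b * z + j + c = 1 := by
    have htop : Ideal.span {z} ⊔ J ⊔ Q = ⊤ := by
      refine (hmax Q hQm).out.2 _ (lt_of_le_of_ne le_sup_right fun h => hzQ ?_)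
      rw [h]
      exact Ideal.mem_sup_left (Ideal.mem_sup_left (Ideal.mem_span_singleton_self z))
    obtain ⟨y, hy, c, hc, h1⟩ := Submodule.mem_sup.mp ((Ideal.eq_top_iff_one _).mp htop)
    obtain ⟨w, hw, j, hj, rfl⟩ := Submodule.mem_sup.mp hy
    obtain ⟨b, rfl⟩ := Ideal.mem_span_singleton'.mp hw
    exact ⟨b, j, c, hj, hc, h1⟩
  have hzc : b * z * c ∈ J.radical := by
    rw [Ideal.radical_eq_sInf, Ideal.mem_sInf]
    rintro P ⟨hJP, hP⟩
    rcases hz P hJP with h | h
    · exact P.mul_mem_right _ (P.mul_mem_left _ h)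
    · exact P.mul_mem_left _ (h ▸ hc)
  obtain ⟨N, hN⟩ := hzc
  obtain ⟨α, β, hαβ⟩ : ∃ α β, α * (b * z) ^ (N + 1) + β * c ^ (N + 1) - 1 ∈ J := by
    have hco : IsCoprime (Ideal.Quotient.mk J (b * z)) (Ideal.Quotient.mk J c) := by
      refine ⟨1, 1, ?_⟩
      rw [one_mul, one_mul, ← map_add, ← map_one (Ideal.Quotient.mk J), Ideal.Quotient.mk_eq_mk_iff_sub_mem,
        show b * z + c - 1 = -j by rw [← hsum]; ring]
      exact J.neg_mem hj
    obtain ⟨α, β, h⟩ := hco.pow (m := N + 1) (n := N + 1)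
    obtain ⟨α, rfl⟩ := Ideal.Quotient.mk_surjective α
    obtain ⟨β, rfl⟩ := Ideal.Quotient.mk_surjective β
    refine ⟨α, β, Ideal.Quotient.eq_zero_iff_mem.mp ?_⟩
    rw [map_sub, map_add, map_mul, map_mul, map_pow, map_pow, h, map_one, sub_self]
  let e : B := α * (b * z) ^ (N + 1)
  have heQ : e ∉ Q := by
    intro h
    refine Ideal.IsPrime.ne_top (I := Q) inferInstance ((Ideal.eq_top_iff_one Q).mpr ?_)
    have h2 : β * c ^ (N + 1) ∈ Q := Q.mul_mem_left _ (Ideal.pow_mem_of_mem Q hc _ (Nat.succ_pos N))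
    have := Q.sub_mem (Q.add_mem h h2) (hJQ hαβ)
    rwa [show e + β * c ^ (N + 1) - (α * (b * z) ^ (N + 1) + β * c ^ (N + 1) - 1) = 1 by
      simp only [e]; ring] at this
  have hee : e * e - e ∈ J := by
    have h1 : e * e - e = e * (α * (b * z) ^ (N + 1) + β * c ^ (N + 1) - 1) -
        α * β * (b * z) * c * ((b * z * c) ^ N) := by
      simp only [e]; ring
    rw [h1]
    exact J.sub_mem (J.mul_mem_left _ hαβ) (J.mul_mem_left _ hN)
  refine ⟨e, hf e heQ, fun a ha => ?_⟩
  have hrad : e * algebraMap A B a ∈ J.radical := by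
    rw [Ideal.radical_eq_sInf, Ideal.mem_sInf]
    rintro P ⟨hJP, hP⟩
    rcases hz P hJP with h | h
    · exact P.mul_mem_right _ (P.mul_mem_left _ (Ideal.pow_mem_of_mem P (P.mul_mem_left _ h) _ (Nat.succ_pos N)))
    · exact P.mul_mem_left _ (h ▸ hQm a ha)
  obtain ⟨n, hn⟩ := hrad
  refine ⟨n + 1, ?_⟩
  have hpow : ∀ m : ℕ, e ^ (m + 1) - e ∈ J := by
    intro m
    induction m with
    | zero => simp
    | succ m ih =>
      have : e ^ (m + 1 + 1) - e = e * (e ^ (m + 1) - e) + (e * e - e) := by ring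
      rw [this]
      exact J.add_mem (J.mul_mem_left _ ih) hee
  have hmem : algebraMap A B (a ^ (n + 1)) * e ∈ J := by
    have h1 : algebraMap A B (a ^ (n + 1)) * e = algebraMap A B a * e * (e * algebraMap A B a) ^ n -
        algebraMap A B a ^ (n + 1) * (e ^ (n + 1) - e) := by
      rw [map_pow]; ring
    rw [h1]
    exact J.sub_mem (J.mul_mem_left _ hn) (J.mul_mem_left _ (hpow n))
  rw [← algebraMap_smul B, smul_smul]
  exact hmem

end Groth.Agent.FlatCrit65
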