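import Groth.Agent.FlatCrit65.UnivInj
import Groth.Agent.FlatCrit65.Assassin.FiniteDescent
import Mathlib

/-!
# Flat local extensions along which torsion descends
-/

universe u

noncomputable section

open TensorProduct

namespace Groth.Agent.FlatCrit65

/-- Torsion sections descend along `A → B`. -/
def TorsionExt (A B : Type u) [CommRing A] [IsLocalRing A] [CommRing B] [Algebra A B] : Prop :=
  ∀ (X : Type u) [AddCommGroup X] [Module A X] (z : B ⊗[A] X), z ≠ 0 →
    (∀ a ∈ IsLocalRing.maximalIdeal A, ∃ n : ℕ, a ^ n • z = 0) →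
    ∃ c : X, c ≠ 0 ∧ ∀ a ∈ IsLocalRing.maximalIdeal A, ∃ n : ℕ, a ^ n • c = 0

theorem exists_torsion_coord {A B X : Type u} [CommRing A] [IsLocalRing A] [CommRing B] [Algebra A B]
    [Module.Free A B] [AddCommGroup X] [Module A X] (y : B ⊗[A] X) (hy : y ≠ 0)
    (ht : ∀ a ∈ IsLocalRing.maximalIdeal A, ∃ n : ℕ, a ^ n • y = 0) :
    ∃ c : X, c ≠ 0 ∧ ∀ a ∈ IsLocalRing.maximalIdeal A, ∃ n : ℕ, a ^ n • c = 0 := by
  classical
  let b := Module.Free.chooseBasis A B
  let e : B ⊗[A] X ≃ₗ[A] (Module.Free.ChooseBasisIndex A B →₀ X) :=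
    TensorProduct.equivFinsuppOfBasisLeft b
  obtain ⟨i, hi⟩ := Finsupp.ne_iff.mp (fun h => hy ((map_eq_zero_iff e e.injective).mp h))
  refine ⟨e y i, by simpa using hi, fun a ha => ?_⟩
  obtain ⟨n, hn⟩ := ht a ha
  exact ⟨n, by rw [← Finsupp.smul_apply, ← map_smul, hn, map_zero, Finsupp.zero_apply]⟩

theorem torsionExt_self (A : Type u) [CommRing A] [IsLocalRing A] : TorsionExt A A :=
  fun _ _ _ z hz ht => exists_torsion_coord z hz ht

theorem TorsionExt.trans {A B C : Type u} [CommRing A] [IsLocalRing A] [CommRing B] [IsLocalRing B]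
    [CommRing C] [Algebra A B] [Algebra B C] [Algebra A C] [IsScalarTower A B C]
    (hmax : IsLocalRing.maximalIdeal B ≤ (IsLocalRing.maximalIdeal A).map (algebraMap A B))
    (h₁ : TorsionExt A B) (h₂ : TorsionExt B C) : TorsionExt A C := by
  intro X _ _ z hz ht
  let e := AlgebraTensorModule.cancelBaseChange A B C C X
  have ht' : ∀ b ∈ IsLocalRing.maximalIdeal B, ∃ n : ℕ, b ^ n • e.symm z = 0 := by
    let I : Ideal B :=
      { carrier := {b | b • e.symm z = 0}
        add_mem' := fun {a b} ha hb => by
          show (a + b) • e.symm z = 0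
          rw [add_smul, show a • e.symm z = 0 from ha, show b • e.symm z = 0 from hb, add_zero]
        zero_mem' := zero_smul _ _
        smul_mem' := fun a b hb => by
          show (a * b) • e.symm z = 0
          rw [mul_smul, show b • e.symm z = 0 from hb, smul_zero] }
    intro b hb
    have hle : (IsLocalRing.maximalIdeal A).map (algebraMap A B) ≤ I.radical := by
      rw [Ideal.map_le_iff_le_comap]
      intro a ha
      obtain ⟨n, hn⟩ := ht a ha
      refine ⟨n, ?_⟩
      show algebraMap A B a ^ n • e.symm z = 0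
      rw [← map_pow, algebraMap_smul]
      exact (LinearMap.map_smul_of_tower e.symm.toLinearMap (a ^ n) z).symm.trans (by rw [hn, map_zero])
    exact hle (hmax hb)
  obtain ⟨c, hc, hct⟩ := h₂ (B ⊗[A] X) (e.symm z) (fun h => hz (by
    rw [← e.apply_symm_apply z, h, map_zero])) ht'
  refine h₁ X c hc fun a ha => ?_
  by_cases hab : algebraMap A B a ∈ IsLocalRing.maximalIdeal B
  · obtain ⟨n, hn⟩ := hct _ hab
    exact ⟨n, by rw [← algebraMap_smul B (a ^ n) c, map_pow]; exact hn⟩
  · exfalso
    obtain ⟨n, hn⟩ := ht a ha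
    have hu : IsUnit (algebraMap A C (a ^ n)) := by
      rw [IsScalarTower.algebraMap_apply A B C, map_pow (algebraMap A B)]
      exact ((not_not.mp fun h => hab ((IsLocalRing.mem_maximalIdeal _).mpr h)).pow n).map _
    apply hz
    rw [← algebraMap_smul C (a ^ n) z] at hn
    exact hu.smul_eq_zero.mp hn

theorem torsionExt_localization {A B B' : Type u} [CommRing A] [IsLocalRing A] [CommRing B] [Algebra A B]
    [Module.Free A B] [CommRing B'] [Algebra A B'] [Algebra B B'] [IsScalarTower A B B']
    (T : Submonoid B) [IsLocalization T B']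
    (h : ∀ (X : Type u) [AddCommGroup X] [Module A X] (f : B ⊗[A] X), (∀ s ∈ T, s • f ≠ 0) →
      (∀ a ∈ IsLocalRing.maximalIdeal A, ∃ n : ℕ, ∃ s ∈ T, s • a ^ n • f = 0) →
      ∃ y : B ⊗[A] X, y ≠ 0 ∧ ∀ a ∈ IsLocalRing.maximalIdeal A, ∃ n : ℕ, a ^ n • y = 0) :
    TorsionExt A B' := by
  intro X _ _ z hz ht
  have hlm : IsLocalizedModule T (IsScalarTower.toAlgHom B B B').toLinearMap := by
    have : IsLocalization (Algebra.algebraMapSubmonoid B T) B' := by
      rwa [show Algebra.algebraMapSubmonoid B T = T from Submonoid.map_id T]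
    infer_instance
  let ι := AlgebraTensorModule.rTensor A X (IsScalarTower.toAlgHom B B B').toLinearMap
  obtain ⟨⟨f, s⟩, hfs⟩ := IsLocalizedModule.surj T ι z
  obtain ⟨y, hy, hyt⟩ := h X f (fun t htT htf => hz (by
      have h0 : ι f = 0 := (IsLocalizedModule.eq_zero_iff T ι).mpr ⟨⟨t, htT⟩, htf⟩
      rw [h0] at hfs
      exact IsLocalizedModule.smul_injective ι s (hfs.trans (smul_zero s).symm)))
    (fun a ha => by
      obtain ⟨n, hn⟩ := ht a ha
      have h0 : ι (a ^ n • f) = 0 := by
        rw [LinearMap.map_smul_of_tower, ← hfs, Submonoid.smul_def, smul_comm, hn, smul_zero]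
      obtain ⟨t, htf⟩ := (IsLocalizedModule.eq_zero_iff T ι).mp h0
      exact ⟨n, t, t.2, htf⟩)
  exact exists_torsion_coord y hy hyt

/-- Torsion descends to a local ring of a finite free algebra. -/
theorem torsionExt_of_finite_free {A B : Type u} [CommRing A] [IsLocalRing A] [CommRing B] [Algebra A B]
    [Module.Free A B] [Module.Finite A B] (Q : Ideal B) [Q.IsPrime]
    (hQ : ∀ a ∈ IsLocalRing.maximalIdeal A, algebraMap A B a ∈ Q)
    (B' : Type u) [CommRing B'] [Algebra A B'] [Algebra B B'] [IsScalarTower A B B']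
    [IsLocalization.AtPrime B' Q] : TorsionExt A B' := by
  refine torsionExt_localization Q.primeCompl fun X _ _ f hf ht => ?_
  obtain ⟨e, he, het⟩ := exists_torsion_multiple Q hQ f (fun s hs => hf s hs) (fun a ha => by
    obtain ⟨n, s, hs, h⟩ := ht a ha
    exact ⟨n, s, hs, h⟩)
  exact ⟨e • f, he, het⟩

open Polynomial in
/-- A polynomial with nonzero reduction is a nonzerodivisor on `A[t] ⊗ X`. -/
theorem eq_zero_of_smul_eq_zero_of_residue {A X : Type u} [CommRing A] [IsLocalRing A] [AddCommGroup X]
    [Module A X] (w : A[X]) (hw : w.map (IsLocalRing.residue A) ≠ 0) (f : A[X] ⊗[A] X) (hf : w • f = 0) :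
    f = 0 := by
  let u : A[X] →ₗ[A] A[X] := LinearMap.mulLeft A w
  have hu : Function.Injective (u.lTensor (IsLocalRing.ResidueField A)) := by
    let e := (polyEquivTensor A (IsLocalRing.ResidueField A)).symm
    have key : ∀ z, e (u.lTensor (IsLocalRing.ResidueField A) z) = w.map (algebraMap A _) * e z := by
      intro z
      induction z using TensorProduct.induction_on with
      | zero => simp
      | add a b ha hb => simp only [map_add, mul_add, ha, hb]
      | tmul c p =>
        simp only [u, LinearMap.lTensor_tmul, LinearMap.mulLeft_apply, e, polyEquivTensor_symm_apply_tmul_eq_smul,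
          Polynomial.map_mul, mul_smul_comm]
    rw [injective_iff_map_eq_zero]
    intro z hz
    have := congrArg e hz
    rw [key, map_zero, mul_eq_zero] at this
    exact (map_eq_zero_iff e e.injective).mp (this.resolve_left hw)
  have hinj := (LinearMap.lTensor_inj_iff_rTensor_inj _ _).mp (lTensor_injective_of_projective u hu X)
  refine hinj ?_
  rw [map_zero, ← hf]
  have key : ∀ z : A[X] ⊗[A] X, u.rTensor X z = w • z := by
    intro z
    induction z using TensorProduct.induction_on with
    | zero => simp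
    | add a b ha hb => simp only [map_add, smul_add, ha, hb]
    | tmul p x => rw [LinearMap.rTensor_tmul, TensorProduct.smul_tmul']; rfl
  exact key f

open Polynomial in
/-- Torsion descends to the generic point of the line over a local ring. -/
theorem torsionExt_rational {A : Type u} [CommRing A] [IsLocalRing A] (T : Submonoid A[X])
    (hT : ∀ w ∈ T, w.map (IsLocalRing.residue A) ≠ 0)
    (B' : Type u) [CommRing B'] [Algebra A B'] [Algebra A[X] B'] [IsScalarTower A A[X] B']
    [IsLocalization T B'] : TorsionExt A B' := by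
  refine torsionExt_localization T fun X _ _ f hf ht => ⟨f, fun h => hf 1 T.one_mem ?_, fun a ha => ?_⟩
  · rw [h, smul_zero]
  · obtain ⟨n, s, hs, hsf⟩ := ht a ha
    exact ⟨n, eq_zero_of_smul_eq_zero_of_residue s (hT s hs) _ hsf⟩

end Groth.Agent.FlatCrit65
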