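import Groth.Agent.FlatCrit65.FlatLocus.Main
import Groth.Agent.FlatCrit65.FlatLocus.Module
import Groth.Agent.FlatCrit65.Nilpotent
import Groth.Agent.FlatCrit65.UnivInj

/-!
# Flat modules of finite presentation over a local ring with nil maximal ideal are free
-/

universe u

noncomputable section

open TensorProduct MvPolynomial

namespace Groth.Agent.FlatCrit65.Monom

variable {A₀ A : Type u} [CommRing A₀] [CommRing A] [Algebra A₀ A] {n k : ℕ}

theorem bc_e (x : (Fin n →₀ ℕ) × Fin k) : bc A (e A₀ x) = e A x := by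
  obtain ⟨a, j⟩ := x
  funext i
  rcases eq_or_ne i j with rfl | h <;> simp [bc, e, *]

/-- An `A`-linear map out of polynomial vectors with prescribed values on monomials. -/
def constrE {W : Type u} [AddCommGroup W] [Module A W] (w : (Fin n →₀ ℕ) × Fin k → W) :
    (Fin k → MvPolynomial (Fin n) A) →ₗ[A] W :=
  ∑ j : Fin k, ((MvPolynomial.basisMonomials (Fin n) A).constr A fun a => w (a, j)) ∘ₗ LinearMap.proj j

theorem constrE_e {W : Type u} [AddCommGroup W] [Module A W] (w : (Fin n →₀ ℕ) × Fin k → W) (x) :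
    constrE w (e A x) = w x := by
  obtain ⟨a, j⟩ := x
  simp only [constrE, LinearMap.coe_sum, Finset.sum_apply, LinearMap.comp_apply, LinearMap.proj_apply, e]
  rw [Finset.sum_eq_single j (fun i _ hi => by simp [hi]) (by simp), Pi.single_eq_same]
  exact (MvPolynomial.basisMonomials (Fin n) A).constr_basis A _ a

theorem constrE_bc {W : Type u} [AddCommGroup W] [Module A W] {W₀ : Type u} [AddCommGroup W₀] [Module A₀ W₀]
    (w : (Fin n →₀ ℕ) × Fin k → W) (f₀ : (Fin k → MvPolynomial (Fin n) A₀) →ₗ[A₀] W₀)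
    (j : W₀ →+ W) (hj : ∀ (c : A₀) v, j (c • v) = algebraMap A₀ A c • j v)
    (hw : ∀ x, w x = j (f₀ (e A₀ x))) (v : Fin k → MvPolynomial (Fin n) A₀) :
    constrE w (bc A v) = j (f₀ v) := by
  conv_lhs => rw [← sum_coord v _ subset_rfl]
  conv_rhs => rw [← sum_coord v _ subset_rfl]
  rw [bc_sum, map_sum, map_sum, map_sum]
  refine Finset.sum_congr rfl fun x _ => ?_
  rw [bc_smul, bc_e, map_smul, constrE_e, hw, map_smul f₀, hj]

end Groth.Agent.FlatCrit65.Monom

namespace Groth.Agent.FlatCrit65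

open Monom in
theorem free_of_descended {A₀ A : Type u} [CommRing A₀] [IsLocalRing A₀] [CommRing A] [IsLocalRing A]
    [Algebra A₀ A] (hnil₀ : IsNilpotent (IsLocalRing.maximalIdeal A₀)) {n k : ℕ}
    (L₀ : Submodule (MvPolynomial (Fin n) A₀) (Fin k → MvPolynomial (Fin n) A₀))
    [Module.Flat A ((Fin k → MvPolynomial (Fin n) A) ⧸ bcSub A L₀)] :
    Module.Free A ((Fin k → MvPolynomial (Fin n) A) ⧸ bcSub A L₀) := by
  classical
  set L := bcSub A L₀ with hLdef
  let M₀ := (Fin k → MvPolynomial (Fin n) A₀) ⧸ L₀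
  let K₀ := A₀ ⧸ IsLocalRing.maximalIdeal A₀
  let _ : Field K₀ := Ideal.Quotient.field _
  let E := Module.Basis.ofVectorSpace K₀ (K₀ ⊗[A₀] M₀)
  have hlift : ∀ i, ∃ y : Fin k → MvPolynomial (Fin n) A₀, E i = (1 : K₀) ⊗ₜ[A₀] (L₀.mkQ y) := by
    intro i
    generalize E i = z
    induction z with
    | zero => exact ⟨0, by rw [map_zero, tmul_zero]⟩
    | add a b ha hb =>
      obtain ⟨x, rfl⟩ := ha
      obtain ⟨y, rfl⟩ := hb
      exact ⟨x + y, by rw [map_add, tmul_add]⟩
    | tmul a x =>
      obtain ⟨a, rfl⟩ := Ideal.Quotient.mk_surjective a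
      obtain ⟨x, rfl⟩ := L₀.mkQ_surjective x
      refine ⟨a • x, ?_⟩
      rw [LinearMap.map_smul_of_tower, tmul_smul, smul_tmul', Algebra.smul_def, mul_one]
      rfl
  choose y hy using hlift
  -- the candidate basis
  let g : (Module.Basis.ofVectorSpaceIndex K₀ (K₀ ⊗[A₀] M₀) →₀ A) →ₗ[A]
      ((Fin k → MvPolynomial (Fin n) A) ⧸ L) := Finsupp.linearCombination A fun i => L.mkQ (bc A (y i))
  let g₀ := Finsupp.linearCombination A₀ fun i => L₀.mkQ (y i)
  have hg₀ : LinearMap.range g₀ = ⊤ := by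
    apply eq_top_of_sup_smul_top_of_isNilpotent hnil₀
    rw [eq_top_iff]
    intro x _
    obtain ⟨c', hc'⟩ := Finsupp.mapRange_surjective (α := Module.Basis.ofVectorSpaceIndex K₀ (K₀ ⊗[A₀] M₀))
      (Ideal.Quotient.mk (IsLocalRing.maximalIdeal A₀)) (map_zero _) Ideal.Quotient.mk_surjective
      (E.repr ((1 : K₀) ⊗ₜ[A₀] x))
    have h : (1 : K₀) ⊗ₜ[A₀] (x - g₀ c') = 0 := by
      have h' := E.linearCombination_repr ((1 : K₀) ⊗ₜ[A₀] x)
      rw [← hc', Finsupp.linearCombination_apply, Finsupp.sum_mapRange_index (by simp)] at h'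
      rw [tmul_sub, ← h', sub_eq_zero]
      simp only [g₀, Finsupp.linearCombination_apply, Finsupp.sum, tmul_sum]
      refine Finset.sum_congr rfl fun i _ => ?_
      rw [hy, smul_tmul', tmul_smul, smul_tmul']
      simp [Algebra.smul_def]
      rfl
    exact Submodule.mem_sup.mpr ⟨g₀ c', LinearMap.mem_range_self g₀ c', _,
      (one_tmul_eq_zero_iff' _ _).mp h, add_sub_cancel _ _⟩
  have hgsurj : Function.Surjective g := by
    have hx : ∀ v : Fin k → MvPolynomial (Fin n) A₀, L.mkQ (bc A v) ∈ LinearMap.range g := by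
      intro v
      obtain ⟨c', hc'⟩ : L₀.mkQ v ∈ LinearMap.range g₀ := hg₀ ▸ Submodule.mem_top
      refine ⟨c'.mapRange (algebraMap A₀ A) (map_zero _), ?_⟩
      simp only [g, g₀, Finsupp.linearCombination_apply] at hc' ⊢
      rw [Finsupp.sum_mapRange_index (by simp)]
      simp only [Finsupp.sum, ← LinearMap.map_smul_of_tower, ← map_sum] at hc' ⊢
      rw [Submodule.mkQ_apply, Submodule.mkQ_apply, Submodule.Quotient.eq] at hc'
      rw [Submodule.mkQ_apply, Submodule.mkQ_apply, Submodule.Quotient.eq]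
      simp only [← bc_smul, ← bc_sum, ← bc_sub]
      exact Submodule.subset_span ⟨_, hc', rfl⟩
    intro w
    obtain ⟨w, rfl⟩ := L.mkQ_surjective w
    rw [← sum_coord w _ subset_rfl, map_sum]
    refine Submodule.sum_mem (LinearMap.range g) fun x _ => ?_
    rw [LinearMap.map_smul_of_tower, ← bc_e (A₀ := A₀)]
    exact Submodule.smul_mem _ _ (hx _)
  -- coordinates modulo the maximal ideal
  let κ := IsLocalRing.ResidueField A
  have hker : ∀ a ∈ IsLocalRing.maximalIdeal A₀, (IsLocalRing.residue A).comp (algebraMap A₀ A) a = 0 := fun a ha => by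
    rw [RingHom.comp_apply, IsLocalRing.residue_eq_zero_iff]
    obtain ⟨m, hm⟩ := hnil₀
    refine Ideal.IsPrime.mem_of_pow_mem inferInstance m ?_
    have h0 := Ideal.pow_mem_pow ha m
    rw [hm] at h0
    rw [← map_pow, show a ^ m = 0 from Ideal.mem_bot.mp h0, map_zero]
    exact zero_mem _
  let ρ : K₀ →+* κ := Ideal.Quotient.lift _ _ hker
  let j : (Module.Basis.ofVectorSpaceIndex K₀ (K₀ ⊗[A₀] M₀) →₀ K₀) →+
      (Module.Basis.ofVectorSpaceIndex K₀ (K₀ ⊗[A₀] M₀) →₀ κ) := Finsupp.mapRange.addMonoidHom ρ.toAddMonoidHom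
  let f₀ : (Fin k → MvPolynomial (Fin n) A₀) →ₗ[A₀] (Module.Basis.ofVectorSpaceIndex K₀ (K₀ ⊗[A₀] M₀) →₀ K₀) :=
    (E.repr.toLinearMap.restrictScalars A₀) ∘ₗ (TensorProduct.mk A₀ K₀ M₀ 1) ∘ₗ L₀.mkQ.restrictScalars A₀
  have hj : ∀ (a : A₀) v, j (a • v) = algebraMap A₀ A a • j v := by
    intro a v
    ext i
    simp only [j, Finsupp.mapRange.addMonoidHom_apply, Finsupp.mapRange_apply, Finsupp.smul_apply]
    rw [Algebra.smul_def, Algebra.smul_def]
    show ρ (algebraMap A₀ K₀ a * v i) = _
    rw [map_mul]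
    rfl
  let θ₀ := constrE (A := A) (fun x => j (f₀ (e A₀ x)))
  have hθbc : ∀ v, θ₀ (bc A v) = j (f₀ v) := constrE_bc _ f₀ j hj (fun _ => rfl)
  have hθL : L.restrictScalars A ≤ LinearMap.ker θ₀ := by
    intro v hv
    have hv' := mem_span_of_mem_bcSub (A := A) (L₀ := L₀) hv
    refine (Submodule.span_le.mpr ?_) hv'
    rintro _ ⟨v', hv', rfl⟩
    show θ₀ (bc A v') = 0
    rw [hθbc]
    have : f₀ v' = 0 := by
      show E.repr ((1 : K₀) ⊗ₜ[A₀] L₀.mkQ v') = 0
      rw [Submodule.mkQ_apply, (Submodule.Quotient.mk_eq_zero L₀).mpr hv', tmul_zero, map_zero]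
    rw [this, map_zero]
  let θ : ((Fin k → MvPolynomial (Fin n) A) ⧸ L) →ₗ[A] (Module.Basis.ofVectorSpaceIndex K₀ (K₀ ⊗[A₀] M₀) →₀ κ) :=
    (L.restrictScalars A).liftQ θ₀ hθL ∘ₗ (Submodule.Quotient.restrictScalarsEquiv A L).symm.toLinearMap
  have hθg : ∀ i, θ (L.mkQ (bc A (y i))) = Finsupp.single i 1 := by
    intro i
    show θ₀ (bc A (y i)) = _
    rw [hθbc]
    show j (E.repr ((1 : K₀) ⊗ₜ[A₀] L₀.mkQ (y i))) = _
    rw [← hy, E.repr_self]
    simp [j]
  have hinj : Function.Injective (g.lTensor κ) := by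
    have key : ∀ z, TensorProduct.lift (LinearMap.lsmul κ _ |>.restrictScalars₁₂ A A)
        ((θ.comp g).lTensor κ z) = TensorProduct.finsuppScalarRight A A κ _ z := by
      intro z
      induction z using TensorProduct.induction_on with
      | zero => simp
      | add a b ha hb => simp only [map_add, ha, hb]
      | tmul r v =>
        induction v using Finsupp.induction_linear with
        | zero => simp
        | add a b ha hb => simp only [tmul_add, map_add, ha, hb]
        | single i a =>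
          rw [LinearMap.lTensor_tmul, TensorProduct.lift.tmul, LinearMap.comp_apply]
          simp only [g, Finsupp.linearCombination_single, map_smul, hθg]
          simp [TensorProduct.finsuppScalarRight_apply_tmul]
    rw [injective_iff_map_eq_zero]
    intro z hz
    have := key z
    rw [LinearMap.lTensor_comp_apply, hz, map_zero, map_zero] at this
    exact (map_eq_zero_iff _ (LinearEquiv.injective _)).mp this.symm
  have hg : Function.Injective g := by
    have h := lTensor_injective_of_projective g hinj A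
    intro a b hab
    have := @h ((1 : A) ⊗ₜ a) ((1 : A) ⊗ₜ b) (by simp [hab])
    simpa using congrArg (TensorProduct.lid A _) this
  exact Module.Free.of_equiv (LinearEquiv.ofBijective g ⟨hg, hgsurj⟩)


open Monom in
theorem free_of_flat_nil_quotient {A : Type u} [CommRing A] [IsLocalRing A]
    (hnil : ∀ a ∈ IsLocalRing.maximalIdeal A, IsNilpotent a) {n k : ℕ}
    (T : Finset (Fin k → MvPolynomial (Fin n) A))
    [Module.Flat A ((Fin k → MvPolynomial (Fin n) A) ⧸ Submodule.span (MvPolynomial (Fin n) A) (T : Set (Fin k → MvPolynomial (Fin n) A)))] :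
    Module.Free A ((Fin k → MvPolynomial (Fin n) A) ⧸ Submodule.span (MvPolynomial (Fin n) A) (T : Set (Fin k → MvPolynomial (Fin n) A))) := by
  classical
  let c : Finset A := T.biUnion fun v => Finset.univ.biUnion fun i : Fin k => (v i).coeffs
  let R₀ := Algebra.adjoin ℤ (c : Set A)
  have : Algebra.FiniteType ℤ R₀ := (Subalgebra.fg_iff_finiteType _).mp (Subalgebra.fg_adjoin_finset _)
  have : IsNoetherianRing R₀ := Algebra.FiniteType.isNoetherianRing ℤ R₀
  let p₀ : Ideal R₀ := (IsLocalRing.maximalIdeal A).comap (algebraMap R₀ A)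
  let A₀ := Localization.AtPrime p₀
  have hunit : ∀ y : p₀.primeCompl, IsUnit (algebraMap R₀ A y) := fun y =>
    not_not.mp fun h => y.2 ((IsLocalRing.mem_maximalIdeal _).mpr h)
  let _ : Algebra A₀ A := (IsLocalization.lift hunit).toAlgebra
  have : IsScalarTower R₀ A₀ A := IsScalarTower.of_algebraMap_eq fun x => (IsLocalization.lift_eq hunit x).symm
  have hnil₀ : IsNilpotent (IsLocalRing.maximalIdeal A₀) := by
    rw [← Localization.AtPrime.map_eq_maximalIdeal]
    have hp : IsNilpotent p₀ := by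
      rw [Ideal.FG.isNilpotent_iff_le_nilradical (IsNoetherian.noetherian p₀)]
      intro x hx
      obtain ⟨m, hm⟩ := hnil _ hx
      exact ⟨m, Subtype.ext ((map_pow (algebraMap R₀ A) x m).trans hm)⟩
    obtain ⟨m, hm⟩ := hp
    exact ⟨m, by rw [← Ideal.map_pow, hm]; exact Ideal.map_bot⟩
  -- descend the relations
  have hT : ∀ v : T, ∃ v₀ : Fin k → MvPolynomial (Fin n) A₀, bc A v₀ = v.1 := by
    rintro ⟨v, hv⟩
    choose w hw using fun i => MvPolynomial.mem_range_map_iff_coeffs_subset (f := algebraMap A₀ A)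
      (x := v i) |>.mpr fun a ha => ⟨algebraMap R₀ A₀ ⟨a, Algebra.subset_adjoin (Finset.mem_coe.mpr
        (Finset.mem_biUnion.mpr ⟨v, hv, Finset.mem_biUnion.mpr ⟨i, Finset.mem_univ _, ha⟩⟩))⟩,
        (IsScalarTower.algebraMap_apply R₀ A₀ A _).symm⟩
    exact ⟨w, funext hw⟩
  choose v₀ hv₀ using hT
  have hL : Submodule.span (MvPolynomial (Fin n) A) (T : Set (Fin k → MvPolynomial (Fin n) A)) =
      bcSub A (Submodule.span (MvPolynomial (Fin n) A₀) (Set.range v₀)) := by
    rw [bcSub_span, ← Set.range_comp]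
    congr 1
    ext x
    exact ⟨fun hx => ⟨⟨x, hx⟩, hv₀ _⟩, fun ⟨⟨y, hy⟩, hyx⟩ => by rw [← hyx, Function.comp_apply, hv₀]; exact hy⟩
  have e := (Submodule.quotEquivOfEq _ _ hL).restrictScalars A
  have := Module.Flat.of_linearEquiv e.symm
  have := free_of_descended (A := A) hnil₀ (Submodule.span (MvPolynomial (Fin n) A₀) (Set.range v₀))
  exact Module.Free.of_equiv e.symm

/-- Flat modules of finite presentation over a local ring with nil maximal ideal are free. -/
theorem free_of_flat_nil {A S M : Type u} [CommRing A] [IsLocalRing A]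
    (hnil : ∀ a ∈ IsLocalRing.maximalIdeal A, IsNilpotent a) [CommRing S] [Algebra A S]
    [Algebra.FinitePresentation A S] [AddCommGroup M] [Module S M] [Module A M] [IsScalarTower A S M]
    [Module.FinitePresentation S M] [Module.Flat A M] : Module.Free A M := by
  obtain ⟨n, π, hπ, hker⟩ := ‹Algebra.FinitePresentation A S›.out
  let _ : Algebra (MvPolynomial (Fin n) A) S := π.toRingHom.toAlgebra
  have : IsScalarTower A (MvPolynomial (Fin n) A) S :=
    IsScalarTower.of_algebraMap_eq fun a => (π.commutes a).symm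
  let _ : Module (MvPolynomial (Fin n) A) M := Module.compHom M π.toRingHom
  have : IsScalarTower (MvPolynomial (Fin n) A) S M := IsScalarTower.of_algebraMap_smul fun _ _ => rfl
  have : IsScalarTower A (MvPolynomial (Fin n) A) M := IsScalarTower.of_algebraMap_smul fun a m => by
    show π (algebraMap A _ a) • m = a • m
    rw [π.commutes, algebraMap_smul]
  have : Module.FinitePresentation (MvPolynomial (Fin n) A) S :=
    Module.finitePresentation_of_surjective (Algebra.linearMap (MvPolynomial (Fin n) A) S) hπ hker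
  have : Module.FinitePresentation (MvPolynomial (Fin n) A) M :=
    Module.FinitePresentation.trans (MvPolynomial (Fin n) A) M S
  obtain ⟨k, L, e, hL⟩ := Module.FinitePresentation.exists_fin (MvPolynomial (Fin n) A) M
  obtain ⟨T, rfl⟩ := hL
  have hflat : Module.Flat A _ := Module.Flat.of_linearEquiv (e.restrictScalars A).symm
  have := free_of_flat_nil_quotient hnil T
  exact Module.Free.of_equiv (e.restrictScalars A).symm

end Groth.Agent.FlatCrit65
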