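import Mathlib.LinearAlgebra.TensorProduct.RightExactness
import Mathlib.RingTheory.Flat.Basic
import Mathlib.Order.Zorn

/-!
# Reducing a tensor to a uniform quotient
-/

universe u

noncomputable section

open TensorProduct

namespace Groth.Agent.FlatCrit65

variable {A : Type u} [CommRing A] {N Q : Type u} [AddCommGroup N] [Module A N] [AddCommGroup Q]
  [Module A Q]

theorem exists_fg_lift (x : N ⊗[A] Q) :
    ∃ S : Submodule A Q, S.FG ∧ ∃ y, S.subtype.lTensor N y = x := by
  induction x using TensorProduct.induction_on with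
  | zero => exact ⟨⊥, Submodule.fg_bot, 0, map_zero _⟩
  | tmul v q => exact ⟨Submodule.span A {q}, Submodule.fg_span_singleton q,
      v ⊗ₜ ⟨q, Submodule.mem_span_singleton_self q⟩, rfl⟩
  | add a b ha hb =>
    obtain ⟨S, hS, a, rfl⟩ := ha
    obtain ⟨S', hS', b, rfl⟩ := hb
    refine ⟨S ⊔ S', hS.sup hS', (Submodule.inclusion le_sup_left).lTensor N a +
      (Submodule.inclusion le_sup_right).lTensor N b, ?_⟩
    rw [map_add, ← LinearMap.lTensor_comp_apply, ← LinearMap.lTensor_comp_apply,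
      Submodule.subtype_comp_inclusion, Submodule.subtype_comp_inclusion]

/-- A nonzero tensor stays nonzero in `N ⊗ Q/J` for a `J` such that it becomes an elementary tensor on
every nonzero element of `Q/J`. -/
theorem exists_uniform (x : N ⊗[A] Q) (hx : x ≠ 0) :
    ∃ J : Submodule A Q, J.mkQ.lTensor N x ≠ 0 ∧
      ∀ c : Q ⧸ J, c ≠ 0 → ∃ n : N, J.mkQ.lTensor N x = n ⊗ₜ[A] c := by
  have hbot : (⊥ : Submodule A Q).mkQ.lTensor N x ≠ 0 := by
    intro h
    refine hx ?_
    have h' := congrArg ((Submodule.quotEquivOfEqBot ⊥ rfl).toLinearMap.lTensor N) h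
    rw [map_zero, ← LinearMap.lTensor_comp_apply] at h'
    rw [← h', show (Submodule.quotEquivOfEqBot (⊥ : Submodule A Q) rfl).toLinearMap ∘ₗ (⊥ : Submodule A Q).mkQ =
      LinearMap.id from LinearMap.ext fun q => rfl, LinearMap.lTensor_id, LinearMap.id_apply]
  obtain ⟨J, -, hJ⟩ := zorn_le_nonempty₀ {J : Submodule A Q | J.mkQ.lTensor N x ≠ 0} (fun C hC hchain J₀ hJ₀ => by
    refine ⟨sSup C, ?_, fun J hJ => le_sSup hJ⟩
    intro h
    obtain ⟨y, hy⟩ := (lTensor_exact N (LinearMap.exact_subtype_mkQ (sSup C)) (sSup C).mkQ_surjective x).mp h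
    obtain ⟨S, hS, z, rfl⟩ := exists_fg_lift y
    obtain ⟨J, hJC, hSJ⟩ : ∃ J ∈ C, S.map (sSup C).subtype ≤ J := by
      have hc : IsCompactElement (S.map (sSup C).subtype) := (Submodule.fg_iff_compact _).mp (hS.map _)
      rw [CompleteLattice.isCompactElement_iff_le_of_directed_sSup_le] at hc
      refine hc C ⟨J₀, hJ₀⟩ hchain.directedOn ?_
      rintro _ ⟨q, -, rfl⟩
      exact q.2
    refine hC hJC ?_
    rw [← hy, ← LinearMap.lTensor_comp_apply, ← LinearMap.lTensor_comp_apply,
      show (J.mkQ ∘ₗ (sSup C).subtype) ∘ₗ S.subtype = 0 from LinearMap.ext fun q =>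
        (Submodule.Quotient.mk_eq_zero J).mpr (hSJ ⟨_, q.2, rfl⟩),
      LinearMap.lTensor_zero, LinearMap.zero_apply]) ⊥ hbot
  refine ⟨J, hJ.1, fun c hc => ?_⟩
  obtain ⟨q, rfl⟩ := J.mkQ_surjective c
  have hlt : J < J ⊔ Submodule.span A {q} := by
    refine lt_of_le_of_ne le_sup_left fun h => hc ((Submodule.Quotient.mk_eq_zero J).mpr ?_)
    rw [h]
    exact Submodule.mem_sup_right (Submodule.mem_span_singleton_self q)
  have hzero : (J ⊔ Submodule.span A {q}).mkQ.lTensor N x = 0 := by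
    by_contra h
    exact hlt.not_ge (hJ.2 h le_sup_left)
  obtain ⟨y, hy⟩ := (lTensor_exact N (LinearMap.exact_subtype_mkQ _) (Submodule.mkQ_surjective _) x).mp hzero
  rw [← hy, ← LinearMap.lTensor_comp_apply]
  clear hy hzero
  induction y using TensorProduct.induction_on with
  | zero => exact ⟨0, by simp⟩
  | tmul n j =>
    obtain ⟨_, h₁, _, h₂, h⟩ := Submodule.mem_sup.mp j.2
    obtain ⟨a, rfl⟩ := Submodule.mem_span_singleton.mp h₂
    refine ⟨a • n, ?_⟩
    rw [LinearMap.lTensor_tmul, TensorProduct.smul_tmul, LinearMap.comp_apply, Submodule.subtype_apply, ← h,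
      map_add, map_smul, show J.mkQ _ = 0 from (Submodule.Quotient.mk_eq_zero J).mpr h₁, zero_add]
  | add a b ha hb =>
    obtain ⟨n, hn⟩ := ha
    obtain ⟨n', hn'⟩ := hb
    exact ⟨n + n', by rw [map_add, hn, hn', TensorProduct.add_tmul]⟩

/-- The radical of the annihilator of such a tensor is prime, and elements outside act injectively. -/
theorem injective_smul_of_uniform {J : Submodule A Q} {x : N ⊗[A] (Q ⧸ J)}
    (hx : ∀ c : Q ⧸ J, c ≠ 0 → ∃ n : N, x = n ⊗ₜ[A] c) {a : A} (ha : a • x ≠ 0) (c : Q ⧸ J)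
    (hc : a • c = 0) : c = 0 := by
  by_contra h
  obtain ⟨n, rfl⟩ := hx c h
  exact ha (by rw [← TensorProduct.tmul_smul, hc, TensorProduct.tmul_zero])

end Groth.Agent.FlatCrit65
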