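import Groth.Agent.FlatCrit65.Assassin.Descends
import Groth.Agent.FlatCrit65.Assassin.NilFree
import Groth.Agent.FlatCrit65.Assassin.Uniform
import Groth.Agent.FlatCrit65.Injective
import Groth.Agent.FlatCrit65.Point.Global

/-!
# Fibrewise injective maps out of flat modules of finite presentation are universally injective
-/

universe u

noncomputable section

open TensorProduct

namespace Groth.Agent.FlatCrit65

/-- One element kills all of the torsion of a finite module over a Noetherian ring. -/
theorem exists_uniform_killer {F V : Type u} [CommRing F] [IsNoetherianRing F] [AddCommGroup V] [Module F V]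
    [Module.Finite F V] (T : Submonoid F) : ∃ t ∈ T, ∀ v : V, (∃ s ∈ T, s • v = 0) → t • v = 0 := by
  classical
  let K : Submodule F V :=
    { carrier := {v | ∃ s ∈ T, s • v = 0}
      add_mem' := by
        rintro v w ⟨s, hs, hsv⟩ ⟨s', hs', hsw⟩
        exact ⟨s * s', T.mul_mem hs hs', by rw [smul_add, mul_smul, smul_comm, hsv, smul_zero, zero_add,
          mul_smul, hsw, smul_zero]⟩
      zero_mem' := ⟨1, T.one_mem, smul_zero _⟩
      smul_mem' := by
        rintro a v ⟨s, hs, hsv⟩
        exact ⟨s, hs, by rw [smul_comm, hsv, smul_zero]⟩ }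
  obtain ⟨G, hG⟩ := IsNoetherian.noetherian K
  have hmem : ∀ v ∈ G, ∃ s ∈ T, s • v = 0 := fun v hv => (hG.le (Submodule.subset_span hv) : v ∈ K)
  choose! s hsT hs using hmem
  refine ⟨∏ v ∈ G, s v, prod_mem hsT, fun v hv => ?_⟩
  have hv' : v ∈ Submodule.span F (G : Set V) := hG.ge hv
  clear hv
  induction hv' using Submodule.span_induction with
  | mem w hw => rw [← Finset.prod_erase_mul G s hw, mul_smul, hs w hw, smul_zero]
  | zero => exact smul_zero _
  | add v w _ _ hv hw => rw [smul_add, hv, hw, add_zero]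
  | smul a v _ hv => rw [smul_comm, hv, smul_zero]

section

variable {A B : Type u} [CommRing A] [CommRing B] [Algebra A B] [Algebra.FinitePresentation A B]
  {M : Type u} [AddCommGroup M] [Module B M] [Module A M] [IsScalarTower A B M]

omit [Algebra.FinitePresentation A B] in
/-- Torsion in a fibre is killed by one element. -/
theorem exists_fibre_killer [Module.Finite B M] [Algebra.FiniteType A B] (T : Submonoid B) (p : Ideal A)
    [p.IsPrime] : ∃ t ∈ T, ∀ z : M ⊗[A] p.ResidueField, (∃ s ∈ T, s • z = 0) → t • z = 0 := by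
  let F := B ⊗[A] p.ResidueField
  have : IsNoetherianRing F := by
    have e : (p.ResidueField ⊗[A] B) ≃+* F := (Algebra.TensorProduct.comm A p.ResidueField B).toRingEquiv
    have := Algebra.FiniteType.isNoetherianRing p.ResidueField (p.ResidueField ⊗[A] B)
    exact isNoetherianRing_of_ringEquiv _ e
  obtain ⟨_, ⟨t, ht, rfl⟩, hkill⟩ := exists_uniform_killer (V := F ⊗[B] M) (T.map (algebraMap B F))
  refine ⟨t, ht, fun z ⟨s, hs, hsz⟩ => ?_⟩
  let e : F ⊗[B] M ≃ₗ[B] M ⊗[A] p.ResidueField :=
    (TensorProduct.comm B F M).trans (AlgebraTensorModule.cancelBaseChange A B B M p.ResidueField)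
  obtain ⟨w, rfl⟩ := e.surjective z
  have h := hkill w ⟨_, ⟨s, hs, rfl⟩, by
    rw [algebraMap_smul]
    exact e.injective (by rw [map_smul, hsz, map_zero])⟩
  rw [algebraMap_smul] at h
  rw [← map_smul, h, map_zero]

/-- One element outside which the module is flat. -/
theorem exists_flat_powers [Module.FinitePresentation B M] (T : Submonoid B)
    [Module.Flat A (LocalizedModule T M)] :
    ∃ t ∈ T, ∀ t', t ∣ t' → Module.Flat A (LocalizedModule (Submonoid.powers t') M) := by
  obtain ⟨J, hJ⟩ := (PrimeSpectrum.isClosed_iff_zeroLocus_ideal _).mp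
    (isOpen_flat_locus_module (R := A) (S := B) (M := M)).isClosed_compl
  have hJT : ¬ Disjoint (J : Set B) T := by
    intro hd
    obtain ⟨P, hP, hJP, hPT⟩ := Ideal.exists_le_prime_disjoint J T hd
    have hflat : Module.Flat A (LocalizedModule P.primeCompl M) := by
      rw [flat_localized_iff_kernels]
      intro I z hz
      obtain ⟨t, ht, htz⟩ := exists_smul_eq_zero_of_injective T I.subtype
        (Module.Flat.lTensor_preserves_injective_linearMap (M := LocalizedModule T M) I.subtype
          Subtype.val_injective) z hz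
      exact ⟨t, fun h => Set.disjoint_left.mp hPT h ht, htz⟩
    have : (⟨P, hP⟩ : PrimeSpectrum B) ∈ PrimeSpectrum.zeroLocus (J : Set B) := hJP
    rw [← hJ] at this
    exact this hflat
  obtain ⟨t, htJ, htT⟩ := Set.not_disjoint_iff.mp hJT
  refine ⟨t, htT, fun t' htt' => flat_powers_of_forall t' fun q hq => ?_⟩
  by_contra hc
  have : q ∈ PrimeSpectrum.zeroLocus (J : Set B) := by rw [← hJ]; exact hc
  obtain ⟨b, rfl⟩ := htt'
  exact hq (q.asIdeal.mul_mem_right b (this htJ))

variable [Module.FinitePresentation B M]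

set_option maxHeartbeats 1000000 in -- one long construction
/-- The case of a base with nil maximal ideal, given as `A'`. -/
theorem eq_zero_of_fibre_injective (T : Submonoid B) [Module.Flat A (LocalizedModule T M)]
    {N' : Type u} [AddCommGroup N'] [Module A N'] [Module.Flat A N'] (u : LocalizedModule T M →ₗ[A] N')
    (P : Ideal A) [P.IsPrime] (hu : Function.Injective (u.lTensor P.ResidueField))
    (A' : Type u) [CommRing A'] [IsLocalRing A'] [Algebra A A']
    (hnil : ∀ a ∈ IsLocalRing.maximalIdeal A', IsNilpotent a)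
    [Algebra P.ResidueField (IsLocalRing.ResidueField A')]
    [IsScalarTower A P.ResidueField (IsLocalRing.ResidueField A')]
    (n : LocalizedModule T M) (hn : (1 : A') ⊗ₜ[A] u n = 0) : (1 : A') ⊗ₜ[A] n = 0 := by
  classical
  obtain ⟨t₁, ht₁, hflat⟩ := exists_flat_powers (A := A) (M := M) T
  obtain ⟨t₂, ht₂, hkill⟩ := exists_fibre_killer (A := A) (M := M) T P
  obtain ⟨⟨m, t₀⟩, hm⟩ := IsLocalizedModule.surj T (LocalizedModule.mkLinearMap T M) n
  let t : B := t₁ * t₂ * t₀
  have htT : t ∈ T := T.mul_mem (T.mul_mem ht₁ ht₂) t₀.2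
  let Mt := LocalizedModule (Submonoid.powers t) M
  have : Module.Flat A Mt := hflat t ((dvd_mul_right t₁ t₂).trans (dvd_mul_right _ _))
  have hpow : ∀ x : Submonoid.powers t, IsUnit (algebraMap B (Module.End B (LocalizedModule T M)) x) := by
    rintro ⟨_, j, rfl⟩
    exact IsLocalizedModule.map_units (LocalizedModule.mkLinearMap T M) ⟨t ^ j, T.pow_mem htT j⟩
  let θ₀ : Mt →ₗ[B] LocalizedModule T M :=
    IsLocalizedModule.lift (Submonoid.powers t) (LocalizedModule.mkLinearMap (Submonoid.powers t) M)
      (LocalizedModule.mkLinearMap T M) hpow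
  have hθ₀ : ∀ y, θ₀ (LocalizedModule.mkLinearMap (Submonoid.powers t) M y) = LocalizedModule.mkLinearMap T M y :=
    fun y => IsLocalizedModule.lift_apply (Submonoid.powers t) _ _ hpow y
  let θ : Mt →ₗ[A] LocalizedModule T M := θ₀.restrictScalars A
  obtain ⟨v, hv⟩ : ∃ v, θ v = n := by
    refine ⟨LocalizedModule.mk ((t₁ * t₂) • m) ⟨t, Submonoid.mem_powers t⟩, ?_⟩
    apply IsLocalizedModule.smul_injective (LocalizedModule.mkLinearMap T M) ⟨t, htT⟩
    show t • θ₀ _ = t • n
    rw [← map_smul, LocalizedModule.smul'_mk]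
    have h1 : LocalizedModule.mk (t • (t₁ * t₂) • m) (⟨t, Submonoid.mem_powers t⟩ : Submonoid.powers t) =
        LocalizedModule.mkLinearMap (Submonoid.powers t) M ((t₁ * t₂) • m) := by
      rw [LocalizedModule.mkLinearMap_apply]
      refine LocalizedModule.mk_eq.mpr ⟨1, ?_⟩
      simp [Submonoid.smul_def]
    rw [h1, hθ₀, map_smul, ← hm, Submonoid.smul_def, ← mul_smul]
  -- `A' ⊗ Mt` is free
  let Bt := Localization (Submonoid.powers t)
  have : Algebra.FinitePresentation B Bt := IsLocalization.Away.finitePresentation t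
  have : Algebra.FinitePresentation A Bt := Algebra.FinitePresentation.trans A B Bt
  have : Module.FinitePresentation Bt Mt := .of_equiv
    (((IsLocalizedModule.isBaseChange (Submonoid.powers t) Bt (LocalizedModule.mkLinearMap (Submonoid.powers t) M)).equiv))
  let B' := A' ⊗[A] Bt
  let _ : Algebra Bt B' := Algebra.TensorProduct.rightAlgebra
  let e : B' ⊗[Bt] Mt ≃ₗ[A'] A' ⊗[A] Mt :=
    Algebra.IsPushout.cancelBaseChange A A' Bt B' Mt
  have : Module.FinitePresentation B' (B' ⊗[Bt] Mt) := inferInstance
  have : IsScalarTower A' B' (B' ⊗[Bt] Mt) := TensorProduct.isScalarTower_left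
  have : Module.Flat A' (B' ⊗[Bt] Mt) := Module.Flat.of_linearEquiv e
  have := free_of_flat_nil hnil (S := B') (M := B' ⊗[Bt] Mt)
  have : Module.Free A' (A' ⊗[A] Mt) := Module.Free.of_equiv e
  -- the composite is injective modulo the maximal ideal
  have hθinj : Function.Injective (θ.lTensor P.ResidueField) := by
    rw [LinearMap.lTensor_inj_iff_rTensor_inj, injective_iff_map_eq_zero]
    intro z hz
    let ι := AlgebraTensorModule.rTensor A P.ResidueField (LocalizedModule.mkLinearMap (Submonoid.powers t) M)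
    obtain ⟨⟨y, s⟩, hys⟩ := IsLocalizedModule.surj (Submonoid.powers t) ι z
    have key : ∀ w, θ.rTensor P.ResidueField (ι w) =
        AlgebraTensorModule.rTensor A P.ResidueField (LocalizedModule.mkLinearMap T M) w := by
      intro w
      induction w using TensorProduct.induction_on with
      | zero => simp only [map_zero]
      | tmul a b => exact congrArg (· ⊗ₜ[A] b) (hθ₀ a)
      | add a b ha hb => simp only [map_add, ha, hb]
    have hsz : θ.rTensor P.ResidueField (s • z) = 0 := by
      have hB : ∀ (b : B) w, θ.rTensor P.ResidueField (b • w) = b • θ.rTensor P.ResidueField w := fun b w =>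
        (AlgebraTensorModule.rTensor A P.ResidueField θ₀).map_smul b w
      rw [Submonoid.smul_def, hB, hz, smul_zero]
    rw [hys, key] at hsz
    obtain ⟨t', ht'⟩ := (IsLocalizedModule.eq_zero_iff T _).mp hsz
    have h0 := hkill y ⟨t', t'.2, ht'⟩
    have hy : ι y = 0 := (IsLocalizedModule.eq_zero_iff (Submonoid.powers t) ι).mpr
      ⟨⟨t, Submonoid.mem_powers t⟩, by
        show (t₁ * t₂ * t₀) • y = 0
        rw [show t₁ * t₂ * (t₀ : B) = t₁ * t₀ * t₂ by ring, mul_smul, h0, smul_zero]⟩
    rw [hy] at hys
    exact IsLocalizedModule.smul_injective ι s (hys.trans (smul_zero s).symm)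
  have hcomp : Function.Injective ((u.comp θ).lTensor (IsLocalRing.ResidueField A')) := by
    refine lTensor_injective_of_flat_over P.ResidueField (IsLocalRing.ResidueField A') (u.comp θ) ?_
    rw [LinearMap.lTensor_comp]
    exact hu.comp hθinj
  have hmod : Function.Injective (((u.comp θ).baseChange A').lTensor (IsLocalRing.ResidueField A')) := by
    let e₁ := AlgebraTensorModule.cancelBaseChange A A' A' (IsLocalRing.ResidueField A') Mt
    let e₂ := AlgebraTensorModule.cancelBaseChange A A' A' (IsLocalRing.ResidueField A') N'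
    have key : ∀ w, e₂ (((u.comp θ).baseChange A').lTensor (IsLocalRing.ResidueField A') w) =
        (u.comp θ).lTensor (IsLocalRing.ResidueField A') (e₁ w) := by
      intro w
      induction w using TensorProduct.induction_on with
      | zero => simp only [map_zero]
      | add a b ha hb => simp only [map_add, ha, hb]
      | tmul r x =>
        induction x using TensorProduct.induction_on with
        | zero => simp only [TensorProduct.tmul_zero, map_zero]
        | add a b ha hb => simp only [TensorProduct.tmul_add, map_add, ha, hb]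
        | tmul a y => simp [e₁, e₂]
    intro a b hab
    apply e₁.injective
    apply hcomp
    rw [← key, ← key, hab]
  have hinj : Function.Injective ((u.comp θ).baseChange A') := by
    have h := lTensor_injective_of_projective ((u.comp θ).baseChange A') hmod A'
    intro a b hab
    have := @h ((1 : A') ⊗ₜ a) ((1 : A') ⊗ₜ b) (by simp [hab])
    simpa using congrArg (TensorProduct.lid A' _) this
  have h0 : (1 : A') ⊗ₜ[A] v = 0 := hinj (by
    rw [LinearMap.baseChange_tmul, LinearMap.comp_apply, hv, hn, map_zero])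
  rw [← hv, ← LinearMap.baseChange_tmul, h0, map_zero]

set_option maxHeartbeats 1000000 in -- one long construction
/-- A map from a flat module, finitely presented over a localization of a finitely presented algebra,
into a flat module is universally injective if it is injective on every fibre. -/
theorem univInj_of_fibres (T : Submonoid B) [Module.Flat A (LocalizedModule T M)]
    {N' : Type u} [AddCommGroup N'] [Module A N'] [Module.Flat A N'] (u : LocalizedModule T M →ₗ[A] N')
    (h : ∀ (p : Ideal A) [p.IsPrime], Function.Injective (u.lTensor p.ResidueField))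
    (Q : Type u) [AddCommGroup Q] [Module A Q] : Function.Injective (u.rTensor Q) := by
  classical
  rw [injective_iff_map_eq_zero]
  intro x₀ hx₀
  by_contra hne
  obtain ⟨J, hJ, huni⟩ := exists_uniform x₀ hne
  set N := LocalizedModule T M
  let x := J.mkQ.lTensor N x₀
  have hux : u.rTensor (Q ⧸ J) x = 0 := by
    show u.rTensor (Q ⧸ J) (J.mkQ.lTensor N x₀) = 0
    rw [← LinearMap.comp_apply, LinearMap.rTensor_comp_lTensor, ← LinearMap.lTensor_comp_rTensor,
      LinearMap.comp_apply, hx₀, map_zero]
  let JB : Ideal B :=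
    { carrier := {b | b • x = 0}
      add_mem' := fun {a b} ha hb => by
        show (a + b) • x = 0
        rw [add_smul, show a • x = 0 from ha, show b • x = 0 from hb, add_zero]
      zero_mem' := zero_smul _ _
      smul_mem' := fun a b hb => by
        show (a * b) • x = 0
        rw [mul_smul, show b • x = 0 from hb, smul_zero] }
  let ιT := AlgebraTensorModule.rTensor A (Q ⧸ J) (LocalizedModule.mkLinearMap T M)
  have hdisj : Disjoint (JB : Set B) T := Set.disjoint_left.mpr fun b hb hbT => hJ
    (IsLocalizedModule.smul_injective ιT ⟨b, hbT⟩ ((show b • x = 0 from hb).trans (smul_zero b).symm))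
  obtain ⟨q', hq', hJq', hq'T⟩ := Ideal.exists_le_prime_disjoint JB T hdisj
  obtain ⟨q, hqmin, hqq'⟩ := Ideal.exists_minimalPrimes_le (I := JB) (J := q') hJq'
  have : q.IsPrime := hqmin.1.1
  have hJq : JB ≤ q := hqmin.1.2
  have hqT : ∀ b ∈ T, b ∉ q := fun b hbT hbq => Set.disjoint_left.mp hq'T (hqq' hbq) hbT
  let p := q.comap (algebraMap A B)
  -- the tensor at `q`
  have hflatq : Module.Flat A (LocalizedModule q.primeCompl M) := by
    rw [flat_localized_iff_kernels]
    intro I z hz
    obtain ⟨t, ht, htz⟩ := exists_smul_eq_zero_of_injective T I.subtype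
      (Module.Flat.lTensor_preserves_injective_linearMap (M := LocalizedModule T M) I.subtype
        Subtype.val_injective) z hz
    exact ⟨t, hqT t ht, htz⟩
  obtain ⟨⟨y, t₀⟩, hy⟩ := IsLocalizedModule.surj T ιT x
  let ιq := AlgebraTensorModule.rTensor A (Q ⧸ J) (LocalizedModule.mkLinearMap q.primeCompl M)
  have hyq : ιq y ≠ 0 := by
    intro h0
    obtain ⟨⟨s, hs⟩, hsy⟩ := (IsLocalizedModule.eq_zero_iff q.primeCompl ιq).mp h0
    have : s * t₀ ∈ JB := by
      show (s * t₀) • x = 0
      rw [mul_smul, show (t₀ : B) • x = ιT y from hy, ← map_smul]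
      rw [show s • y = 0 from hsy, map_zero]
    rcases (inferInstance : q.IsPrime).mem_or_mem (hJq this) with h1 | h1
    · exact hs h1
    · exact hqT _ t₀.2 h1
  have htor : ∀ a ∈ p, ∃ k : ℕ, a ^ k • ιq y = 0 := by
    intro a ha
    obtain ⟨w, hw, k, hk⟩ : ∃ w, w ∉ q ∧ ∃ k : ℕ, w * algebraMap A B a ^ k ∈ JB := by
      by_contra hc
      push Not at hc
      obtain ⟨P, hP, hJP, hPd⟩ := Ideal.exists_le_prime_disjoint JB
        (q.primeCompl ⊔ Submonoid.powers (algebraMap A B a)) (by
        rw [Set.disjoint_left]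
        intro z hz hzS
        obtain ⟨w, hw, _, ⟨k, rfl⟩, rfl⟩ := Submonoid.mem_sup.mp hzS
        exact hc w hw k hz)
      have hPq : P ≤ q := fun z hz => by
        by_contra h
        exact Set.disjoint_left.mp hPd hz (Submonoid.mem_sup_left h)
      have := hqmin.2 ⟨hP, hJP⟩ hPq
      exact Set.disjoint_left.mp hPd (this ha) (Submonoid.mem_sup_right (Submonoid.mem_powers _))
    refine ⟨k, ?_⟩
    have h1 : ιT ((w * algebraMap A B a ^ k) • y) = 0 := by
      rw [map_smul, ← hy, Submonoid.smul_def, smul_comm, show (w * algebraMap A B a ^ k) • x = 0 from hk,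
        smul_zero]
    obtain ⟨t', ht'⟩ := (IsLocalizedModule.eq_zero_iff T ιT).mp h1
    rw [Submonoid.smul_def, ← mul_smul, ← mul_assoc, mul_smul] at ht'
    have hunit : IsUnit (algebraMap B (Module.End B (LocalizedModule q.primeCompl M ⊗[A] (Q ⧸ J))) (t' * w)) :=
      IsLocalizedModule.map_units ιq ⟨t' * w, q.primeCompl.mul_mem (hqT _ t'.2) hw⟩
    have h2 : (t' * w : B) • (algebraMap A B a ^ k • ιq y) = 0 := by
      rw [← map_smul, ← map_smul, ht', map_zero]
    rw [← algebraMap_smul B (a ^ k), map_pow]
    exact ((Module.End.isUnit_iff _).mp hunit).1 (h2.trans (map_zero _).symm)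
  have : Module.Finite (Localization.AtPrime q) (LocalizedModule q.primeCompl M) :=
    Module.Finite.of_isLocalizedModule q.primeCompl (LocalizedModule.mkLinearMap q.primeCompl M)
  obtain ⟨c, hc, hct⟩ := exists_torsion_of_flat (R := A) (L := Localization.AtPrime q)
    (M := LocalizedModule q.primeCompl M) q p rfl (ιq y) hyq htor
  have hc0 : c ≠ 0 := fun h0 => hc 1 (Ideal.IsPrime.one_notMem inferInstance) (by rw [h0, smul_zero])
  obtain ⟨n, hxn⟩ := huni c hc0
  -- elements outside `p` act injectively
  have hinjp : ∀ s ∉ p, ∀ d : Q ⧸ J, s • d = 0 → d = 0 := fun s hs d hd => by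
    refine injective_smul_of_uniform huni (a := s) (fun hsx => hs ?_) d hd
    have : algebraMap A B s ∈ JB := by
      show algebraMap A B s • x = 0
      rw [algebraMap_smul]; exact hsx
    exact hJq this
  let I : Ideal A := LinearMap.ker (LinearMap.toSpanSingleton A (Q ⧸ J) c)
  have hI : ∀ a, a ∈ I ↔ a • c = 0 := fun a => Iff.rfl
  have hIp : I ≤ p := fun a ha => by
    by_contra h
    exact hc0 (hinjp a h c ha)
  have hpI : ∀ a ∈ p, ∃ k : ℕ, a ^ k ∈ I := fun a ha => by
    obtain ⟨k, s, hs, hsc⟩ := hct a ha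
    exact ⟨k, hinjp s hs _ hsc⟩
  -- the nil local ring
  let Ap := Localization.AtPrime p
  let I' := I.map (algebraMap A Ap)
  have hI'ne : I' ≠ ⊤ := by
    refine ne_top_of_le_ne_top (IsLocalRing.maximalIdeal.isMaximal Ap).ne_top ?_
    rw [← Localization.AtPrime.map_eq_maximalIdeal]
    exact Ideal.map_mono hIp
  let A' := Ap ⧸ I'
  have : Nontrivial A' := Ideal.Quotient.nontrivial_iff.mpr hI'ne
  have : IsLocalRing A' := .of_surjective' _ Ideal.Quotient.mk_surjective
  have hmkp : ∀ a ∈ p, IsNilpotent (algebraMap A A' a) := fun a ha => by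
    obtain ⟨k, hk⟩ := hpI a ha
    refine ⟨k, ?_⟩
    rw [← map_pow, IsScalarTower.algebraMap_apply A Ap A']
    exact Ideal.Quotient.eq_zero_iff_mem.mpr (Ideal.mem_map_of_mem _ hk)
  have hnil : ∀ a ∈ IsLocalRing.maximalIdeal A', IsNilpotent a := by
    intro a ha
    obtain ⟨b, rfl⟩ := Ideal.Quotient.mk_surjective a
    have hb : b ∈ IsLocalRing.maximalIdeal Ap := fun hu => ha (hu.map _)
    obtain ⟨r, s, rfl⟩ := IsLocalization.exists_mk'_eq p.primeCompl b
    have hr : r ∈ p := by
      by_contra h
      exact (IsLocalRing.mem_maximalIdeal _).mp hb ((IsLocalization.AtPrime.isUnit_mk'_iff Ap p r s).mpr h)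
    rw [IsLocalization.mk'_eq_mul_mk'_one, map_mul]
    exact (Commute.all _ _).isNilpotent_mul_right (hmkp r hr)
  have hker : ∀ a : A, algebraMap A A' a = 0 → a ∈ I := by
    intro a ha
    rw [IsScalarTower.algebraMap_apply A Ap A'] at ha
    have ha' : algebraMap A Ap a ∈ I' := Ideal.Quotient.eq_zero_iff_mem.mp ha
    obtain ⟨⟨⟨i, hi⟩, s⟩, he⟩ := (IsLocalization.mem_map_algebraMap_iff p.primeCompl Ap).mp ha'
    rw [← map_mul] at he
    obtain ⟨s', hs'⟩ := (IsLocalization.eq_iff_exists p.primeCompl Ap).mp he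
    refine hinjp _ (p.primeCompl.mul_mem s'.2 s.2) (a • c) ?_
    rw [← mul_smul, show (s' : A) * s * a = s' * i by rw [← hs']; ring, mul_smul,
      show i • c = 0 from hi, smul_zero]
  let _ : Algebra p.ResidueField (IsLocalRing.ResidueField A') :=
    (Ideal.ResidueField.lift p ((IsLocalRing.residue A').comp (algebraMap A A'))
      (fun a ha => (IsLocalRing.residue_eq_zero_iff _).mpr (fun hu => by
        obtain ⟨k, hk⟩ := hmkp a ha
        exact not_isUnit_zero (hk ▸ hu.pow k)))
      (fun a ha => by
        show IsUnit (IsLocalRing.residue A' (algebraMap A A' a))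
        refine IsUnit.map _ ?_
        rw [IsScalarTower.algebraMap_apply A Ap A']
        exact (IsLocalization.map_units Ap (⟨a, ha⟩ : p.primeCompl)).map _)).toAlgebra
  have : IsScalarTower A p.ResidueField (IsLocalRing.ResidueField A') :=
    IsScalarTower.of_algebraMap_eq fun a => (Ideal.ResidueField.lift_algebraMap ..).symm
  -- transport along `A/I ⊆ Q/J` and `A/I ⊆ A'`
  let φ : A ⧸ I →ₗ[A] Q ⧸ J := Submodule.liftQ I (LinearMap.toSpanSingleton A (Q ⧸ J) c) le_rfl
  have hφ : Function.Injective φ := by
    rw [injective_iff_map_eq_zero]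
    intro a ha
    obtain ⟨a, rfl⟩ := Submodule.mkQ_surjective I a
    exact (Submodule.Quotient.mk_eq_zero I).mpr ha
  have hIA' : ∀ a ∈ I, algebraMap A A' a = 0 := fun a ha => by
    rw [IsScalarTower.algebraMap_apply A Ap A']
    exact Ideal.Quotient.eq_zero_iff_mem.mpr (Ideal.mem_map_of_mem _ ha)
  let ψ : A ⧸ I →ₗ[A] A' := Submodule.liftQ I (Algebra.linearMap A A') hIA'
  have hψ : Function.Injective ψ := by
    rw [injective_iff_map_eq_zero]
    intro a ha
    obtain ⟨a, rfl⟩ := Submodule.mkQ_surjective I a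
    exact (Submodule.Quotient.mk_eq_zero I).mpr (hker a ha)
  have hun : u n ⊗ₜ[A] (Submodule.mkQ I 1) = (0 : N' ⊗[A] (A ⧸ I)) := by
    apply Module.Flat.lTensor_preserves_injective_linearMap (M := N') φ hφ
    rw [map_zero, LinearMap.lTensor_tmul, ← hux]
    show u n ⊗ₜ[A] φ (Submodule.mkQ I 1) = u.rTensor (Q ⧸ J) x
    rw [show x = n ⊗ₜ[A] c from hxn, LinearMap.rTensor_tmul]
    congr 1
    show (1 : A) • c = c
    rw [one_smul]
  have hun' : (1 : A') ⊗ₜ[A] u n = 0 := by
    have := congrArg (fun z => TensorProduct.comm A N' A' (ψ.lTensor N' z)) hun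
    simp only [LinearMap.lTensor_tmul, map_zero, TensorProduct.comm_tmul] at this
    rw [show ψ (Submodule.mkQ I 1) = 1 from map_one (algebraMap A A')] at this
    exact this
  have hn0 := eq_zero_of_fibre_injective T u p (h p) A' hnil n hun'
  apply hJ
  show x = 0
  have h1 : n ⊗ₜ[A] (Submodule.mkQ I 1) = (0 : N ⊗[A] (A ⧸ I)) := by
    apply Module.Flat.lTensor_preserves_injective_linearMap (M := N) ψ hψ
    rw [map_zero, LinearMap.lTensor_tmul, show ψ (Submodule.mkQ I 1) = 1 from map_one (algebraMap A A')]
    have := congrArg (TensorProduct.comm A A' N) hn0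
    rwa [map_zero, TensorProduct.comm_tmul] at this
  have h2 := congrArg (φ.lTensor N) h1
  rw [map_zero, LinearMap.lTensor_tmul] at h2
  rw [show x = n ⊗ₜ[A] c from hxn, ← h2]
  congr 1
  show c = (1 : A) • c
  rw [one_smul]

end

end Groth.Agent.FlatCrit65
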