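import Groth.Agent.FlatCrit65.Assassin.FlatLocal
import Groth.Agent.FlatCrit65.Assassin.Points
import Mathlib.RingTheory.Localization.BaseChange

/-!
# Flatness at a prime from injectivity over the residue field of the base
-/

universe u

noncomputable section

open TensorProduct

attribute [local instance] Algebra.TensorProduct.rightAlgebra

namespace Groth.Agent.FlatCrit65

variable {R S : Type u} [CommRing R] [CommRing S] [Algebra R S]
  {N : Type u} [AddCommGroup N] [Module S N] [Module R N] [IsScalarTower R S N]

/-- At `q`, tensoring with `N` keeps inclusions of `κ(p)`-spaces into `R_p`-modules injective. -/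
def GrInjAt (p : Ideal R) [p.IsPrime] (q : Ideal S) (N : Type u) [AddCommGroup N] [Module S N] [Module R N]
    [IsScalarTower R S N] : Prop :=
  ∀ (X : Type u) [AddCommGroup X] [Module R X] [Module (Localization.AtPrime p) X]
    [IsScalarTower R (Localization.AtPrime p) X] (V : Submodule (Localization.AtPrime p) X),
    (∀ a ∈ IsLocalRing.maximalIdeal (Localization.AtPrime p), ∀ v ∈ V, a • v = 0) →
    ∀ w : N ⊗[R] V, (V.subtype.restrictScalars R).lTensor N w = 0 → ∃ t ∉ q, t • w = 0

set_option maxHeartbeats 1000000 in -- one long construction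
theorem flat_localized_of_grInjAt_fp [Algebra.FinitePresentation R S] [Module.Finite S N] (p : Ideal R) [p.IsPrime]
    (q : Ideal S) [q.IsPrime] (hqp : q.comap (algebraMap R S) = p) (h : GrInjAt p q N) :
    Module.Flat R (LocalizedModule q.primeCompl N) := by
  let A := Localization.AtPrime p
  let L := Localization.AtPrime q
  let M := LocalizedModule q.primeCompl N
  let ι := LocalizedModule.mkLinearMap q.primeCompl N
  have hunit : ∀ r : p.primeCompl, IsUnit (algebraMap R L r) := fun r => by
    rw [IsScalarTower.algebraMap_apply R S L, IsLocalization.AtPrime.isUnit_to_map_iff L q]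
    exact fun h' => r.2 (hqp ▸ h' : (r : R) ∈ p)
  let _ : Algebra A L := (IsLocalization.lift hunit).toAlgebra
  have : IsScalarTower R A L := IsScalarTower.of_algebraMap_eq fun r => (IsLocalization.lift_eq hunit r).symm
  let _ : Module A M := Module.compHom M (algebraMap A L)
  have : IsScalarTower A L M := IsScalarTower.of_algebraMap_smul fun _ _ => rfl
  have : IsScalarTower R A M := IsScalarTower.of_algebraMap_smul fun r m => by
    show algebraMap A L (algebraMap R A r) • m = r • m
    rw [← IsScalarTower.algebraMap_apply, algebraMap_smul]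
  have : Module.Finite L M := Module.Finite.of_isLocalizedModule q.primeCompl ι
  have hgr : GrInj A M := by
    intro X _ _ V hV
    let _ : Module R X := Module.compHom X (algebraMap R A)
    have : IsScalarTower R A X := IsScalarTower.of_algebraMap_smul fun _ _ => rfl
    rw [injective_iff_map_eq_zero]
    intro z hz
    let eV := IsLocalization.moduleTensorEquiv p.primeCompl A M V
    let eX := IsLocalization.moduleTensorEquiv p.primeCompl A M X
    have hnat : ∀ v, eX (V.subtype.lTensor M v) = (V.subtype.restrictScalars R).lTensor M (eV v) := by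
      intro v
      induction v using TensorProduct.induction_on with
      | zero => simp only [map_zero]
      | tmul a b => rfl
      | add a b ha hb => simp only [map_add, ha, hb]
    let ιV := AlgebraTensorModule.rTensor R V ι
    let ιX := AlgebraTensorModule.rTensor R X ι
    obtain ⟨⟨w, t⟩, hwt⟩ := IsLocalizedModule.surj q.primeCompl ιV (eV z)
    have key : ∀ v, (V.subtype.restrictScalars R).lTensor M (ιV v) = ιX ((V.subtype.restrictScalars R).lTensor N v) := by
      intro v
      induction v using TensorProduct.induction_on with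
      | zero => simp only [map_zero]
      | tmul a b => rfl
      | add a b ha hb => simp only [map_add, ha, hb]
    have h0 : ιX ((V.subtype.restrictScalars R).lTensor N w) = 0 := by
      rw [← key, ← hwt, Submonoid.smul_def]
      show (AlgebraTensorModule.lTensor S M (V.subtype.restrictScalars R)) ((t : S) • eV z) = 0
      rw [map_smul]
      show (t : S) • (V.subtype.restrictScalars R).lTensor M (eV z) = 0
      rw [← hnat, hz, map_zero, smul_zero]
    obtain ⟨⟨t', ht'⟩, ht''⟩ := (IsLocalizedModule.eq_zero_iff q.primeCompl ιX).mp h0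
    obtain ⟨s, hs, hsw⟩ := h X V hV (t' • w)
      (((AlgebraTensorModule.lTensor S N (V.subtype.restrictScalars R)).map_smul t' w).trans ht'')
    have h1 : eV z = 0 := by
      refine IsLocalizedModule.smul_injective ιV
        (⟨s * t' * t, q.primeCompl.mul_mem (q.primeCompl.mul_mem hs ht') t.2⟩ : q.primeCompl) (?_ : _ = _)
      show (s * t' * (t : S)) • eV z = (s * t' * (t : S)) • 0
      rw [smul_zero, mul_smul, show (t : S) • eV z = ιV w from hwt, ← map_smul, mul_smul, hsw, map_zero]
    exact eV.map_eq_zero_iff.mp h1
  -- the algebra over the local base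
  let S' := A ⊗[R] S
  let T := Algebra.algebraMapSubmonoid S p.primeCompl
  have : IsLocalization T S' := (Algebra.isLocalization_iff_isPushout p.primeCompl A).mpr inferInstance
  have hTq : ∀ t ∈ T, t ∉ q := by
    rintro _ ⟨r, hr, rfl⟩ h'
    exact hr (hqp ▸ h' : r ∈ p)
  let ω₀ : S' →+* L := IsLocalization.lift (M := T) (g := algebraMap S L)
    fun t => IsLocalization.map_units L (⟨t, hTq _ t.2⟩ : q.primeCompl)
  let q' : Ideal S' := (IsLocalRing.maximalIdeal L).comap ω₀
  have hω₀ : ∀ x : q'.primeCompl, IsUnit (ω₀ x) := fun x => not_not.mp fun h' =>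
    x.2 ((IsLocalRing.mem_maximalIdeal _).mpr h')
  let L₁ := Localization.AtPrime q'
  let ω : L₁ →+* L := IsLocalization.lift hω₀
  have hω : ∀ x : S', ω (algebraMap S' L₁ x) = ω₀ x := IsLocalization.lift_eq hω₀
  have hω₀S : ∀ s : S, ω₀ (algebraMap S S' s) = algebraMap S L s := IsLocalization.lift_eq _
  have hωA : ∀ a : A, ω₀ (algebraMap A S' a) = algebraMap A L a := fun a => by
    have : ω₀.comp (algebraMap A S') = algebraMap A L := IsLocalization.ringHom_ext p.primeCompl <| by
      refine RingHom.ext fun r => ?_
      show ω₀ (algebraMap A S' (algebraMap R A r)) = algebraMap A L (algebraMap R A r)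
      rw [← IsScalarTower.algebraMap_apply, IsScalarTower.algebraMap_apply R S S', hω₀S,
        ← IsScalarTower.algebraMap_apply, ← IsScalarTower.algebraMap_apply]
    exact RingHom.congr_fun this a
  have hωsurj : Function.Surjective ω := by
    intro l
    obtain ⟨a, s, rfl⟩ := IsLocalization.exists_mk'_eq q.primeCompl l
    have hs : algebraMap S S' s ∉ q' := by
      rw [Ideal.mem_comap, hω₀S]
      exact fun h' => (IsLocalRing.mem_maximalIdeal _).mp h' (IsLocalization.map_units L s)
    refine ⟨IsLocalization.mk' L₁ (algebraMap S S' a) (⟨_, hs⟩ : q'.primeCompl), ?_⟩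
    rw [IsLocalization.eq_mk'_iff_mul_eq, ← hω₀S, ← hω₀S, ← hω, ← hω, ← map_mul, IsLocalization.mk'_spec]
  let _ : Algebra L₁ L := ω.toAlgebra
  let _ : Module L₁ M := Module.compHom M ω
  have : IsScalarTower L₁ L M := IsScalarTower.of_algebraMap_smul fun _ _ => rfl
  have : Module.Finite L₁ L := Module.Finite.of_surjective (Algebra.linearMap L₁ L) hωsurj
  have : Module.Finite L₁ M := Module.Finite.trans L M
  have : IsScalarTower A L₁ M := IsScalarTower.of_algebraMap_smul fun a m => by
    show ω (algebraMap A L₁ a) • m = a • m
    rw [IsScalarTower.algebraMap_apply A S' L₁, hω, hωA, algebraMap_smul]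
  have hq'm : q'.comap (algebraMap A S') = IsLocalRing.maximalIdeal A := by
    ext a
    rw [Ideal.mem_comap, Ideal.mem_comap, hωA]
    have : IsLocalHom (algebraMap A L) := ⟨fun b hb => by
      obtain ⟨r, u, rfl⟩ := IsLocalization.exists_mk'_eq p.primeCompl b
      refine (IsLocalization.AtPrime.isUnit_mk'_iff A p r u).mpr fun hr => ?_
      have h2 : IsUnit (algebraMap R L r) := by
        rw [IsScalarTower.algebraMap_apply R A L, ← IsLocalization.mk'_spec A r u, map_mul]
        exact hb.mul ((IsLocalization.map_units A u).map _)
      rw [IsScalarTower.algebraMap_apply R S L, IsLocalization.AtPrime.isUnit_to_map_iff L q] at h2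
      exact h2 (Ideal.mem_comap.mp (hqp.symm ▸ hr : r ∈ q.comap (algebraMap R S)))⟩
    simp only [IsLocalRing.mem_maximalIdeal, mem_nonunits_iff, isUnit_map_iff]
  have hfl : Module.Flat A M := flat_of_grInj (L := L₁) q' hq'm hgr
  exact Module.Flat.trans R A M

/-- Flatness at a prime of a finite type algebra. -/
theorem flat_localized_of_grInjAt [Algebra.FiniteType R S] [Module.Finite S N] (p : Ideal R) [p.IsPrime]
    (q : Ideal S) [q.IsPrime] (hqp : q.comap (algebraMap R S) = p) (h : GrInjAt p q N) :
    Module.Flat R (LocalizedModule q.primeCompl N) := by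
  obtain ⟨n, π, hπ⟩ := Algebra.FiniteType.iff_quotient_mvPolynomial''.mp ‹Algebra.FiniteType R S›
  let _ : Algebra (MvPolynomial (Fin n) R) S := π.toRingHom.toAlgebra
  have : IsScalarTower R (MvPolynomial (Fin n) R) S :=
    IsScalarTower.of_algebraMap_eq fun a => (π.commutes a).symm
  have : Module.Finite (MvPolynomial (Fin n) R) S :=
    Module.Finite.of_surjective (Algebra.linearMap (MvPolynomial (Fin n) R) S) hπ
  let _ : Module (MvPolynomial (Fin n) R) N := Module.compHom N π.toRingHom
  have : IsScalarTower (MvPolynomial (Fin n) R) S N := IsScalarTower.of_algebraMap_smul fun _ _ => rfl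
  have : IsScalarTower R (MvPolynomial (Fin n) R) N := IsScalarTower.of_algebraMap_smul fun a m => by
    show π (algebraMap R _ a) • m = a • m
    rw [π.commutes, algebraMap_smul]
  have : Module.Finite (MvPolynomial (Fin n) R) N := Module.Finite.trans S N
  refine (flat_localized_comap_iff (A := MvPolynomial (Fin n) R) (M := N) hπ q).mpr
    (flat_localized_of_grInjAt_fp p _ ?_ fun X _ _ _ _ V hV w hw => ?_)
  · rw [Ideal.comap_comap, ← IsScalarTower.algebraMap_eq]
    exact hqp
  · obtain ⟨t, ht, htw⟩ := h X V hV w hw
    obtain ⟨t', rfl⟩ := hπ t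
    refine ⟨t', ht, Eq.trans ?_ htw⟩
    clear hw htw
    induction w using TensorProduct.induction_on with
    | zero => simp only [smul_zero]
    | tmul m x => rfl
    | add a b ha hb => simp only [smul_add, ha, hb]

end Groth.Agent.FlatCrit65
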