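import Groth.Agent.FlatCrit65.Assassin.Coeff
import Groth.Agent.FlatCrit65.Assassin.Uniform
import Groth.Agent.FlatCrit65.Point.Main
import Groth.Agent.FlatCrit65.Injective

/-!
# Flatness from injectivity on modules killed by the maximal ideal
-/

universe u

noncomputable section

open Polynomial TensorProduct

namespace Groth.Agent.FlatCrit65

/-- Flatness descends along faithfully flat algebras. -/
theorem flat_of_faithfullyFlat_tensor {R T : Type u} [CommRing R] [CommRing T] [Algebra R T] (L : Type u)
    [CommRing L] [Algebra T L] [Module.FaithfullyFlat T L] [Algebra R L] [IsScalarTower R T L]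
    (N : Type u) [AddCommGroup N] [Module T N] [Module R N] [IsScalarTower R T N] [Module.Flat R (L ⊗[T] N)] :
    Module.Flat R N := by
  rw [Module.Flat.iff_lTensor_injective']
  intro I
  let j : N →ₗ[R] L ⊗[T] N := (TensorProduct.mk T L N 1).restrictScalars R
  have hj : Function.Injective (j.rTensor I) := by
    rw [injective_iff_map_eq_zero]
    intro z hz
    have key : ∀ w, AlgebraTensorModule.assoc R T T L N I (j.rTensor I w) = (1 : L) ⊗ₜ[T] w := by
      intro w
      induction w using TensorProduct.induction_on with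
      | zero => simp only [map_zero, tmul_zero]
      | tmul m x => rfl
      | add a b ha hb => simp only [map_add, ha, hb, tmul_add]
    apply Module.FaithfullyFlat.tensorProduct_mk_injective (A := T) (B := L) (N ⊗[R] I)
    rw [TensorProduct.mk_apply, TensorProduct.mk_apply, tmul_zero, ← key, hz, map_zero]
  intro a b hab
  apply hj
  apply Module.Flat.iff_lTensor_injective'.mp (inferInstance : Module.Flat R (L ⊗[T] N)) I
  rw [← LinearMap.comp_apply, ← LinearMap.comp_apply (g := j.rTensor I), LinearMap.lTensor_comp_rTensor,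
    ← LinearMap.rTensor_comp_lTensor, LinearMap.comp_apply, LinearMap.comp_apply, hab]

/-- The statement proved by induction on the dimension of the closed fibre. -/
def PointFlat (n : ℕ) : Prop :=
  ∀ (R S L M : Type u) [CommRing R] [IsLocalRing R] [CommRing S] [Algebra R S]
    [Algebra.FinitePresentation R S] [CommRing L] [IsLocalRing L] [Algebra R L] [Algebra S L]
    [IsScalarTower R S L] (q : Ideal S) [q.IsPrime] [IsLocalization.AtPrime L q]
    [AddCommGroup M] [Module L M] [Module R M] [IsScalarTower R L M] [Module.Finite L M],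
    (∀ c ∈ IsLocalRing.maximalIdeal R, algebraMap R S c ∈ q) → GrInj R M →
    (∀ s : S, ∃ c : R, s - algebraMap R S c ∈ q) →
    ringKrullDim (L ⧸ (IsLocalRing.maximalIdeal R).map (algebraMap R L)) < (n : ℕ) →
    Module.Flat R M

section PointRing

variable {R : Type u} [CommRing R] [IsLocalRing R] {k : ℕ} (d : PtData R k) (D : Type u) [CommRing D]
  [IsLocalRing D] [Algebra R D] [Algebra (QuotA d.f) D] [IsScalarTower R (QuotA d.f) D]
  [IsLocalization (ptSub d.f d.a) D]
  (M : Type u) [AddCommGroup M] [Module D M] [Module R M] [IsScalarTower R D M]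

omit [IsLocalRing D] in
include d in
/-- A free map which is independent modulo the maximal ideal is universally injective. -/
theorem rTensor_injective_of_grInj (hM : GrInj R M) {r : ℕ} (α : (Fin r → D) →ₗ[D] M)
    (hind : ∀ w, α w ∈ ((IsLocalRing.maximalIdeal R).map (algebraMap R D)) • (⊤ : Submodule D M) →
      ∀ i, w i ∈ (IsLocalRing.maximalIdeal R).map (algebraMap R D))
    (Y : Type u) [AddCommGroup Y] [Module R Y] : Function.Injective ((α.restrictScalars R).rTensor Y) := by
  classical
  rw [injective_iff_map_eq_zero]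
  intro z₀ hz₀
  by_contra hne
  obtain ⟨J, hJ, huni⟩ := exists_uniform z₀ hne
  let z := J.mkQ.lTensor (Fin r → D) z₀
  have hz : (α.restrictScalars R).rTensor (Y ⧸ J) z = 0 := by
    show (α.restrictScalars R).rTensor (Y ⧸ J) (J.mkQ.lTensor _ z₀) = 0
    rw [← LinearMap.comp_apply, LinearMap.rTensor_comp_lTensor, ← LinearMap.lTensor_comp_rTensor,
      LinearMap.comp_apply, hz₀, map_zero]
  obtain ⟨g, hg⟩ : ∃ g : (Fin r → D) →ₗ[R] R, g.rTensor (Y ⧸ J) z ≠ 0 := by
    by_contra hc
    push Not at hc
    refine hJ ?_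
    have hsum : ∀ w : (Fin r → D) ⊗[R] (Y ⧸ J), w = ∑ i, (LinearMap.single R (fun _ : Fin r => D) i).rTensor _
        ((LinearMap.proj i).rTensor _ w) := by
      intro w
      induction w using TensorProduct.induction_on with
      | zero => simp only [map_zero, Finset.sum_const_zero]
      | tmul c y =>
        simp only [LinearMap.rTensor_tmul, LinearMap.proj_apply, LinearMap.single_apply]
        rw [← TensorProduct.sum_tmul, Finset.univ_sum_single]
      | add u w hu hw =>
        simp only [map_add, Finset.sum_add_distrib]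
        rw [← hu, ← hw]
    show z = 0
    rw [hsum z]
    refine Finset.sum_eq_zero fun i _ => ?_
    rw [eq_zero_of_ptCoeff d D ((LinearMap.proj i).rTensor _ z) fun e => by
      rw [← LinearMap.comp_apply, ← LinearMap.rTensor_comp]
      exact hc _, map_zero]
  obtain ⟨c, hc⟩ : ∃ c, c = TensorProduct.lid R (Y ⧸ J) (g.rTensor (Y ⧸ J) z) := ⟨_, rfl⟩
  have hc0 : c ≠ 0 := hc ▸ (TensorProduct.lid R (Y ⧸ J)).map_ne_zero_iff.mpr hg
  have hmc : ∀ b ∈ IsLocalRing.maximalIdeal R, b • c = 0 := fun b hb => by
    by_contra hbc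
    obtain ⟨w, hw⟩ := huni (b • c) hbc
    change z = w ⊗ₜ[R] (b • c) at hw
    have h1 : c = (g w * b) • c := by
      conv_lhs => rw [hc, hw, LinearMap.rTensor_tmul, TensorProduct.lid_tmul]
      rw [mul_smul]
    have hu : IsUnit (1 - g w * b) :=
      IsLocalRing.isUnit_one_sub_self_of_mem_nonunits _ (Ideal.mul_mem_left _ _ hb)
    exact hc0 (hu.smul_eq_zero.mp (by rw [sub_smul, one_smul, ← h1, sub_self]))
  obtain ⟨w, hw⟩ := huni c hc0
  change z = w ⊗ₜ[R] c at hw
  let m := IsLocalRing.maximalIdeal R
  let V : Submodule R (Y ⧸ J) := Submodule.span R {c}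
  have hV : ∀ a ∈ m, ∀ v ∈ V, a • v = 0 := fun a ha v hv => by
    obtain ⟨e, rfl⟩ := Submodule.mem_span_singleton.mp hv
    rw [smul_comm, hmc a ha, smul_zero]
  have h0 : α w ⊗ₜ[R] (⟨c, Submodule.mem_span_singleton_self c⟩ : V) = 0 := by
    apply hM _ V hV
    rw [map_zero, LinearMap.lTensor_tmul, ← hz, hw, LinearMap.rTensor_tmul]
    rfl
  let cV : V := ⟨c, Submodule.mem_span_singleton_self c⟩
  let χ : R ⧸ m →ₗ[R] V := Submodule.liftQ m (LinearMap.toSpanSingleton R V cV)
    (fun a ha => Subtype.ext (hmc a ha))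
  have hχ : Function.Bijective χ := by
    refine ⟨(injective_iff_map_eq_zero _).mpr fun a ha => ?_, fun v => ?_⟩
    · obtain ⟨a, rfl⟩ := Submodule.mkQ_surjective m a
      refine (Submodule.Quotient.mk_eq_zero m).mpr ((IsLocalRing.mem_maximalIdeal _).mpr fun hu => hc0 ?_)
      exact hu.smul_eq_zero.mp (congrArg Subtype.val ha)
    · obtain ⟨a, ha⟩ := Submodule.mem_span_singleton.mp v.2
      exact ⟨Submodule.mkQ m a, Subtype.ext ha⟩
  let toκ : V →ₗ[R] R ⧸ m := (LinearEquiv.ofBijective χ hχ).symm.toLinearMap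
  have htoκ : toκ cV = (1 : R ⧸ m) := by
    show (LinearEquiv.ofBijective χ hχ).symm cV = _
    rw [LinearEquiv.symm_apply_eq]
    exact Subtype.ext (one_smul R c).symm
  have h1 := congrArg (fun x => TensorProduct.comm R M (R ⧸ m) (toκ.lTensor M x)) h0
  simp only [LinearMap.lTensor_tmul, map_zero, TensorProduct.comm_tmul] at h1
  change toκ cV ⊗ₜ[R] α w = 0 at h1
  rw [htoκ] at h1
  rw [one_tmul_eq_zero_iff] at h1
  have hle : ∀ x ∈ m • (⊤ : Submodule R M), x ∈ (m.map (algebraMap R D)) • (⊤ : Submodule D M) := fun x hx =>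
    Submodule.smul_induction_on hx (fun a ha v _ => by
      rw [← algebraMap_smul D a v]
      exact Submodule.smul_mem_smul (Ideal.mem_map_of_mem _ ha) trivial) fun _ _ => add_mem
  obtain ⟨W, hW⟩ := exists_mulMap_pi m w (hind w (hle _ h1))
  refine hJ ?_
  show z = 0
  rw [hw, ← hW]
  clear hW
  induction W using TensorProduct.induction_on with
  | zero => simp only [map_zero, zero_tmul]
  | tmul a b => rw [LinearMap.rTensor_tmul, TensorProduct.lid_tmul, smul_tmul, Submodule.subtype_apply, hmc _ a.2, tmul_zero]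
  | add a b ha hb => simp only [map_add, add_tmul, ha, hb, add_zero]

omit [IsLocalRing D] in
include d in
/-- Extensions of the cokernel. -/
theorem flat_of_grInj_cokernel (hM : GrInj R M) {r : ℕ} (α : (Fin r → D) →ₗ[D] M)
    (hα : ∀ (Y : Type u) [AddCommGroup Y] [Module R Y], Function.Injective ((α.restrictScalars R).rTensor Y))
    (hC : GrInj R (M ⧸ LinearMap.range α) → Module.Flat R (M ⧸ LinearMap.range α)) : Module.Flat R M := by
  let π : M →ₗ[R] M ⧸ LinearMap.range α := (LinearMap.range α).mkQ.restrictScalars R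
  have hπ : Function.Surjective π := (LinearMap.range α).mkQ_surjective
  have hex : Function.Exact (α.restrictScalars R) π := fun m => by
    show (LinearMap.range α).mkQ m = 0 ↔ _
    rw [Submodule.mkQ_apply, Submodule.Quotient.mk_eq_zero]
    exact Iff.rfl
  have hgrC : GrInj R (M ⧸ LinearMap.range α) := by
    intro X _ _ V hV
    rw [injective_iff_map_eq_zero]
    intro w hw
    obtain ⟨w₀, rfl⟩ := LinearMap.rTensor_surjective V hπ w
    have h1 : π.rTensor X (V.subtype.lTensor M w₀) = 0 := by
      rw [← LinearMap.comp_apply, LinearMap.rTensor_comp_lTensor, ← LinearMap.lTensor_comp_rTensor,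
        LinearMap.comp_apply, hw]
    obtain ⟨z, hz⟩ := (rTensor_exact X hex hπ _).mp h1
    have h2 : V.mkQ.lTensor _ z = 0 := by
      apply hα (X ⧸ V)
      rw [map_zero, ← LinearMap.comp_apply, LinearMap.rTensor_comp_lTensor, ← LinearMap.lTensor_comp_rTensor,
        LinearMap.comp_apply, hz, ← LinearMap.comp_apply, ← LinearMap.lTensor_comp,
        show V.mkQ.comp V.subtype = 0 from LinearMap.ext fun v => (Submodule.Quotient.mk_eq_zero V).mpr v.2,
        LinearMap.lTensor_zero, LinearMap.zero_apply]
    obtain ⟨zV, rfl⟩ := (lTensor_exact _ (LinearMap.exact_subtype_mkQ V) V.mkQ_surjective z).mp h2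
    have h3 : w₀ = (α.restrictScalars R).rTensor V zV := by
      apply hM X V hV
      rw [← hz, ← LinearMap.comp_apply, LinearMap.rTensor_comp_lTensor, ← LinearMap.lTensor_comp_rTensor,
        LinearMap.comp_apply]
    rw [h3, ← LinearMap.comp_apply, ← LinearMap.rTensor_comp,
      show π.comp (α.restrictScalars R) = 0 from LinearMap.ext fun v => hex.apply_apply_eq_zero v,
      LinearMap.rTensor_zero, LinearMap.zero_apply]
  have := hC hgrC
  have := flat_point d D
  rw [Module.Flat.iff_lTensor_injective']
  intro J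
  rw [injective_iff_map_eq_zero]
  intro x hx
  have h1 : π.rTensor J x = 0 := by
    apply Module.Flat.lTensor_preserves_injective_linearMap (M := M ⧸ LinearMap.range α) J.subtype J.injective_subtype
    rw [map_zero, ← LinearMap.comp_apply, LinearMap.lTensor_comp_rTensor, ← LinearMap.rTensor_comp_lTensor,
      LinearMap.comp_apply, hx, map_zero]
  obtain ⟨z, rfl⟩ := (rTensor_exact J hex hπ x).mp h1
  have h2 : J.subtype.lTensor (Fin r → D) z = 0 := by
    apply hα R
    rw [map_zero, ← LinearMap.comp_apply, LinearMap.rTensor_comp_lTensor, ← LinearMap.lTensor_comp_rTensor,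
      LinearMap.comp_apply, hx]
  have : Module.Flat R (Fin r → D) := Module.Flat.of_linearEquiv (DFinsupp.linearEquivFunOnFintype (R := R) (M := fun _ : Fin r => D)).symm
  rw [Module.Flat.lTensor_preserves_injective_linearMap (M := Fin r → D) J.subtype J.injective_subtype
    (h2.trans (map_zero _).symm), map_zero]

variable [Module.Finite D M]

include d D in
theorem flat_point_of_grInj {n : ℕ} (IH : PointFlat.{u} n) (hk : k ≤ n) (hM : GrInj R M) : Module.Flat R M := by
  classical
  have h := isPointRing_ptHom d D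
  have hprime := h.contentRing.prime
  obtain ⟨r, v, ⟨t, ht, hspan⟩, hind⟩ := exists_generators (N := M) ((IsLocalRing.maximalIdeal R).map (algebraMap R D))
  let α : (Fin r → D) →ₗ[D] M := Fintype.linearCombination D v
  have hrange : ∀ x : M, t • x ∈ LinearMap.range α := fun x => by
    rw [Fintype.range_linearCombination]; exact hspan x
  refine flat_of_grInj_cokernel d D M hM α (rTensor_injective_of_grInj d D M hM α fun w hw => hind w hw) ?_
  intro hgrC
  by_cases htu : IsUnit t
  · have : Subsingleton (M ⧸ LinearMap.range α) := by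
      refine ⟨fun a b => ?_⟩
      obtain ⟨a, rfl⟩ := Submodule.mkQ_surjective (LinearMap.range α) a
      obtain ⟨b, rfl⟩ := Submodule.mkQ_surjective (LinearMap.range α) b
      rw [← sub_eq_zero, ← map_sub, Submodule.mkQ_apply, Submodule.Quotient.mk_eq_zero]
      obtain ⟨e, he⟩ := hrange (a - b)
      obtain ⟨w, hw⟩ := htu.exists_left_inv
      exact ⟨w • e, by rw [map_smul, he, smul_smul, hw, one_smul]⟩
    infer_instance
  set C := M ⧸ LinearMap.range α
  obtain ⟨s, p, hs, hp⟩ := h.frac t
  let A := QuotA d.f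
  have hAfp : Algebra.FinitePresentation R A :=
    Algebra.FinitePresentation.quotient (Submodule.fg_span_singleton _)
  obtain ⟨x, hx⟩ : ∃ x, x = AdjoinRoot.mk d.f p := ⟨_, rfl⟩
  let S₂ := A ⧸ Ideal.span {x}
  have hS₂ : Algebra.FinitePresentation R S₂ :=
    Algebra.FinitePresentation.quotient (Submodule.fg_span_singleton _)
  let I : Ideal D := Ideal.span {t}
  have hxI : algebraMap A D x ∈ I := by
    rw [hx, ← ptHom_apply, ← hp]
    exact Ideal.mul_mem_left _ _ (Ideal.mem_span_singleton_self t)
  let L₂ := D ⧸ I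
  let ψ : S₂ →+* L₂ := Ideal.Quotient.lift (Ideal.span {x}) ((Ideal.Quotient.mk I).comp (algebraMap A D))
    (fun a ha => by
      obtain ⟨b, rfl⟩ := Ideal.mem_span_singleton'.mp ha
      rw [RingHom.comp_apply, map_mul]
      exact Ideal.Quotient.eq_zero_iff_mem.mpr (Ideal.mul_mem_left _ _ hxI))
  letI : Algebra S₂ L₂ := ψ.toAlgebra
  have : IsScalarTower R S₂ L₂ := IsScalarTower.of_algebraMap_eq fun c => by
    show Ideal.Quotient.mk I (algebraMap R D c) = Ideal.Quotient.mk I (algebraMap A D (algebraMap R A c))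
    rw [← IsScalarTower.algebraMap_apply]
  have hItop : I ≠ ⊤ := fun hI => htu (Ideal.span_singleton_eq_top.mp hI)
  have : Nontrivial L₂ := Ideal.Quotient.nontrivial_iff.mpr hItop
  have hL₂loc : IsLocalRing L₂ := .of_surjective' _ Ideal.Quotient.mk_surjective
  have hloc : IsLocalization ((ptSub d.f d.a).map (Ideal.Quotient.mk (Ideal.span {x}))) L₂ := by
    refine IsLocalization.of_surjective (ptSub d.f d.a) (S := D) (Ideal.Quotient.mk (Ideal.span {x})) Ideal.Quotient.mk_surjective
      (Ideal.Quotient.mk I) Ideal.Quotient.mk_surjective rfl ?_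
    rw [Ideal.mk_ker, Ideal.mk_ker, Ideal.map_span, Set.image_singleton, Ideal.span_le, Set.singleton_subset_iff]
    obtain ⟨w, hw⟩ := (h.unit s hs).exists_left_inv
    have : t = w * algebraMap A D x := by rw [hx, ← ptHom_apply, ← hp, ← mul_assoc, hw, one_mul]
    rw [SetLike.mem_coe, this]
    exact Ideal.mul_mem_left _ _ (Ideal.mem_span_singleton_self _)
  obtain ⟨q, _, hq, _⟩ := exists_isLocalization_atPrime (A := S₂) (L := L₂)
    ((ptSub d.f d.a).map (Ideal.Quotient.mk (Ideal.span {x})))
  have hm : ∀ c ∈ IsLocalRing.maximalIdeal R, algebraMap R S₂ c ∈ q := by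
    intro c hc
    rw [hq, Ideal.mem_comap, ← IsScalarTower.algebraMap_apply, IsLocalRing.mem_maximalIdeal]
    intro hu
    have hl : IsLocalHom (Ideal.Quotient.mk I) := IsLocalHom.of_surjective _ Ideal.Quotient.mk_surjective
    have hu' : IsUnit (algebraMap R D c) := isUnit_of_map_unit (Ideal.Quotient.mk I) _ hu
    exact h.contentRing.prime.ne_top (Ideal.eq_top_of_isUnit_mem _ (Ideal.mem_map_of_mem _ hc) hu')
  have hrat : ∀ z : S₂, ∃ c : R, z - algebraMap R S₂ c ∈ q := by
    intro z
    obtain ⟨z, rfl⟩ := Ideal.Quotient.mk_surjective z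
    obtain ⟨p', rfl⟩ := AdjoinRoot.mk_surjective z
    refine ⟨secHom d.a p', ?_⟩
    rw [hq, Ideal.mem_comap, IsLocalRing.mem_maximalIdeal]
    intro hu
    have hl : IsLocalHom (Ideal.Quotient.mk I) := IsLocalHom.of_surjective _ Ideal.Quotient.mk_surjective
    have hu' : IsUnit (ptHom d D (p' - algebraMap R (PolyA R k) (secHom d.a p'))) := by
      refine isUnit_of_map_unit (Ideal.Quotient.mk I) _ ?_
      rw [map_sub, AlgHom.commutes]
      rw [map_sub, ← IsScalarTower.algebraMap_apply] at hu
      exact hu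
    obtain ⟨w, hw⟩ := hu'.exists_left_inv
    obtain ⟨s₁, p₁, hs₁, hp₁⟩ := h.frac w
    have h1 : ptHom d D (p₁ * (p' - algebraMap R (PolyA R k) (secHom d.a p')) - s₁) = 0 := by
      rw [map_sub, map_mul, ← hp₁, mul_assoc, hw, mul_one, sub_self]
    obtain ⟨s', hs', hz⟩ := (h.eq_zero _).mp h1
    obtain ⟨r', hr⟩ := Ideal.mem_span_singleton'.mp hz
    have h2 := congrArg (secHom d.a) hr
    have hc : secHom d.a (algebraMap R (PolyA R k) (secHom d.a p')) = secHom d.a p' := by
      simp [secHom, Polynomial.algebraMap_eq, IsScalarTower.algebraMap_apply R (MvPolynomial (Fin k) R)]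
    rw [map_mul, d.sec_f, mul_zero, map_mul, map_sub, map_mul, map_sub, hc, sub_self, mul_zero, zero_sub,
      mul_neg, eq_comm, neg_eq_zero] at h2
    exact (hs'.mul hs₁).ne_zero h2
  have htC : ∀ c : C, t • c = 0 := fun c => by
    obtain ⟨y, rfl⟩ := Submodule.mkQ_surjective (LinearMap.range α) c
    rw [← map_smul]
    exact (Submodule.Quotient.mk_eq_zero _).mpr (hrange y)
  have htors : Module.IsTorsionBySet D C (I : Set D) :=
    Module.isTorsionBySet_iff_is_torsion_by_span _ |>.mp fun c a => by
      obtain ⟨a, rfl⟩ := a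
      exact htC c
  letI : Module L₂ C := htors.module
  have : IsScalarTower D L₂ C := htors.isScalarTower
  have : IsScalarTower R L₂ C := IsScalarTower.of_algebraMap_smul fun c m => by
    show (Ideal.Quotient.mk I (algebraMap R D c)) • m = c • m
    rw [Module.IsTorsionBySet.mk_smul, algebraMap_smul]
  have : Module.Finite L₂ C := Module.Finite.of_restrictScalars_finite D L₂ C
  have hdim : ringKrullDim (L₂ ⧸ (IsLocalRing.maximalIdeal R).map (algebraMap R L₂)) < (n : ℕ) := by
    set mD := (IsLocalRing.maximalIdeal R).map (algebraMap R D)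
    have := h.contentRing.prime
    have hdom : IsDomain (D ⧸ mD) := inferInstance
    have htb : Ideal.Quotient.mk mD t ∈ nonZeroDivisors (D ⧸ mD) :=
      mem_nonZeroDivisors_of_ne_zero fun h0 => ht (Ideal.Quotient.eq_zero_iff_mem.mp h0)
    have h1 := ringKrullDim_quotient_succ_le_of_nonZeroDivisor htb
    have h2 := ringKrullDim_closedFibre_point d D
    have e : (L₂ ⧸ (IsLocalRing.maximalIdeal R).map (algebraMap R L₂)) ≃+*
        ((D ⧸ mD) ⧸ Ideal.span {Ideal.Quotient.mk mD t}) := by
      refine RingEquiv.trans (Ideal.quotEquivOfEq (show _ = mD.map (Ideal.Quotient.mk I) by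
        rw [Ideal.map_map]; rfl)) ?_
      refine RingEquiv.trans (DoubleQuot.quotQuotEquivComm I mD) (Ideal.quotEquivOfEq ?_)
      rw [Ideal.map_span, Set.image_singleton]
    rw [ringKrullDim_eq_of_ringEquiv e]
    have h3 := (h1.trans h2).trans (Nat.cast_le.mpr hk : ((k : ℕ) : WithBot ℕ∞) ≤ (n : ℕ))
    revert h3
    generalize ringKrullDim ((D ⧸ mD) ⧸ Ideal.span {Ideal.Quotient.mk mD t}) = z
    intro h3
    cases z with
    | bot => exact WithBot.bot_lt_coe _
    | coe z =>
      cases z with
      | top =>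
        exfalso
        rw [← WithBot.coe_one, ← WithBot.coe_add, top_add] at h3
        exact absurd (WithBot.coe_le_coe.mp h3) (by simp)
      | coe z =>
        norm_cast at h3 ⊢
  exact IH R S₂ L₂ C q hm hgrC hrat hdim

end PointRing

theorem pointFlat : ∀ n : ℕ, PointFlat.{u} n := by
  intro n
  induction n with
  | zero =>
    intro R S L M _ _ _ _ _ _ _ _ _ _ q _ _ _ _ _ _ _ hm _ _ hdim
    exfalso
    have hne : (IsLocalRing.maximalIdeal R).map (algebraMap R L) ≠ ⊤ := by
      refine ne_top_of_le_ne_top (IsLocalRing.maximalIdeal.isMaximal L).ne_top ?_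
      rw [Ideal.map_le_iff_le_comap]
      intro c hc
      rw [Ideal.mem_comap, IsScalarTower.algebraMap_apply R S L, IsLocalRing.mem_maximalIdeal,
        mem_nonunits_iff, IsLocalization.AtPrime.isUnit_to_map_iff L q]
      exact fun h => h (hm c hc)
    have : Nontrivial (L ⧸ (IsLocalRing.maximalIdeal R).map (algebraMap R L)) :=
      Ideal.Quotient.nontrivial_iff.mpr hne
    exact not_lt.mpr ringKrullDim_nonneg_of_nontrivial (by simpa using hdim)
  | succ n IH =>
    intro R S L M _ _ _ _ _ _ _ _ _ _ q _ _ _ _ _ _ _ hm hgr hrat hdim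
    obtain ⟨k, hk, t, htq, hmin⟩ := exists_parameters (L := L) q hm n hdim
    letI : Algebra (MvPolynomial (Fin k) R) S := (MvPolynomial.aeval t).toRingHom.toAlgebra
    have : IsScalarTower R (MvPolynomial (Fin k) R) S :=
      IsScalarTower.of_algebraMap_eq fun c => ((MvPolynomial.aeval t).commutes c).symm
    have hX : ∀ i, algebraMap (MvPolynomial (Fin k) R) S (MvPolynomial.X i) = t i :=
      fun i => MvPolynomial.aeval_X t i
    have hqf : Algebra.QuasiFiniteAt (MvPolynomial (Fin k) R) q :=
      quasiFiniteAt_of_minimal q hrat (fun i => (hX i).symm ▸ htq i) hm (by simpa only [hX] using hmin)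
    obtain ⟨B', _, _, _, _, _, r', _, hx', hm', hrat', L', _, _, _, _, _, _, hfin, hflat, hff⟩ :=
      exists_finite_split (R := R) (L := L) q hrat (fun i => (hX i).symm ▸ htq i) hm
    obtain ⟨f, a, hmonic, hf, hd, φ, hloc⟩ := exists_std_presentation B' r' hx' hm' hrat'
    set D₀ := Localization.AtPrime r'
    letI : Algebra (QuotA f) D₀ := φ.toRingHom.toAlgebra
    have : IsScalarTower R (QuotA f) D₀ := IsScalarTower.of_algebraMap_eq fun c => (φ.commutes c).symm
    have : IsLocalization (ptSub f a) D₀ := hloc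
    let M' := L' ⊗[L] M
    letI : Module D₀ M' := TensorProduct.leftModule
    have : IsScalarTower D₀ L' M' := TensorProduct.isScalarTower_left
    have : Module.Finite D₀ M' := Module.Finite.trans L' M'
    have : IsScalarTower R D₀ M' := IsScalarTower.of_algebraMap_smul fun c m => by
      rw [← algebraMap_smul L' (algebraMap R D₀ c) m, ← IsScalarTower.algebraMap_apply, algebraMap_smul]
    have hgrM' : GrInj R M' := grInj_tensor L' M hgr
    obtain ⟨R', _, _, dd, D, _, _, _, _, _, _, _, hDflat, hDloc, ⟨_, hmax', hext', hcompat, hflatR⟩, htrans⟩ :=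
      exists_point_extension f a hmonic hf hd D₀
    let M'' := D ⊗[D₀] M'
    have : IsScalarTower R' D M'' := TensorProduct.isScalarTower_left
    have hflat'' : Module.Flat R' M'' := flat_point_of_grInj dd D M'' IH hk (htrans.2 M' hgrM')
    have hffD : Module.FaithfullyFlat D₀ D := Module.FaithfullyFlat.of_flat_of_isLocalHom
    let _ : Algebra R D := ((algebraMap D₀ D).comp (algebraMap R D₀)).toAlgebra
    have : IsScalarTower R D₀ D := IsScalarTower.of_algebraMap_eq fun _ => rfl
    have : IsScalarTower R R' D := IsScalarTower.of_algebraMap_eq fun c => hcompat c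
    have : IsScalarTower R R' M'' := IsScalarTower.of_algebraMap_smul fun c m => by
      rw [← algebraMap_smul D (algebraMap R R' c) m, ← IsScalarTower.algebraMap_apply, algebraMap_smul]
    have : Module.Flat R M'' := Module.Flat.trans R R' M''
    have : Module.Flat R M' := flat_of_faithfullyFlat_tensor (R := R) (T := D₀) D M'
    exact flat_of_faithfullyFlat_tensor (R := R) (T := L) L' M

end Groth.Agent.FlatCrit65
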