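import Groth.Agent.FlatCrit65.Assassin.Extension

/-!
# Flat local extensions with prescribed residue field
-/

universe u

noncomputable section

open Polynomial

namespace Groth.Agent.FlatCrit65

theorem exists_monic_root {A K : Type u} [CommRing A] [IsLocalRing A] [Field K] (χ : A →+* K)
    (hχ : RingHom.ker χ = IsLocalRing.maximalIdeal A) (θ : K) {r : A[X]}
    (hr : Polynomial.eval₂RingHom χ θ r = 0)
    (hc : r ∉ (IsLocalRing.maximalIdeal A).map Polynomial.C) :
    ∃ r' : A[X], r'.Monic ∧ Polynomial.eval₂RingHom χ θ r' = 0 ∧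
      ∃ d, r'.natDegree ≤ d ∧ r.coeff d ≠ 0 := by
  classical
  set m := IsLocalRing.maximalIdeal A
  rw [Ideal.mem_map_C_iff] at hc
  push Not at hc
  let E := r.support.filter fun i => r.coeff i ∉ m
  have hE : E.Nonempty := by
    obtain ⟨i, hi⟩ := hc
    exact ⟨i, Finset.mem_filter.mpr ⟨Polynomial.mem_support_iff.mpr fun h => hi (h ▸ zero_mem m), hi⟩⟩
  let d := E.max' hE
  have hd : r.coeff d ∉ m := (Finset.mem_filter.mp (E.max'_mem hE)).2
  obtain ⟨u, hu⟩ := not_not.mp (fun h => hd ((IsLocalRing.mem_maximalIdeal _).mpr h))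
  let r' : A[X] := ∑ i ∈ Finset.range (d + 1), Polynomial.C ((↑u⁻¹ : A) * r.coeff i) * X ^ i
  have hcoeff : ∀ i, r'.coeff i = if i ≤ d then (↑u⁻¹ : A) * r.coeff i else 0 := fun i => by
    simp only [r', finsetSum_coeff, coeff_C_mul_X_pow, Finset.sum_ite_eq, Finset.mem_range, Nat.lt_succ_iff]
  have hle : r'.natDegree ≤ d := Polynomial.natDegree_le_iff_coeff_eq_zero.mpr fun i hi => by
    rw [hcoeff, if_neg (not_le.mpr hi)]
  refine ⟨r', Polynomial.monic_of_natDegree_le_of_coeff_eq_one d hle
    (by rw [hcoeff, if_pos le_rfl, ← hu, Units.inv_mul]), ?_, d, hle, fun h => hd (h ▸ zero_mem m)⟩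
  have hsub : r' - Polynomial.C (↑u⁻¹ : A) * r ∈ m.map Polynomial.C := by
    rw [Ideal.mem_map_C_iff]
    intro i
    rw [coeff_sub, coeff_C_mul, hcoeff]
    split
    · simp
    · rename_i hi
      rw [zero_sub, neg_mem_iff]
      refine m.mul_mem_left _ ?_
      by_contra h
      exact hi (E.le_max' i (Finset.mem_filter.mpr
        ⟨Polynomial.mem_support_iff.mpr fun h0 => h (h0 ▸ zero_mem m), h⟩))
  have hkill : m.map Polynomial.C ≤ RingHom.ker (Polynomial.eval₂RingHom χ θ) := by
    rw [Ideal.map_le_iff_le_comap]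
    intro a ha
    show Polynomial.eval₂RingHom χ θ (Polynomial.C a) = 0
    rw [show m = RingHom.ker χ from hχ.symm] at ha
    simpa using ha
  have h0 := hkill hsub
  rw [RingHom.mem_ker, map_sub, map_mul, hr, mul_zero, sub_zero] at h0
  exact h0

theorem exists_residue_step {A K : Type u} [CommRing A] [IsLocalRing A] [Field K] (χ : A →+* K)
    (hχ : RingHom.ker χ = IsLocalRing.maximalIdeal A) (θ : K) :
    ∃ (B : Type u) (_ : CommRing B) (_ : IsLocalRing B) (_ : Algebra A B),
      Module.Flat A B ∧ IsLocalRing.maximalIdeal B = (IsLocalRing.maximalIdeal A).map (algebraMap A B) ∧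
      TorsionExt A B ∧ ∃ χ' : B →+* K, χ'.comp (algebraMap A B) = χ ∧
        RingHom.ker χ' = IsLocalRing.maximalIdeal B ∧ θ ∈ χ'.range := by
  classical
  let m := IsLocalRing.maximalIdeal A
  let ev : A[X] →+* K := Polynomial.eval₂RingHom χ θ
  have hmA : ∀ a, a ∈ m ↔ χ a = 0 := fun a => by show a ∈ IsLocalRing.maximalIdeal A ↔ _; rw [← hχ]; rfl
  by_cases halg : ∃ g : A[X], g.Monic ∧ ev g = 0
  · -- algebraic step
    obtain ⟨g, ⟨hg, hg0⟩, hmin⟩ := exists_minimal_of_wellFoundedLT
      (fun p : ℕ => ∃ g : A[X], g.natDegree = p ∧ g.Monic ∧ ev g = 0)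
      (halg.elim fun g h => ⟨g.natDegree, g, rfl, h⟩) |>.elim
        (fun p hp => hp.prop.elim fun g h => (⟨g, h.2, fun g' hg' hg0' => by
          rw [h.1]
          exact le_of_not_gt fun hlt => hp.not_prop_of_lt hlt ⟨g', rfl, hg', hg0'⟩⟩ :
          ∃ g : A[X], (g.Monic ∧ ev g = 0) ∧ ∀ g', g'.Monic → ev g' = 0 → g.natDegree ≤ g'.natDegree))
    let B := AdjoinRoot g
    let χ' : B →+* K := AdjoinRoot.lift χ θ hg0
    have hmk : ∀ q, χ' (AdjoinRoot.mk g q) = ev q := fun q => AdjoinRoot.lift_mk hg0 q
    have hof : ∀ a, χ' (algebraMap A B a) = χ a := fun a => AdjoinRoot.lift_of hg0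
    have : Module.Free A B := hg.free_adjoinRoot
    have : Module.Finite A B := hg.finite_adjoinRoot
    have hker : RingHom.ker χ' = m.map (algebraMap A B) := by
      refine le_antisymm (fun x hx => ?_) ?_
      · obtain ⟨p, rfl⟩ := AdjoinRoot.mk_surjective x
        have hr : AdjoinRoot.mk g p = AdjoinRoot.mk g (p %ₘ g) := by
          rw [AdjoinRoot.mk_eq_mk, Polynomial.modByMonic_eq_sub_mul_div p g]
          exact ⟨p /ₘ g, by ring⟩
        rw [hr] at hx ⊢
        have hdeg : (p %ₘ g).degree < g.degree := Polynomial.degree_modByMonic_lt p hg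
        generalize p %ₘ g = r at hx hdeg ⊢
        have hrx : ev r = 0 := by
          rw [RingHom.mem_ker] at hx
          rw [← hx, hmk]
        have hall : r ∈ m.map Polynomial.C := by
          by_contra hc
          obtain ⟨r', hr', hev, d, hd, hrd⟩ := exists_monic_root χ hχ θ hrx hc
          have h1 := hmin r' hr' hev
          have h3 : (d : WithBot ℕ) < g.degree := lt_of_le_of_lt (Polynomial.le_degree_of_ne_zero hrd) hdeg
          rw [Polynomial.degree_eq_natDegree hg.ne_zero, Nat.cast_lt] at h3
          omega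
        have := Ideal.mem_map_of_mem (AdjoinRoot.mk g) hall
        rw [Ideal.map_map] at this
        exact this
      · rw [Ideal.map_le_iff_le_comap]
        intro a ha
        show χ' (algebraMap A B a) = 0
        rw [hof]
        exact (hmA a).mp ha
    have hprime : (RingHom.ker χ').IsPrime := RingHom.ker_isPrime χ'
    have hcomap : (RingHom.ker χ').comap (algebraMap A B) = m := by
      ext a
      rw [hmA]
      show χ' (algebraMap A B a) = 0 ↔ _
      rw [hof]
    have hmaxker : (RingHom.ker χ').IsMaximal :=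
      Ideal.isMaximal_of_isIntegral_of_isMaximal_comap _ (by rw [hcomap]; exact IsLocalRing.maximalIdeal.isMaximal A)
    have hloc : IsLocalRing B := IsLocalRing.of_unique_max_ideal ⟨_, hmaxker, fun M hM => by
      have : (M.comap (algebraMap A B)).IsMaximal := Ideal.isMaximal_comap_of_isIntegral_of_isMaximal M
      refine (hmaxker.eq_of_le hM.ne_top ?_).symm
      rw [hker, Ideal.map_le_iff_le_comap, IsLocalRing.eq_maximalIdeal this]⟩
    have hmaxB : IsLocalRing.maximalIdeal B = RingHom.ker χ' := (IsLocalRing.eq_maximalIdeal hmaxker).symm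
    refine ⟨B, inferInstance, hloc, inferInstance, inferInstance, hmaxB.trans hker,
      fun X _ _ z hz ht => exists_torsion_coord z hz ht, χ', RingHom.ext fun a => ?_, hmaxB.symm,
      ⟨AdjoinRoot.root g, AdjoinRoot.lift_root hg0⟩⟩
    exact hof a
  · -- transcendental step
    let P : Ideal A[X] := RingHom.ker ev
    have hP : P.IsPrime := RingHom.ker_isPrime ev
    have hPm : P = m.map Polynomial.C := by
      refine le_antisymm (fun p hp => ?_) ?_
      · by_contra hc
        obtain ⟨r', hr', hev, -⟩ := exists_monic_root χ hχ θ hp hc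
        exact halg ⟨r', hr', hev⟩
      · rw [Ideal.map_le_iff_le_comap]
        intro a ha
        show ev (Polynomial.C a) = 0
        simp [ev, (hmA a).mp ha]
    let B := Localization.AtPrime P
    have hunit : ∀ y : P.primeCompl, IsUnit (ev y) := fun y => isUnit_iff_ne_zero.mpr y.2
    let χ' : B →+* K := IsLocalization.lift hunit
    have hcomp : ∀ p : A[X], χ' (algebraMap A[X] B p) = ev p := IsLocalization.lift_eq hunit
    have hkerB : RingHom.ker χ' = IsLocalRing.maximalIdeal B := by
      refine IsLocalRing.eq_maximalIdeal ?_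
      have hprime : (RingHom.ker χ').IsPrime := RingHom.ker_isPrime χ'
      have : RingHom.ker χ' = IsLocalRing.maximalIdeal B := by
        refine le_antisymm (IsLocalRing.le_maximalIdeal hprime.ne_top) ?_
        rw [← Localization.AtPrime.map_eq_maximalIdeal, Ideal.map_le_iff_le_comap]
        intro p hp
        show χ' (algebraMap A[X] B p) = 0
        rw [hcomp]; exact hp
      rw [this]; exact IsLocalRing.maximalIdeal.isMaximal B
    refine ⟨B, inferInstance, inferInstance, inferInstance, Module.Flat.trans A A[X] B, ?_,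
      torsionExt_rational P.primeCompl (fun w hw h0 => hw ?_) B, χ', RingHom.ext fun a => ?_, hkerB,
      ⟨algebraMap A[X] B X, by rw [hcomp]; simp [ev]⟩⟩
    · rw [← Localization.AtPrime.map_eq_maximalIdeal, IsScalarTower.algebraMap_eq A A[X] B, ← Ideal.map_map]
      congr 1
    · show w ∈ P
      rw [hPm, Ideal.mem_map_C_iff]
      intro i
      rw [← IsLocalRing.residue_eq_zero_iff, ← Polynomial.coeff_map, h0, coeff_zero]
    · show χ' (algebraMap A B a) = χ a
      rw [IsScalarTower.algebraMap_apply A A[X] B, hcomp]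
      simp [ev]

/-- A flat local extension with the same maximal ideal and prescribed residue field generators, along
which torsion descends. -/
theorem exists_residue_extension : ∀ (N : ℕ) {A K : Type u} [CommRing A] [IsLocalRing A] [Field K] (χ : A →+* K)
    (_ : RingHom.ker χ = IsLocalRing.maximalIdeal A) (θ : Fin N → K),
    ∃ (B : Type u) (_ : CommRing B) (_ : IsLocalRing B) (_ : Algebra A B),
      Module.Flat A B ∧ IsLocalRing.maximalIdeal B = (IsLocalRing.maximalIdeal A).map (algebraMap A B) ∧
      TorsionExt A B ∧ ∃ χ' : B →+* K, χ'.comp (algebraMap A B) = χ ∧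
        RingHom.ker χ' = IsLocalRing.maximalIdeal B ∧ ∀ i, θ i ∈ χ'.range := by
  intro N
  induction N with
  | zero =>
    intro A K _ _ _ χ hχ θ
    exact ⟨A, inferInstance, inferInstance, Algebra.id A, inferInstance, by rw [Algebra.algebraMap_self, Ideal.map_id],
      torsionExt_self A, χ, RingHom.comp_id χ, hχ, fun i => i.elim0⟩
  | succ N IH =>
    intro A K _ _ _ χ hχ θ
    obtain ⟨B, _, _, _, hflat, hmax, hext, χ₁, hcomp, hker, hθ⟩ := IH χ hχ (θ ∘ Fin.castSucc)
    obtain ⟨C, _, _, _, hflat', hmax', hext', χ₂, hcomp', hker', hlast⟩ :=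
      exists_residue_step χ₁ hker (θ (Fin.last N))
    let _ : Algebra A C := ((algebraMap B C).comp (algebraMap A B)).toAlgebra
    have : IsScalarTower A B C := IsScalarTower.of_algebraMap_eq fun _ => rfl
    refine ⟨C, inferInstance, inferInstance, inferInstance, Module.Flat.trans A B C, ?_,
      TorsionExt.trans (le_of_eq hmax) hext hext', χ₂, ?_, hker', fun i => ?_⟩
    · rw [hmax', hmax, Ideal.map_map]; rfl
    · show χ₂.comp ((algebraMap B C).comp (algebraMap A B)) = χ
      rw [← RingHom.comp_assoc, hcomp', hcomp]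
    · refine Fin.lastCases hlast (fun j => ?_) i
      obtain ⟨b, hb⟩ := hθ j
      exact ⟨algebraMap B C b, by rw [← RingHom.comp_apply, hcomp']; exact hb⟩

end Groth.Agent.FlatCrit65
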