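import Groth.Agent.FlatCrit65.Assassin.Coeff
import Groth.Agent.FlatCrit65.Assassin.Gonflement
import Groth.Agent.EtAlg23.GlueFlat

/-!
# Torsion of `M ⊗ X` comes from torsion of `X`
-/

universe u

noncomputable section

open Polynomial TensorProduct

namespace Groth.Agent.FlatCrit65

/-- Torsion sections of `M ⊗ X` force torsion in `X`. -/
def TorsionDescends (R M : Type u) [CommRing R] [IsLocalRing R] [AddCommGroup M] [Module R M] : Prop :=
  ∀ (X : Type u) [AddCommGroup X] [Module R X] (x : M ⊗[R] X), x ≠ 0 →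
    (∀ a ∈ IsLocalRing.maximalIdeal R, ∃ n : ℕ, a ^ n • x = 0) →
    ∃ c : X, c ≠ 0 ∧ ∀ a ∈ IsLocalRing.maximalIdeal R, ∃ n : ℕ, a ^ n • c = 0

/-- The statement proved by induction on the dimension of the closed fibre. -/
def PointTD (n : ℕ) : Prop :=
  ∀ (R S L M : Type u) [CommRing R] [IsLocalRing R] [CommRing S] [Algebra R S]
    [Algebra.FinitePresentation R S] [CommRing L] [IsLocalRing L] [Algebra R L] [Algebra S L]
    [IsScalarTower R S L] (q : Ideal S) [q.IsPrime] [IsLocalization.AtPrime L q]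
    [AddCommGroup M] [Module L M] [Module R M] [IsScalarTower R L M] [Module.Finite L M] [Module.Flat R M],
    (∀ c ∈ IsLocalRing.maximalIdeal R, algebraMap R S c ∈ q) →
    (∀ s : S, ∃ c : R, s - algebraMap R S c ∈ q) →
    ringKrullDim (L ⧸ (IsLocalRing.maximalIdeal R).map (algebraMap R L)) < (n : ℕ) →
    TorsionDescends R M

section PointRing

variable {R : Type u} [CommRing R] [IsLocalRing R] {k : ℕ} (d : PtData R k) (D : Type u) [CommRing D]
  [IsLocalRing D] [Algebra R D] [Algebra (QuotA d.f) D] [IsScalarTower R (QuotA d.f) D]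
  [IsLocalization (ptSub d.f d.a) D]

omit [IsLocalRing D] in
include d in
theorem torsionDescends_extension {M : Type u} [AddCommGroup M] [Module D M] [Module R M]
    [IsScalarTower R D M] {r : ℕ} (α : (Fin r → D) →ₗ[D] M) (hinj : Function.Injective α)
    [Module.Flat R (M ⧸ LinearMap.range α)]
    (hC : ∀ (X : Type u) [AddCommGroup X] [Module R X] (y : (M ⧸ LinearMap.range α) ⊗[R] X), y ≠ 0 →
      (∀ a ∈ IsLocalRing.maximalIdeal R, ∃ n : ℕ, a ^ n • y = 0) →
      ∃ c : X, c ≠ 0 ∧ ∀ a ∈ IsLocalRing.maximalIdeal R, ∃ n : ℕ, a ^ n • c = 0) :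
    TorsionDescends R M := by
  classical
  intro X _ _ x hx ht
  let π : M →ₗ[R] M ⧸ LinearMap.range α := (LinearMap.range α).mkQ.restrictScalars R
  have hπ : Function.Surjective π := (LinearMap.range α).mkQ_surjective
  have hex : Function.Exact (α.restrictScalars R) π := fun m => by
    show (LinearMap.range α).mkQ m = 0 ↔ _
    rw [Submodule.mkQ_apply, Submodule.Quotient.mk_eq_zero]
    exact Iff.rfl
  by_cases h0 : π.rTensor X x = 0
  · obtain ⟨v, rfl⟩ := (rTensor_exact X hex hπ x).mp h0
    have hαX := Groth.Agent.EtAlg23.rTensor_injective_of_flat_quotient hex hπ hinj X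
    obtain ⟨i, hi⟩ : ∃ i : Fin r, (LinearMap.proj i : (Fin r → D) →ₗ[R] D).rTensor X v ≠ 0 := by
      by_contra hc
      push Not at hc
      refine hx ?_
      have hsum : ∀ w : (Fin r → D) ⊗[R] X, w = ∑ i, (LinearMap.single R (fun _ : Fin r => D) i).rTensor X
          ((LinearMap.proj i).rTensor X w) := by
        intro w
        induction w using TensorProduct.induction_on with
        | zero => simp only [map_zero, Finset.sum_const_zero]
        | tmul c y =>
          simp only [LinearMap.rTensor_tmul, LinearMap.proj_apply, LinearMap.single_apply]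
          rw [← TensorProduct.sum_tmul, Finset.univ_sum_single]
        | add u w hu hw =>
          simp only [map_add, Finset.sum_add_distrib]
          rw [← hu, ← hw]
      rw [hsum v]
      simp only [hc, map_zero, Finset.sum_const_zero]
    obtain ⟨e, he⟩ : ∃ e, (ptCoeff d D e).rTensor X ((LinearMap.proj i).rTensor X v) ≠ 0 := by
      by_contra hc
      push Not at hc
      exact hi (eq_zero_of_ptCoeff d D _ hc)
    let g : (Fin r → D) →ₗ[R] R := (ptCoeff d D e).comp (LinearMap.proj i)
    have hg : g.rTensor X v ≠ 0 := by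
      rw [show g.rTensor X = ((ptCoeff d D e).rTensor X).comp ((LinearMap.proj i).rTensor X) from
        LinearMap.rTensor_comp _ _ _, LinearMap.comp_apply]
      exact he
    let L : R ⊗[R] X ≃ₗ[R] X := TensorProduct.lid R X
    refine ⟨L (g.rTensor X v), L.map_ne_zero_iff.mpr hg, ?_⟩
    intro a ha
    obtain ⟨n, hn⟩ := ht a ha
    refine ⟨n, ?_⟩
    have hv : a ^ n • v = 0 := by
      apply hαX
      rw [LinearMap.map_smul, hn, LinearMap.map_zero]
    rw [← L.map_smul, ← LinearMap.map_smul, hv, LinearMap.map_zero, L.map_zero]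
  · have h1 := hC X (π.rTensor X x) h0
    apply h1
    intro a ha
    obtain ⟨n, hn⟩ := ht a ha
    exact ⟨n, by rw [← map_smul, hn, map_zero]⟩

variable (M : Type u) [AddCommGroup M] [Module D M] [Module R M] [IsScalarTower R D M]
  [Module.Finite D M] [Module.Flat R M]

include d D in
theorem torsionDescends_point {n : ℕ} (IH : PointTD.{u} n) (hk : k ≤ n) :
    TorsionDescends R M := by
  have h := isPointRing_ptHom d D
  obtain ⟨r, α, hinj, hflat, t, ht, hrange⟩ := exists_free_sub (N := M) h.contentRing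
  have key : (∀ (X : Type u) [AddCommGroup X] [Module R X] (y : (M ⧸ LinearMap.range α) ⊗[R] X), y ≠ 0 →
      (∀ a ∈ IsLocalRing.maximalIdeal R, ∃ n : ℕ, a ^ n • y = 0) →
      ∃ c : X, c ≠ 0 ∧ ∀ a ∈ IsLocalRing.maximalIdeal R, ∃ n : ℕ, a ^ n • c = 0) → TorsionDescends R M :=
    fun hC => torsionDescends_extension d D α hinj hC
  by_cases htu : IsUnit t
  · refine key fun X _ _ y hy _ => (hy ?_).elim
    have : Subsingleton (M ⧸ LinearMap.range α) := by
      refine ⟨fun a b => ?_⟩
      obtain ⟨a, rfl⟩ := Submodule.mkQ_surjective (LinearMap.range α) a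
      obtain ⟨b, rfl⟩ := Submodule.mkQ_surjective (LinearMap.range α) b
      rw [← sub_eq_zero, ← map_sub, Submodule.mkQ_apply, Submodule.Quotient.mk_eq_zero]
      obtain ⟨e, he⟩ := hrange (a - b)
      obtain ⟨w, hw⟩ := htu.exists_left_inv
      exact ⟨w • e, by rw [map_smul, he, smul_smul, hw, one_smul]⟩
    exact Subsingleton.elim _ _
  set C := M ⧸ LinearMap.range α
  obtain ⟨s, p, hs, hp⟩ := h.frac t
  let A := QuotA d.f
  have hAfp : Algebra.FinitePresentation R A :=
    Algebra.FinitePresentation.quotient (Submodule.fg_span_singleton _)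
  obtain ⟨x, hx⟩ : ∃ x, x = AdjoinRoot.mk d.f p := ⟨_, rfl⟩
  let S₂ := A ⧸ Ideal.span {x}
  have hS₂ : Algebra.FinitePresentation R S₂ :=
    Algebra.FinitePresentation.quotient (Submodule.fg_span_singleton _)
  let I : Ideal D := Ideal.span {t}
  have hxI : algebraMap A D x ∈ I := by
    rw [hx, ← ptHom_apply, ← hp]
    exact Ideal.mul_mem_left _ _ (Ideal.mem_span_singleton_self t)
  let L₂ := D ⧸ I
  let ψ : S₂ →+* L₂ := Ideal.Quotient.lift (Ideal.span {x}) ((Ideal.Quotient.mk I).comp (algebraMap A D))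
    (fun a ha => by
      obtain ⟨b, rfl⟩ := Ideal.mem_span_singleton'.mp ha
      rw [RingHom.comp_apply, map_mul]
      exact Ideal.Quotient.eq_zero_iff_mem.mpr (Ideal.mul_mem_left _ _ hxI))
  letI : Algebra S₂ L₂ := ψ.toAlgebra
  have : IsScalarTower R S₂ L₂ := IsScalarTower.of_algebraMap_eq fun c => by
    show Ideal.Quotient.mk I (algebraMap R D c) = Ideal.Quotient.mk I (algebraMap A D (algebraMap R A c))
    rw [← IsScalarTower.algebraMap_apply]
  have hItop : I ≠ ⊤ := fun hI => htu (Ideal.span_singleton_eq_top.mp hI)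
  have : Nontrivial L₂ := Ideal.Quotient.nontrivial_iff.mpr hItop
  have hL₂loc : IsLocalRing L₂ := .of_surjective' _ Ideal.Quotient.mk_surjective
  have hloc : IsLocalization ((ptSub d.f d.a).map (Ideal.Quotient.mk (Ideal.span {x}))) L₂ := by
    refine IsLocalization.of_surjective (ptSub d.f d.a) (S := D) (Ideal.Quotient.mk (Ideal.span {x})) Ideal.Quotient.mk_surjective
      (Ideal.Quotient.mk I) Ideal.Quotient.mk_surjective rfl ?_
    rw [Ideal.mk_ker, Ideal.mk_ker, Ideal.map_span, Set.image_singleton, Ideal.span_le, Set.singleton_subset_iff]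
    obtain ⟨w, hw⟩ := (h.unit s hs).exists_left_inv
    have : t = w * algebraMap A D x := by rw [hx, ← ptHom_apply, ← hp, ← mul_assoc, hw, one_mul]
    rw [SetLike.mem_coe, this]
    exact Ideal.mul_mem_left _ _ (Ideal.mem_span_singleton_self _)
  obtain ⟨q, _, hq, _⟩ := exists_isLocalization_atPrime (A := S₂) (L := L₂)
    ((ptSub d.f d.a).map (Ideal.Quotient.mk (Ideal.span {x})))
  have hm : ∀ c ∈ IsLocalRing.maximalIdeal R, algebraMap R S₂ c ∈ q := by
    intro c hc
    rw [hq, Ideal.mem_comap, ← IsScalarTower.algebraMap_apply, IsLocalRing.mem_maximalIdeal]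
    intro hu
    have hl : IsLocalHom (Ideal.Quotient.mk I) := IsLocalHom.of_surjective _ Ideal.Quotient.mk_surjective
    have hu' : IsUnit (algebraMap R D c) := isUnit_of_map_unit (Ideal.Quotient.mk I) _ hu
    exact h.contentRing.prime.ne_top (Ideal.eq_top_of_isUnit_mem _ (Ideal.mem_map_of_mem _ hc) hu')
  have hrat : ∀ z : S₂, ∃ c : R, z - algebraMap R S₂ c ∈ q := by
    intro z
    obtain ⟨z, rfl⟩ := Ideal.Quotient.mk_surjective z
    obtain ⟨p', rfl⟩ := AdjoinRoot.mk_surjective z
    refine ⟨secHom d.a p', ?_⟩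
    rw [hq, Ideal.mem_comap, IsLocalRing.mem_maximalIdeal]
    intro hu
    have hl : IsLocalHom (Ideal.Quotient.mk I) := IsLocalHom.of_surjective _ Ideal.Quotient.mk_surjective
    have hu' : IsUnit (ptHom d D (p' - algebraMap R (PolyA R k) (secHom d.a p'))) := by
      refine isUnit_of_map_unit (Ideal.Quotient.mk I) _ ?_
      rw [map_sub, AlgHom.commutes]
      rw [map_sub, ← IsScalarTower.algebraMap_apply] at hu
      exact hu
    obtain ⟨w, hw⟩ := hu'.exists_left_inv
    obtain ⟨s₁, p₁, hs₁, hp₁⟩ := h.frac w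
    have h1 : ptHom d D (p₁ * (p' - algebraMap R (PolyA R k) (secHom d.a p')) - s₁) = 0 := by
      rw [map_sub, map_mul, ← hp₁, mul_assoc, hw, mul_one, sub_self]
    obtain ⟨s', hs', hz⟩ := (h.eq_zero _).mp h1
    obtain ⟨r', hr⟩ := Ideal.mem_span_singleton'.mp hz
    have h2 := congrArg (secHom d.a) hr
    have hc : secHom d.a (algebraMap R (PolyA R k) (secHom d.a p')) = secHom d.a p' := by
      simp [secHom, Polynomial.algebraMap_eq, IsScalarTower.algebraMap_apply R (MvPolynomial (Fin k) R)]
    rw [map_mul, d.sec_f, mul_zero, map_mul, map_sub, map_mul, map_sub, hc, sub_self, mul_zero, zero_sub,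
      mul_neg, eq_comm, neg_eq_zero] at h2
    exact (hs'.mul hs₁).ne_zero h2
  have htC : ∀ c : C, t • c = 0 := fun c => by
    obtain ⟨y, rfl⟩ := Submodule.mkQ_surjective (LinearMap.range α) c
    rw [← map_smul]
    exact (Submodule.Quotient.mk_eq_zero _).mpr (hrange y)
  have htors : Module.IsTorsionBySet D C (I : Set D) :=
    Module.isTorsionBySet_iff_is_torsion_by_span _ |>.mp fun c a => by
      obtain ⟨a, rfl⟩ := a
      exact htC c
  letI : Module L₂ C := htors.module
  have : IsScalarTower D L₂ C := htors.isScalarTower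
  have : IsScalarTower R L₂ C := IsScalarTower.of_algebraMap_smul fun c m => by
    show (Ideal.Quotient.mk I (algebraMap R D c)) • m = c • m
    rw [Module.IsTorsionBySet.mk_smul, algebraMap_smul]
  have : Module.Finite L₂ C := Module.Finite.of_restrictScalars_finite D L₂ C
  have hdim : ringKrullDim (L₂ ⧸ (IsLocalRing.maximalIdeal R).map (algebraMap R L₂)) < (n : ℕ) := by
    set mD := (IsLocalRing.maximalIdeal R).map (algebraMap R D)
    have := h.contentRing.prime
    have hdom : IsDomain (D ⧸ mD) := inferInstance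
    have htb : Ideal.Quotient.mk mD t ∈ nonZeroDivisors (D ⧸ mD) :=
      mem_nonZeroDivisors_of_ne_zero fun h0 => ht (Ideal.Quotient.eq_zero_iff_mem.mp h0)
    have h1 := ringKrullDim_quotient_succ_le_of_nonZeroDivisor htb
    have h2 := ringKrullDim_closedFibre_point d D
    have e : (L₂ ⧸ (IsLocalRing.maximalIdeal R).map (algebraMap R L₂)) ≃+*
        ((D ⧸ mD) ⧸ Ideal.span {Ideal.Quotient.mk mD t}) := by
      refine RingEquiv.trans (Ideal.quotEquivOfEq (show _ = mD.map (Ideal.Quotient.mk I) by
        rw [Ideal.map_map]; rfl)) ?_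
      refine RingEquiv.trans (DoubleQuot.quotQuotEquivComm I mD) (Ideal.quotEquivOfEq ?_)
      rw [Ideal.map_span, Set.image_singleton]
    rw [ringKrullDim_eq_of_ringEquiv e]
    have h3 := (h1.trans h2).trans (Nat.cast_le.mpr hk : ((k : ℕ) : WithBot ℕ∞) ≤ (n : ℕ))
    revert h3
    generalize ringKrullDim ((D ⧸ mD) ⧸ Ideal.span {Ideal.Quotient.mk mD t}) = z
    intro h3
    cases z with
    | bot => exact WithBot.bot_lt_coe _
    | coe z =>
      cases z with
      | top =>
        exfalso
        rw [← WithBot.coe_one, ← WithBot.coe_add, top_add] at h3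
        exact absurd (WithBot.coe_le_coe.mp h3) (by simp)
      | coe z =>
        norm_cast at h3 ⊢
  exact key (IH R S₂ L₂ C q hm hrat hdim)

end PointRing

end Groth.Agent.FlatCrit65
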