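import Groth.Agent.FlatCrit65.Assassin.NilCoeff
import Groth.Agent.FlatCrit65.Assassin.Divisible

/-!
# Nonzero tensors are seen on socles
-/

universe u

noncomputable section

open TensorProduct

attribute [local instance] Algebra.TensorProduct.rightAlgebra

namespace Groth.Agent.FlatCrit65

theorem smul_mem_smul_top {R S M : Type u} [CommRing R] [CommRing S] [Algebra R S] [AddCommGroup M] [Module S M]
    [Module R M] [IsScalarTower R S M] {P : Ideal R} (s : S) {m : M} (hm : m ∈ P • (⊤ : Submodule R M)) :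
    s • m ∈ P • (⊤ : Submodule R M) :=
  Submodule.smul_induction_on hm (fun a ha v _ => by rw [smul_comm]; exact Submodule.smul_mem_smul ha trivial)
    fun u v hu hv => by rw [smul_add]; exact add_mem hu hv

variable {R S M : Type u} [CommRing R] [IsLocalRing R] [CommRing S] [Algebra R S]
  [Algebra.FinitePresentation R S] [AddCommGroup M] [Module S M] [Module R M] [IsScalarTower R S M]
  [Module.FinitePresentation S M]

set_option maxHeartbeats 1000000 in -- one long construction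
/-- A nonzero tensor with a module flat at a point of the closed fibre becomes, in some quotient, an
elementary tensor with an element killed by the maximal ideal. -/
theorem exists_socle (q : Ideal S) [q.IsPrime]
    (hqm : q.comap (algebraMap R S) = IsLocalRing.maximalIdeal R)
    [Module.Flat R (LocalizedModule q.primeCompl M)] {X : Type u} [AddCommGroup X] [Module R X]
    (x₀ : LocalizedModule q.primeCompl M ⊗[R] X) (hx₀ : x₀ ≠ 0) :
    ∃ (J : Submodule R X) (c : X ⧸ J) (n : LocalizedModule q.primeCompl M),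
      (∀ a ∈ IsLocalRing.maximalIdeal R, a • c = 0) ∧
      J.mkQ.lTensor (LocalizedModule q.primeCompl M) x₀ = n ⊗ₜ[R] c ∧ n ⊗ₜ[R] c ≠ 0 := by
  classical
  obtain ⟨J, hJ, huni⟩ := exists_uniform x₀ hx₀
  let N := LocalizedModule q.primeCompl M
  let ι := LocalizedModule.mkLinearMap q.primeCompl M
  let x := J.mkQ.lTensor N x₀
  have hann : (Submodule.span S {x}).annihilator ≤ q := fun t ht => by
    by_contra htq
    refine hJ (IsLocalizedModule.smul_injective (AlgebraTensorModule.rTensor R (X ⧸ J) ι) (⟨t, htq⟩ : q.primeCompl) (?_ : _ = _))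
    exact (Groth.Agent.CAlg5.mem_ann.mp ht).trans (smul_zero t).symm
  obtain ⟨q₁, hmin, hq₁q⟩ := Ideal.exists_minimalPrimes_le hann
  have := hmin.1.1
  have hflat₁ : Module.Flat R (LocalizedModule q₁.primeCompl M) := by
    refine (flat_localized_iff_kernels q₁).mpr fun I z hz => ?_
    obtain ⟨t, ht, htz⟩ := (flat_localized_iff_kernels q).mp inferInstance I z hz
    exact ⟨t, fun h => ht (hq₁q h), htz⟩
  obtain ⟨P, hP⟩ : ∃ P, P = q₁.comap (algebraMap R S) := ⟨_, rfl⟩
  have hPp : P.IsPrime := hP ▸ inferInstance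
  obtain ⟨hsub, htor'⟩ := Groth.Agent.CAlg5.mem_minimalPrimes_iff_mul_pow.mp hmin
  have hsub' : ∀ s : S, s • x = 0 → s ∈ q₁ := fun s hs => hsub (Groth.Agent.CAlg5.mem_ann.mpr hs)
  -- the image at `q₁`
  obtain ⟨⟨y, t₀⟩, hy⟩ := IsLocalizedModule.surj q.primeCompl (AlgebraTensorModule.rTensor R (X ⧸ J) ι) x
  let ι₁ := AlgebraTensorModule.rTensor R (X ⧸ J) (LocalizedModule.mkLinearMap q₁.primeCompl M)
  have hy₁ : ι₁ y ≠ 0 := by
    intro h0
    obtain ⟨⟨s, hs⟩, hsy⟩ := (IsLocalizedModule.eq_zero_iff q₁.primeCompl ι₁).mp h0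
    refine (‹q₁.IsPrime›.mem_or_mem (hsub' (s * t₀) ?_)).elim hs (fun h => t₀.2 (hq₁q h))
    rw [mul_smul, show (t₀ : S) • x = _ from hy, ← map_smul, show s • y = 0 from hsy, map_zero]
  have htor : ∀ a ∈ P, ∃ k : ℕ, a ^ k • ι₁ y = 0 := by
    intro a ha
    obtain ⟨s, hs, k, hk⟩ := htor' (algebraMap R S a) (by rw [hP] at ha; exact ha)
    have hk' := Groth.Agent.CAlg5.mem_ann.mp hk
    refine ⟨k, ?_⟩
    have h1 : AlgebraTensorModule.rTensor R (X ⧸ J) ι ((s * algebraMap R S a ^ k) • y) = 0 := by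
      rw [map_smul, ← hy, Submonoid.smul_def, smul_comm, hk', smul_zero]
    obtain ⟨⟨t, ht⟩, htt⟩ := (IsLocalizedModule.eq_zero_iff q.primeCompl _).mp h1
    have h2 : ι₁ ((t * s) • algebraMap R S a ^ k • y) = 0 := by
      rw [← mul_smul, mul_assoc, mul_smul, show t • (s * algebraMap R S a ^ k) • y = 0 from htt, map_zero]
    rw [map_smul] at h2
    have h3 := IsLocalizedModule.smul_injective ι₁
      (⟨t * s, q₁.primeCompl.mul_mem (fun h => ht (hq₁q h)) hs⟩ : q₁.primeCompl)
      (h2.trans (smul_zero _).symm)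
    rwa [map_smul, ← map_pow, algebraMap_smul] at h3
  have : Module.Finite (Localization.AtPrime q₁) (LocalizedModule q₁.primeCompl M) :=
    Module.Finite.of_isLocalizedModule q₁.primeCompl (LocalizedModule.mkLinearMap q₁.primeCompl M)
  obtain ⟨c, hc, hct⟩ := exists_torsion_of_flat (R := R) (L := Localization.AtPrime q₁)
    (M := LocalizedModule q₁.primeCompl M) q₁ P hP.symm (ι₁ y) hy₁ htor
  have hc0 : c ≠ 0 := fun h0 => hc 1 hPp.one_notMem (by rw [h0, smul_zero])
  -- elements outside `P` act injectively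
  have hinjp : ∀ s ∉ P, ∀ d : X ⧸ J, s • d = 0 → d = 0 := fun s hs d hd => by
    refine injective_smul_of_uniform huni (a := s) (fun hsx => hs ?_) d hd
    rw [hP]
    exact hsub' _ (by rw [algebraMap_smul]; exact hsx)
  obtain ⟨n, hxn⟩ := huni c hc0
  change x = n ⊗ₜ[R] c at hxn
  let I : Ideal R := LinearMap.ker (LinearMap.toSpanSingleton R (X ⧸ J) c)
  have hIP : I ≤ P := fun a ha => by
    by_contra h
    exact hc0 (hinjp a h c ha)
  -- the nil local ring
  let Ap := Localization.AtPrime P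
  let I' := I.map (algebraMap R Ap)
  have hI'ne : I' ≠ ⊤ := by
    refine ne_top_of_le_ne_top (IsLocalRing.maximalIdeal.isMaximal Ap).ne_top ?_
    rw [← Localization.AtPrime.map_eq_maximalIdeal]
    exact Ideal.map_mono hIP
  let A' := Ap ⧸ I'
  have : Nontrivial A' := Ideal.Quotient.nontrivial_iff.mpr hI'ne
  have : IsLocalRing A' := .of_surjective' _ Ideal.Quotient.mk_surjective
  have hIA' : ∀ a ∈ I, algebraMap R A' a = 0 := fun a ha => by
    rw [IsScalarTower.algebraMap_apply R Ap A']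
    exact Ideal.Quotient.eq_zero_iff_mem.mpr (Ideal.mem_map_of_mem _ ha)
  have hmkp : ∀ a ∈ P, IsNilpotent (algebraMap R A' a) := fun a ha => by
    obtain ⟨k, s, hs, hsc⟩ := hct a ha
    refine ⟨k, ?_⟩
    rw [← map_pow]
    exact hIA' _ (hinjp s hs _ hsc)
  have hunit : ∀ s ∉ P, IsUnit (algebraMap R A' s) := fun s hs => by
    rw [IsScalarTower.algebraMap_apply R Ap A']
    exact (IsLocalization.map_units Ap (⟨s, hs⟩ : P.primeCompl)).map _
  have hfrac : ∀ r : A', ∃ a, ∃ s ∉ P, algebraMap R A' s * r = algebraMap R A' a := fun r => by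
    obtain ⟨b, rfl⟩ := Ideal.Quotient.mk_surjective r
    obtain ⟨⟨a, s⟩, has⟩ := IsLocalization.surj P.primeCompl b
    refine ⟨a, s, s.2, ?_⟩
    rw [IsScalarTower.algebraMap_apply R Ap A', IsScalarTower.algebraMap_apply R Ap A', ← has]
    exact (mul_comm _ _).trans (map_mul _ _ _).symm
  have hnil : ∀ a ∈ IsLocalRing.maximalIdeal A', IsNilpotent a := by
    intro r hr
    obtain ⟨a, s, hs, has⟩ := hfrac r
    have hu := hunit s hs
    have ha : a ∈ P := by
      by_contra h
      have := hunit a h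
      rw [← has] at this
      exact (IsLocalRing.mem_maximalIdeal _).mp hr (isUnit_of_mul_isUnit_right this)
    obtain ⟨k, hk⟩ := hmkp a ha
    exact ⟨k, by
      have := hk
      rw [← has, mul_pow] at this
      exact (hu.pow k).mul_right_eq_zero.mp this⟩
  let _ : Algebra P.ResidueField (IsLocalRing.ResidueField A') :=
    (Ideal.ResidueField.lift P ((IsLocalRing.residue A').comp (algebraMap R A'))
      (fun a ha => (IsLocalRing.residue_eq_zero_iff _).mpr (fun hu => by
        obtain ⟨k, hk⟩ := hmkp a ha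
        exact not_isUnit_zero (hk ▸ hu.pow k)))
      (fun a ha => (hunit a ha).map (IsLocalRing.residue A'))).toAlgebra
  have : IsScalarTower R P.ResidueField (IsLocalRing.ResidueField A') :=
    IsScalarTower.of_algebraMap_eq fun a => (Ideal.ResidueField.lift_algebraMap ..).symm
  -- transport along `R/I ⊆ X/J` and `R/I ⊆ A'`
  let φ : R ⧸ I →ₗ[R] X ⧸ J := Submodule.liftQ I (LinearMap.toSpanSingleton R (X ⧸ J) c) le_rfl
  have hφ : Function.Injective φ := by
    rw [injective_iff_map_eq_zero]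
    intro a ha
    obtain ⟨a, rfl⟩ := Submodule.mkQ_surjective I a
    exact (Submodule.Quotient.mk_eq_zero I).mpr ha
  let ψ : R ⧸ I →ₗ[R] A' := Submodule.liftQ I (Algebra.linearMap R A') hIA'
  have hker : ∀ a : R, algebraMap R A' a = 0 → a ∈ I := by
    intro a ha
    rw [IsScalarTower.algebraMap_apply R Ap A'] at ha
    have ha' : algebraMap R Ap a ∈ I' := Ideal.Quotient.eq_zero_iff_mem.mp ha
    obtain ⟨⟨⟨i, hi⟩, s⟩, he⟩ := (IsLocalization.mem_map_algebraMap_iff P.primeCompl Ap).mp ha'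
    rw [← map_mul] at he
    obtain ⟨s', hs'⟩ := (IsLocalization.eq_iff_exists P.primeCompl Ap).mp he
    refine hinjp _ (P.primeCompl.mul_mem s'.2 s.2) (a • c) ?_
    rw [← mul_smul, show (s' : R) * s * a = s' * i by rw [← hs']; ring, mul_smul,
      show i • c = 0 from hi, smul_zero]
  have hψ : Function.Injective ψ := by
    rw [injective_iff_map_eq_zero]
    intro a ha
    obtain ⟨a, rfl⟩ := Submodule.mkQ_surjective I a
    exact (Submodule.Quotient.mk_eq_zero I).mpr (hker a ha)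
  have hto : ∀ v : N, v ⊗ₜ[R] c = 0 → (1 : A') ⊗ₜ[R] v = 0 := fun v hv => by
    have h1 : v ⊗ₜ[R] (Submodule.mkQ I 1) = (0 : N ⊗[R] (R ⧸ I)) := by
      apply Module.Flat.lTensor_preserves_injective_linearMap (M := N) φ hφ
      rw [map_zero, LinearMap.lTensor_tmul, ← hv]
      exact congrArg (v ⊗ₜ[R] ·) (one_smul R c)
    have h2 := congrArg (fun z => TensorProduct.comm R N A' (ψ.lTensor N z)) h1
    simp only [LinearMap.lTensor_tmul, map_zero, TensorProduct.comm_tmul] at h2
    rwa [show ψ (Submodule.mkQ I 1) = 1 from map_one (algebraMap R A')] at h2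
  have hfrom : ∀ v : N, (1 : A') ⊗ₜ[R] v = 0 → v ⊗ₜ[R] c = 0 := fun v hv => by
    have h1 : v ⊗ₜ[R] (Submodule.mkQ I 1) = (0 : N ⊗[R] (R ⧸ I)) := by
      apply Module.Flat.lTensor_preserves_injective_linearMap (M := N) ψ hψ
      rw [map_zero, LinearMap.lTensor_tmul, show ψ (Submodule.mkQ I 1) = 1 from map_one (algebraMap R A')]
      have := congrArg (TensorProduct.comm R A' N) hv
      rwa [map_zero, TensorProduct.comm_tmul] at this
    have h2 := congrArg (φ.lTensor N) h1
    rw [map_zero, LinearMap.lTensor_tmul] at h2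
    rw [← h2]
    exact congrArg (v ⊗ₜ[R] ·) (one_smul R c).symm
  obtain ⟨⟨m, tn⟩, hm⟩ := IsLocalizedModule.surj q.primeCompl ι n
  change (tn : S) • n = ι m at hm
  -- `m` survives at `q₁` in `A' ⊗ M`
  let κι := (ι.restrictScalars R).lTensor A'
  have hκ : ∀ (t : S) (v : M), κι ((1 : A') ⊗ₜ[R] (t • v)) = (1 : A') ⊗ₜ[R] (t • ι v) := fun t v => by
    show (1 : A') ⊗ₜ[R] ι (t • v) = _
    rw [map_smul]
  have hm1 : ∀ t ∉ q₁, (1 : A') ⊗ₜ[R] (t • m) ≠ 0 := by
    intro t ht h0
    have h1 := congrArg κι h0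
    rw [hκ, map_zero, ← hm, ← mul_smul] at h1
    have h2 := hfrom _ h1
    rw [← smul_tmul', ← hxn] at h2
    exact q₁.primeCompl.mul_mem ht (fun h => tn.2 (hq₁q h)) (hsub' _ h2)
  obtain ⟨r, hr0, hr⟩ := exists_coeff (R := R) q₁ P A' hnil m hm1
  -- membership transfers
  let ιA := AlgebraTensorModule.rTensor R A' ι
  have hdivA : ∀ (a : R) (n' : N), x = n' ⊗ₜ[R] (a • c) → ∀ (m' : M) (t : S), t ∉ q → t • n' = ι m' →
      ∃ t₁ ∉ q₁, ∃ t₂ : S, (1 : A') ⊗ₜ[R] (t₁ • m) = algebraMap R A' a • ((1 : A') ⊗ₜ[R] (t₂ • m')) := by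
    intro a n' hn' m' t ht htn
    have h0 : (1 : A') ⊗ₜ[R] (n - a • n') = 0 := hto _ (by
      rw [sub_tmul, smul_tmul, ← hxn, ← hn', sub_self])
    have h1 : ιA ((t • m - a • ((tn : S) • m')) ⊗ₜ[R] (1 : A')) = 0 := by
      show ι (t • m - a • ((tn : S) • m')) ⊗ₜ[R] (1 : A') = 0
      rw [map_sub, map_smul, LinearMap.map_smul_of_tower, map_smul, ← hm, ← htn, smul_smul, smul_comm a,
        smul_comm a, ← mul_smul, mul_comm t, ← smul_sub]
      have h2 := congrArg (TensorProduct.comm R A' N) h0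
      rw [map_zero, TensorProduct.comm_tmul] at h2
      rw [← smul_tmul', h2, smul_zero]
    obtain ⟨⟨t', ht'⟩, ht't⟩ := (IsLocalizedModule.eq_zero_iff q.primeCompl ιA).mp h1
    refine ⟨t' * t, q₁.primeCompl.mul_mem (fun h => ht' (hq₁q h)) (fun h => ht (hq₁q h)), t' * tn, ?_⟩
    have h3 := congrArg (TensorProduct.comm R M A') ht't
    rw [map_zero, Submonoid.smul_def, smul_tmul', TensorProduct.comm_tmul, smul_sub, tmul_sub, sub_eq_zero,
      smul_comm _ a, ← mul_smul, ← mul_smul] at h3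
    rw [h3, tmul_smul, algebraMap_smul]
  -- the first coefficient
  obtain ⟨a₀, s₀, hs₀, ha₀⟩ := hfrac r
  have ha₀c : a₀ • c ≠ 0 := fun h0 => hr0 ((hunit s₀ hs₀).mul_right_eq_zero.mp (ha₀.trans (hIA' a₀ h0)))
  have hrmem : ∀ a : R, a • c ≠ 0 → r ∈ Ideal.span {algebraMap R A' a} := by
    intro a ha
    obtain ⟨n', hn'⟩ := huni (a • c) ha
    obtain ⟨⟨m', t⟩, htn⟩ := IsLocalizedModule.surj q.primeCompl ι n'
    obtain ⟨t₁, ht₁, t₂, he⟩ := hdivA a n' hn' m' t t.2 htn
    refine hr _ ⟨t₁, ht₁, ?_⟩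
    rw [he]
    exact Submodule.smul_mem_smul (Ideal.mem_span_singleton_self _) trivial
  by_cases hPm : P = IsLocalRing.maximalIdeal R
  · obtain ⟨n₀, hn₀⟩ := huni (a₀ • c) ha₀c
    refine ⟨J, a₀ • c, n₀, fun b hb => ?_, hn₀, fun h0 => hJ (hn₀.trans h0)⟩
    by_contra hbc
    rw [← mul_smul] at hbc
    obtain ⟨e, he⟩ := Ideal.mem_span_singleton'.mp (hrmem (b * a₀) hbc)
    rw [map_mul, ← ha₀] at he
    have hnu : e * algebraMap R A' b * algebraMap R A' s₀ ∈ IsLocalRing.maximalIdeal A' := by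
      refine Ideal.mul_mem_right _ _ (Ideal.mul_mem_left _ _ ?_)
      obtain ⟨k, hk⟩ := hmkp b (hPm ▸ hb)
      exact (IsLocalRing.mem_maximalIdeal _).mpr fun hu => not_isUnit_zero (hk ▸ hu.pow k)
    have h1 : (1 - e * algebraMap R A' b * algebraMap R A' s₀) * r = 0 := by
      rw [sub_mul, one_mul, sub_eq_zero]
      conv_lhs => rw [← he]
      ring
    exact hr0 ((IsLocalRing.isUnit_one_sub_self_of_mem_nonunits _ hnu).mul_right_eq_zero.mp h1)
  exfalso
  obtain ⟨n₀, hn₀⟩ := huni (a₀ • c) ha₀c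
  have hmem : n₀ ∈ P • (⊤ : Submodule R N) := by
    refine mem_smul_of_divisible q hqm P hPm n₀ fun b hb => ?_
    obtain ⟨n', hn'⟩ := huni (b • a₀ • c) (fun h0 => ha₀c (hinjp b hb _ h0))
    refine ⟨n', ?_⟩
    have h0 : (n₀ - b • n') ⊗ₜ[R] (a₀ • c) = 0 := by
      rw [sub_tmul, smul_tmul b, ← hn₀, ← hn', sub_self]
    let I₀ : Ideal R := LinearMap.ker (LinearMap.toSpanSingleton R (X ⧸ J) (a₀ • c))
    have hI₀ : I₀ ≤ P := fun a ha => by_contra fun h => ha₀c (hinjp a h _ ha)
    let φ₀ : R ⧸ I₀ →ₗ[R] X ⧸ J := Submodule.liftQ I₀ (LinearMap.toSpanSingleton R (X ⧸ J) (a₀ • c)) le_rfl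
    have hφ₀ : Function.Injective φ₀ := by
      rw [injective_iff_map_eq_zero]
      intro a ha
      obtain ⟨a, rfl⟩ := Submodule.mkQ_surjective I₀ a
      exact (Submodule.Quotient.mk_eq_zero I₀).mpr ha
    have h1 : (n₀ - b • n') ⊗ₜ[R] (Submodule.mkQ I₀ 1) = (0 : N ⊗[R] (R ⧸ I₀)) := by
      apply Module.Flat.lTensor_preserves_injective_linearMap (M := N) φ₀ hφ₀
      rw [map_zero, LinearMap.lTensor_tmul, ← h0]
      exact congrArg (_ ⊗ₜ[R] ·) (one_smul R _)
    have h2 := congrArg (fun z => TensorProduct.comm R N (R ⧸ P)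
      ((Submodule.liftQ I₀ (Submodule.mkQ P) (fun a ha => (Submodule.Quotient.mk_eq_zero P).mpr (hI₀ ha))).lTensor N z)) h1
    simp only [LinearMap.lTensor_tmul, map_zero, TensorProduct.comm_tmul] at h2
    exact (one_tmul_eq_zero_iff P _).mp h2
  obtain ⟨t, ht, m', hm', hte⟩ : ∃ t ∉ q, ∃ m' ∈ P • (⊤ : Submodule R M), t • n₀ = ι m' := by
    clear hn₀
    refine Submodule.smul_induction_on hmem (fun a ha v _ => ?_) (fun u v hu hv => ?_)
    · obtain ⟨⟨m', t⟩, hv⟩ := IsLocalizedModule.surj q.primeCompl ι v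
      refine ⟨t, t.2, a • m', Submodule.smul_mem_smul ha trivial, ?_⟩
      rw [smul_comm, LinearMap.map_smul_of_tower]
      exact congrArg (a • ·) hv
    · obtain ⟨t, ht, m₁, hm₁, he₁⟩ := hu
      obtain ⟨t', ht', m₂, hm₂, he₂⟩ := hv
      refine ⟨t' * t, q.primeCompl.mul_mem ht' ht, t' • m₁ + t • m₂, ?_, ?_⟩
      · exact add_mem (smul_mem_smul_top t' hm₁) (smul_mem_smul_top t hm₂)
      · rw [map_add, map_smul, map_smul, ← he₁, ← he₂, smul_add, mul_smul, smul_comm t t' v, ← mul_smul t' t v]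
  obtain ⟨t₁, ht₁, t₂, he⟩ := hdivA a₀ n₀ hn₀ m' t ht hte
  have hr' : r ∈ Ideal.span {algebraMap R A' a₀} * P.map (algebraMap R A') := by
    refine hr _ ⟨t₁, ht₁, ?_⟩
    rw [he, ← smul_eq_mul, Submodule.smul_assoc]
    refine Submodule.smul_mem_smul (Ideal.mem_span_singleton_self _) ?_
    have hm₂ : t₂ • m' ∈ P • (⊤ : Submodule R M) := smul_mem_smul_top t₂ hm'
    refine Submodule.smul_induction_on hm₂ (fun a ha v _ => ?_) (fun u v hu hv => ?_)
    · rw [tmul_smul, ← algebraMap_smul A' a]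
      exact Submodule.smul_mem_smul (Ideal.mem_map_of_mem _ ha) trivial
    · rw [tmul_add]; exact add_mem hu hv
  obtain ⟨π, hπ, hπr⟩ := Ideal.mem_span_singleton_mul.mp hr'
  have hπnu : algebraMap R A' s₀ * π ∈ IsLocalRing.maximalIdeal A' := by
    refine Ideal.mul_mem_left _ _ ((Ideal.map_le_iff_le_comap.mpr fun a ha => ?_) hπ)
    obtain ⟨k, hk⟩ := hmkp a ha
    exact (IsLocalRing.mem_maximalIdeal _).mpr fun hu => not_isUnit_zero (hk ▸ hu.pow k)
  have h1 : (1 - algebraMap R A' s₀ * π) * r = 0 := by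
    rw [sub_mul, one_mul, sub_eq_zero]
    conv_lhs => rw [← hπr, ← ha₀]
    ring
  exact hr0 ((IsLocalRing.isUnit_one_sub_self_of_mem_nonunits _ hπnu).mul_right_eq_zero.mp h1)

/-- A map into a flat module which is injective on the closed fibre is universally injective. -/
theorem rTensor_injective_of_closed_fibre (q : Ideal S) [q.IsPrime]
    (hqm : q.comap (algebraMap R S) = IsLocalRing.maximalIdeal R)
    [Module.Flat R (LocalizedModule q.primeCompl M)] {M' : Type u} [AddCommGroup M'] [Module R M']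
    [Module.Flat R M'] (u : LocalizedModule q.primeCompl M →ₗ[R] M')
    (hu : Function.Injective (u.lTensor (IsLocalRing.ResidueField R)))
    (X : Type u) [AddCommGroup X] [Module R X] : Function.Injective (u.rTensor X) := by
  rw [injective_iff_map_eq_zero]
  intro x hx
  by_contra hne
  obtain ⟨J, c, n, hc, hxn, hnc⟩ := exists_socle q hqm x hne
  have hc0 : c ≠ 0 := fun h => hnc (by rw [h, tmul_zero])
  let m := IsLocalRing.maximalIdeal R
  let φ : IsLocalRing.ResidueField R →ₗ[R] X ⧸ J :=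
    Submodule.liftQ m (LinearMap.toSpanSingleton R (X ⧸ J) c) (fun a ha => hc a ha)
  have hφ : Function.Injective φ := by
    rw [injective_iff_map_eq_zero]
    intro a ha
    obtain ⟨a, rfl⟩ := Submodule.mkQ_surjective m a
    refine (Submodule.Quotient.mk_eq_zero m).mpr ((IsLocalRing.mem_maximalIdeal _).mpr fun hu' => hc0 ?_)
    exact (hu'.smul_eq_zero).mp ha
  have h1 : u n ⊗ₜ[R] (1 : IsLocalRing.ResidueField R) = (0 : M' ⊗[R] IsLocalRing.ResidueField R) := by
    apply Module.Flat.lTensor_preserves_injective_linearMap (M := M') φ hφ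
    rw [map_zero, LinearMap.lTensor_tmul, show φ 1 = c from one_smul R c, ← LinearMap.rTensor_tmul (M := X ⧸ J) (f := u) c n,
      ← hxn, ← LinearMap.comp_apply, LinearMap.rTensor_comp_lTensor, ← LinearMap.lTensor_comp_rTensor,
      LinearMap.comp_apply, hx, map_zero]
  have h2 : (1 : IsLocalRing.ResidueField R) ⊗ₜ[R] n = 0 := by
    apply hu
    rw [map_zero, LinearMap.lTensor_tmul]
    have := congrArg (TensorProduct.comm R M' _) h1
    rwa [map_zero, TensorProduct.comm_tmul] at this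
  have h3 := congrArg (fun z => TensorProduct.comm R (X ⧸ J) _ (φ.rTensor _ z)) h2
  simp only [LinearMap.rTensor_tmul, map_zero, TensorProduct.comm_tmul] at h3
  rw [show φ 1 = c from one_smul R c] at h3
  exact hnc h3

end Groth.Agent.FlatCrit65
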