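import Groth.Agent.FlatCrit65.Assassin.FlatLocal
import Groth.Agent.FlatCrit65.Assassin.Socle
import Groth.Agent.FlatCrit65.Assassin.FpModel

/-!
# A map into a flat module which is injective modulo the maximal ideal
-/

universe u

noncomputable section

open TensorProduct

namespace Groth.Agent.FlatCrit65

/-- A module mapping to a flat module injectively modulo the maximal ideal keeps inclusions of modules killed
by the maximal ideal injective. -/
theorem grInj_of_injective_mod_max {A M N : Type u} [CommRing A] [IsLocalRing A] [AddCommGroup M] [Module A M]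
    [Module.Flat A M] [AddCommGroup N] [Module A N] (u : N →ₗ[A] M)
    (h : Function.Injective (u.lTensor (IsLocalRing.ResidueField A))) : GrInj A N := by
  intro X _ _ V hV
  let m := IsLocalRing.maximalIdeal A
  have htors : Module.IsTorsionBySet A V (m : Set A) := fun v a => Subtype.ext (hV a.1 a.2 v.1 v.2)
  let κ := IsLocalRing.ResidueField A
  let _ : Module κ V := htors.module
  have : IsScalarTower A κ V := IsScalarTower.of_algebraMap_smul fun r v => by
    let _ : Module (A ⧸ m) V := htors.module
    show Ideal.Quotient.mk m r • v = r • v
    rw [Module.IsTorsionBySet.mk_smul]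
  have hV' : Function.Injective (u.lTensor V) := by
    let eN := AlgebraTensorModule.cancelBaseChange A κ κ V N
    let eM := AlgebraTensorModule.cancelBaseChange A κ κ V M
    have hb : Function.Injective (u.baseChange κ) := h
    have hsq : ∀ z, eM ((u.baseChange κ).lTensor V z) = u.lTensor V (eN z) := by
      intro z
      induction z using TensorProduct.induction_on with
      | zero => simp only [map_zero]
      | tmul v x =>
        induction x using TensorProduct.induction_on with
        | zero => simp only [tmul_zero, map_zero]
        | tmul c n => simp [eN, eM]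
        | add a b ha hb => simp only [tmul_add, map_add, ha, hb]
      | add a b ha hb => simp only [map_add, ha, hb]
    intro a b hab
    obtain ⟨a, rfl⟩ := eN.surjective a
    obtain ⟨b, rfl⟩ := eN.surjective b
    rw [← hsq, ← hsq] at hab
    rw [Module.Flat.lTensor_preserves_injective_linearMap (M := V) _ hb (eM.injective hab)]
  rw [injective_iff_map_eq_zero]
  intro z hz
  have h1 : V.subtype.lTensor M (u.rTensor V z) = 0 := by
    rw [← LinearMap.comp_apply, LinearMap.lTensor_comp_rTensor, ← LinearMap.rTensor_comp_lTensor,
      LinearMap.comp_apply, hz, map_zero]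
  have h2 := (injective_iff_map_eq_zero _).mp
    (Module.Flat.lTensor_preserves_injective_linearMap _ V.injective_subtype) _ h1
  refine (TensorProduct.comm A N V).map_eq_zero_iff.mp (hV' ?_)
  rw [map_zero]
  refine (LinearMap.congr_fun (show u.lTensor V ∘ₗ (TensorProduct.comm A N V).toLinearMap =
    (TensorProduct.comm A M V).toLinearMap ∘ₗ u.rTensor V from TensorProduct.ext' fun _ _ => rfl) z).trans ?_
  rw [LinearMap.comp_apply, h2, map_zero]

/-- An algebra essentially of finite type over a ring is a quotient of a localisation of a polynomial ring, at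
a prime when it is local. -/
theorem exists_poly_local_cover (A B : Type u) [CommRing A] [CommRing B] [IsLocalRing B] [Algebra A B]
    [Algebra.EssFiniteType A B] :
    ∃ (ι : Type u) (_ : Finite ι) (q : Ideal (MvPolynomial ι A)) (_ : q.IsPrime)
      (ω : Localization.AtPrime q →ₐ[A] B), Function.Surjective ω ∧
      q.comap (algebraMap A (MvPolynomial ι A)) = (IsLocalRing.maximalIdeal B).comap (algebraMap A B) := by
  obtain ⟨σ, hσ⟩ := (Algebra.essFiniteType_iff A B).mp ‹_›
  let π : MvPolynomial σ A →ₐ[A] B := MvPolynomial.aeval Subtype.val
  have hrange : Algebra.adjoin A (σ : Set B) = π.range := by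
    refine Eq.trans ?_ (Algebra.adjoin_range_eq_range_aeval A (Subtype.val : σ → B))
    congr 1
    ext x
    simp
  let q : Ideal (MvPolynomial σ A) := (IsLocalRing.maximalIdeal B).comap π
  have hu : ∀ t : q.primeCompl, IsUnit (π t) := fun t =>
    not_not.mp fun h => t.2 ((IsLocalRing.mem_maximalIdeal _).mpr h)
  refine ⟨σ, inferInstance, q, inferInstance, IsLocalization.liftAlgHom (M := q.primeCompl) (f := π) hu, ?_, ?_⟩
  · intro b
    obtain ⟨t, ht, htu, hbt⟩ := hσ b
    rw [hrange] at ht hbt
    obtain ⟨t, rfl⟩ := ht
    obtain ⟨a, ha⟩ := hbt
    have htq : t ∉ q := fun h => (IsLocalRing.mem_maximalIdeal _).mp h htu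
    refine ⟨IsLocalization.mk' _ a (⟨t, htq⟩ : q.primeCompl), ?_⟩
    show IsLocalization.lift hu _ = b
    rw [IsLocalization.lift_mk'_spec]
    exact ha.trans (mul_comm _ _)
  · show Ideal.comap _ (Ideal.comap π.toRingHom _) = _
    rw [Ideal.comap_comap, show π.toRingHom.comp (algebraMap A _) = algebraMap A B from
      RingHom.ext fun a => π.commutes a]

theorem universallyInjective_of_injective_mod_max {A B M N : Type u} [CommRing A] [CommRing B] [IsLocalRing A]
    [IsLocalRing B] [Algebra A B] [IsLocalHom (algebraMap A B)] [Algebra.EssFiniteType A B]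
    [AddCommGroup M] [Module A M] [Module.Flat A M]
    [AddCommGroup N] [Module A N] [Module B N] [IsScalarTower A B N] [Module.Finite B N]
    (u : N →ₗ[A] M) (h : Function.Injective (u.lTensor (IsLocalRing.ResidueField A))) :
    (∀ (Q : Type u) [AddCommGroup Q] [Module A Q], Function.Injective (u.rTensor Q)) ∧
      Module.FinitePresentation B N ∧ Module.Flat A N := by
  obtain ⟨ι, _, q, _, ω, hω, hqm⟩ := exists_poly_local_cover A B
  let L := Localization.AtPrime q
  let S := MvPolynomial ι A
  have hqm' : q.comap (algebraMap A S) = IsLocalRing.maximalIdeal A :=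
    hqm.trans (((IsLocalRing.local_hom_TFAE (algebraMap A B)).out 0 4).mp ‹_›)
  let _ : Algebra L B := ω.toRingHom.toAlgebra
  have : IsScalarTower A L B := IsScalarTower.of_algebraMap_eq fun a => (ω.commutes a).symm
  let _ : Module L N := Module.compHom N (algebraMap L B)
  have : IsScalarTower L B N := IsScalarTower.of_algebraMap_smul fun _ _ => rfl
  have : IsScalarTower A L N := IsScalarTower.of_algebraMap_smul fun a n => by
    show algebraMap L B (algebraMap A L a) • n = a • n
    rw [← IsScalarTower.algebraMap_apply, algebraMap_smul]
  have : Module.Finite L B := Module.Finite.of_surjective (Algebra.linearMap L B) hω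
  have : Module.Finite L N := Module.Finite.trans B N
  have hflat : Module.Flat A N :=
    flat_of_grInj (S := S) (L := L) q hqm' (grInj_of_injective_mod_max u h)
  have hfpL : Module.FinitePresentation L N := finitePresentation_of_flat_local (R := A) (S := S) q
  refine ⟨fun Q _ _ => ?_, ?_, hflat⟩
  · let _ : Module S N := Module.compHom N (algebraMap S L)
    have : IsScalarTower S L N := IsScalarTower.of_algebraMap_smul fun _ _ => rfl
    have : IsScalarTower A S N := IsScalarTower.of_algebraMap_smul fun a n => by
      show algebraMap S L (algebraMap A S a) • n = a • n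
      rw [← IsScalarTower.algebraMap_apply, algebraMap_smul]
    obtain ⟨M₀, _, _, f, hfp, hf⟩ := exists_fp_model q.primeCompl L N
    let _ : Module A M₀ := Module.compHom M₀ (algebraMap A S)
    have : IsScalarTower A S M₀ := IsScalarTower.of_algebraMap_smul fun _ _ => rfl
    let e := (IsLocalizedModule.iso q.primeCompl f).restrictScalars A
    have : Module.Flat A (LocalizedModule q.primeCompl M₀) := Module.Flat.of_linearEquiv e
    have hinj := rTensor_injective_of_closed_fibre (M := M₀) q hqm' (u ∘ₗ e.toLinearMap)
      (by rw [LinearMap.lTensor_comp]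
          exact h.comp (e.lTensor (IsLocalRing.ResidueField A)).injective) Q
    intro a b hab
    obtain ⟨a, rfl⟩ := LinearMap.rTensor_surjective Q e.surjective a
    obtain ⟨b, rfl⟩ := LinearMap.rTensor_surjective Q e.surjective b
    rw [← LinearMap.comp_apply, ← LinearMap.comp_apply, ← LinearMap.rTensor_comp] at hab
    rw [hinj hab]
  · obtain ⟨k, g, hg⟩ := Module.Finite.exists_fin' B N
    refine Module.finitePresentation_of_surjective g hg (Submodule.FG.of_restrictScalars L ?_)
    exact Module.FinitePresentation.fg_ker (g.restrictScalars L) hg

end Groth.Agent.FlatCrit65
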