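import Groth.Agent.FlatCrit65.Assassin.Beta
import Mathlib.RingTheory.SurjectiveOnStalks
import Mathlib.RingTheory.Localization.BaseChange
import Mathlib.RingTheory.RingHom.FinitePresentation

/-!
# Regularity on a fibre, over an arbitrary base
-/

universe u

noncomputable section

open TensorProduct

attribute [local instance] Algebra.TensorProduct.rightAlgebra

namespace Groth.Agent.FlatCrit65

set_option maxHeartbeats 1000000 in -- one long construction
/-- The statement over a chosen model of the localization of the algebra and the module at a prime of the base. -/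
theorem kill_at_fibre_aux {R S M : Type u} [CommRing R] [CommRing S] [Algebra R S]
    [AddCommGroup M] [Module S M] [Module R M] [IsScalarTower R S M]
    (p : Ideal R) [p.IsPrime] {S' M' : Type u} [CommRing S'] [Algebra S S'] [Algebra R S']
    [Algebra (Localization.AtPrime p) S'] [IsScalarTower R S S'] [IsScalarTower R (Localization.AtPrime p) S']
    [Algebra.FinitePresentation (Localization.AtPrime p) S']
    [IsLocalization (Algebra.algebraMapSubmonoid S p.primeCompl) S']
    [AddCommGroup M'] [Module S' M'] [Module S M'] [Module R M'] [Module (Localization.AtPrime p) M']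
    [IsScalarTower S S' M'] [IsScalarTower R S M'] [IsScalarTower (Localization.AtPrime p) S' M']
    [IsScalarTower R (Localization.AtPrime p) M'] [SMulCommClass (Localization.AtPrime p) S M']
    [Module.FinitePresentation S' M']
    (f : M →ₗ[S] M') [IsLocalizedModule (Algebra.algebraMapSubmonoid S p.primeCompl) f]
    (q : Ideal S) [q.IsPrime] (hqp : q.comap (algebraMap R S) = p)
    (hflat : Module.Flat R (LocalizedModule q.primeCompl M)) (s : S)
    (hs : ∀ z : M ⊗[R] p.ResidueField, s • z = 0 → ∃ t ∉ q, t • z = 0)
    (Q : Type u) [AddCommGroup Q] [Module R Q] (z : M ⊗[R] Q) (hz : s • z = 0) :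
    ∃ t ∉ q, t • z = 0 := by
  classical
  let A := Localization.AtPrime p
  let T := Algebra.algebraMapSubmonoid S p.primeCompl
  have hTq : ∀ t ∈ T, t ∉ q := by
    rintro _ ⟨r, hr, rfl⟩ h
    exact hr (hqp ▸ h : r ∈ p)
  let q' : Ideal S' := q.map (algebraMap S S')
  have hd : Disjoint (T : Set S) q := Set.disjoint_left.mpr hTq
  have hq' : q'.IsPrime := IsLocalization.isPrime_of_isPrime_disjoint T S' q ‹_› hd
  have hcomap : q'.comap (algebraMap S S') = q := IsLocalization.under_map_of_isPrime_disjoint T S' ‹_› hd
  have hq'm : q'.comap (algebraMap A S') = IsLocalRing.maximalIdeal A := by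
    refine (IsLocalization.map_under p.primeCompl A _).symm.trans ?_
    rw [← Localization.AtPrime.map_eq_maximalIdeal]
    congr 1
    rw [Ideal.under, Ideal.comap_comap, ← IsScalarTower.algebraMap_eq R A S', IsScalarTower.algebraMap_eq R S S',
      ← Ideal.comap_comap, hcomap, hqp]
  -- elements outside `q` are invertible at `q'`
  have hout : ∀ t ∉ q, algebraMap S S' t ∉ q' := fun t ht h => ht (hcomap ▸ (Ideal.mem_comap.mpr h) : t ∈ q)
  have hdescend : ∀ (X : Type u) [AddCommGroup X] [Module R X] (w : M' ⊗[R] X),
      ∃ (y : M ⊗[R] X) (t : S), t ∈ T ∧ t • w = AlgebraTensorModule.rTensor R X f y := fun X _ _ w => by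
    obtain ⟨⟨y, t⟩, h⟩ := IsLocalizedModule.surj T (AlgebraTensorModule.rTensor R X f) w
    exact ⟨y, t, t.2, h⟩
  have hflat' : Module.Flat A (LocalizedModule q'.primeCompl M') := by
    refine (flat_localized_iff_kernels q').mpr ?_
    intro I w hw
    let IR : Ideal R := I.comap (algebraMap R A)
    let e₂ := IsLocalization.moduleTensorEquiv p.primeCompl A M' I
    have he₂ : ∀ (c : S) v, e₂ (c • v) = c • e₂ v := by
      intro c v
      induction v using TensorProduct.induction_on with
      | zero => simp only [smul_zero, map_zero]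
      | tmul a b => rfl
      | add a b ha hb => simp only [smul_add, map_add, ha, hb]
    let jI : IR →ₗ[R] I :=
      { toFun := fun r => ⟨algebraMap R A r, r.2⟩
        map_add' := fun a b => Subtype.ext (map_add _ _ _)
        map_smul' := fun a b => Subtype.ext (by
          show algebraMap R A (a * b) = a • algebraMap R A b
          rw [map_mul, Algebra.smul_def]) }
    have : IsLocalizedModule p.primeCompl jI := by
      refine ⟨fun c => ?_, fun a => ?_, fun {a b} h => ?_⟩
      · obtain ⟨u, hu⟩ := IsLocalization.map_units A c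
        have hu' : ∀ a : I, (c : R) • a = (u : A) • a := fun a => by rw [hu, algebraMap_smul]
        refine (Module.End.isUnit_iff _).mpr ⟨fun a b h => ?_, fun a => ⟨(↑u⁻¹ : A) • a, ?_⟩⟩
        · simp only [Module.algebraMap_end_apply, hu'] at h
          exact u.isUnit.smul_left_cancel.mp h
        · simp only [Module.algebraMap_end_apply, hu', smul_smul, Units.mul_inv, one_smul]
      · obtain ⟨⟨r, c⟩, hrc⟩ := IsLocalization.surj p.primeCompl (a : A)
        refine ⟨⟨⟨r, ?_⟩, c⟩, Subtype.ext ?_⟩
        · show algebraMap R A r ∈ I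
          rw [← hrc]
          exact I.mul_mem_right _ a.2
        · show (c : R) • (a : A) = algebraMap R A r
          rw [← hrc, Algebra.smul_def, mul_comm]
      · obtain ⟨c, hc⟩ := (IsLocalization.eq_iff_exists p.primeCompl A).mp (Subtype.ext_iff.mp h)
        exact ⟨c, Subtype.ext hc⟩
    obtain ⟨⟨w₁, t⟩, hwt₁⟩ := IsLocalizedModule.surj p.primeCompl (AlgebraTensorModule.rTensor R M' jI)
      (TensorProduct.comm R M' I (e₂ w))
    have hcomm : ∀ v : M' ⊗[R] IR, TensorProduct.comm R M' I (jI.lTensor M' v) =
        AlgebraTensorModule.rTensor R M' jI (TensorProduct.comm R M' IR v) := by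
      intro v
      induction v using TensorProduct.induction_on with
      | zero => simp only [map_zero]
      | tmul a b => rfl
      | add a b ha hb => simp only [map_add, ha, hb]
    let w₀ := (TensorProduct.comm R M' IR).symm w₁
    have hwt : t • e₂ w = jI.lTensor M' w₀ := by
      apply (TensorProduct.comm R M' I).injective
      rw [hcomm, LinearEquiv.apply_symm_apply, Submonoid.smul_def, map_smul]
      exact hwt₁
    obtain ⟨y, c, hc, hcy⟩ := hdescend IR w₀
    let u := AlgebraTensorModule.rTensor R R f (IR.subtype.lTensor M y)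
    have hu : u = 0 := by
      have key : ∀ v : M ⊗[R] IR, AlgebraTensorModule.rTensor R R f (IR.subtype.lTensor M v) =
          IR.subtype.lTensor M' (AlgebraTensorModule.rTensor R IR f v) := by
        intro v
        induction v using TensorProduct.induction_on with
        | zero => simp only [map_zero]
        | tmul a b => rfl
        | add a b ha hb => simp only [map_add, ha, hb]
      -- compare `M' ⊗ R → M' ⊗ A`
      let back : M' ⊗[R] R →ₗ[S] M' := (AlgebraTensorModule.rid R S M').toLinearMap
      let toM : ∀ v : M' ⊗[A] I, M' := fun v => TensorProduct.rid A M' (I.subtype.lTensor M' v)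
      have hback : ∀ v : M' ⊗[R] IR, back (IR.subtype.lTensor M' v) = toM (e₂.symm (jI.lTensor M' v)) := by
        intro v
        induction v using TensorProduct.induction_on with
        | zero => simp only [toM, map_zero]
        | tmul a b =>
          show (b : R) • a = algebraMap R A b • a
          rw [algebraMap_smul]
        | add a b ha hb => simp only [toM, map_add] at ha hb ⊢; rw [ha, hb]
      show AlgebraTensorModule.rTensor R R f (IR.subtype.lTensor M y) = 0
      refine (AlgebraTensorModule.rid R S M').injective ?_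
      rw [key, map_zero, ← hcy]
      show back (IR.subtype.lTensor M' (c • w₀)) = 0
      have hlin : IR.subtype.lTensor M' (c • w₀) = c • IR.subtype.lTensor M' w₀ :=
        (AlgebraTensorModule.lTensor S M' IR.subtype).map_smul c w₀
      rw [hlin, map_smul, hback, ← hwt, Submonoid.smul_def]
      show c • TensorProduct.rid A M' (I.subtype.lTensor M' (e₂.symm ((t : R) • e₂ w))) = 0
      rw [← algebraMap_smul A (t : R) (e₂ w), map_smul, e₂.symm_apply_apply, map_smul, hw, smul_zero,
        map_zero, smul_zero]
    obtain ⟨⟨c₁, hc₁⟩, hk⟩ := (IsLocalizedModule.eq_zero_iff T _).mp hu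
    have hk' : IR.subtype.lTensor M (c₁ • y) = 0 :=
      ((AlgebraTensorModule.lTensor S M IR.subtype).map_smul c₁ y).trans hk
    obtain ⟨c₂, hc₂, hk₂⟩ := (flat_localized_iff_kernels q).mp hflat IR _ hk'
    have h2 : (c₂ * c₁ * c) • w₀ = 0 := by
      rw [mul_smul, hcy, ← map_smul, mul_smul, hk₂, map_zero]
    refine ⟨algebraMap S S' (c₂ * c₁ * c * algebraMap R S t), hout _ ?_, e₂.injective ?_⟩
    · exact q.primeCompl.mul_mem (q.primeCompl.mul_mem (q.primeCompl.mul_mem hc₂ (hTq _ hc₁)) (hTq _ hc))
        (hTq _ ⟨t, t.2, rfl⟩)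
    · rw [algebraMap_smul, he₂, mul_smul, algebraMap_smul, show (t : R) • e₂ w = jI.lTensor M' w₀ from hwt,
        map_zero]
      have hlin : jI.lTensor M' ((c₂ * c₁ * c) • w₀) = (c₂ * c₁ * c) • jI.lTensor M' w₀ :=
        (AlgebraTensorModule.lTensor S M' jI).map_smul _ w₀
      rw [← hlin, h2, map_zero]
  -- the closed fibre
  let m := IsLocalRing.maximalIdeal A
  let κe : p.ResidueField ≃ₗ[R] m.ResidueField := LinearEquiv.ofBijective
    (Ideal.ResidueField.mapₐ p m (Algebra.ofId R A) (Localization.AtPrime.under_maximalIdeal (I := p)).symm).toLinearMap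
    ((RingHom.surjectiveOnStalks_of_isLocalization p.primeCompl A).residueFieldMap_bijective p m _)
  have hfib : ∀ w : M' ⊗[A] m.ResidueField, algebraMap S S' s • w = 0 → ∃ t ∉ q', t • w = 0 := by
    intro w hw
    let e₂ := IsLocalization.moduleTensorEquiv p.primeCompl A M' m.ResidueField
    have he₂ : ∀ (c : S) v, e₂ (c • v) = c • e₂ v := by
      intro c v
      induction v using TensorProduct.induction_on with
      | zero => simp only [smul_zero, map_zero]
      | tmul a b => rfl
      | add a b ha hb => simp only [smul_add, map_add, ha, hb]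
    let e₃ : M' ⊗[R] m.ResidueField ≃ₗ[S] M' ⊗[R] p.ResidueField :=
      AlgebraTensorModule.congr (LinearEquiv.refl S M') κe.symm
    obtain ⟨y, c, hc, hcy⟩ := hdescend _ (e₃ (e₂ w))
    rw [algebraMap_smul] at hw
    have h1 : AlgebraTensorModule.rTensor R p.ResidueField f (s • y) = 0 := by
      rw [map_smul, ← hcy, smul_comm, ← map_smul, ← he₂, hw, map_zero, map_zero, smul_zero]
    obtain ⟨⟨c₁, hc₁⟩, hk⟩ := (IsLocalizedModule.eq_zero_iff T _).mp h1
    change c₁ • s • y = 0 at hk
    rw [smul_comm] at hk
    obtain ⟨c₂, hc₂, hk₂⟩ := hs _ hk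
    refine ⟨algebraMap S S' (c₂ * c₁ * c), hout _ (q.primeCompl.mul_mem (q.primeCompl.mul_mem hc₂ (hTq _ hc₁)) (hTq _ hc)), ?_⟩
    rw [algebraMap_smul]
    apply e₂.injective
    apply e₃.injective
    rw [he₂, map_smul, mul_smul, hcy, ← map_smul, mul_smul, hk₂, map_zero, map_zero, map_zero]
  -- conclusion
  let e := AlgebraTensorModule.cancelBaseChange R A A M' Q
  have he : ∀ (c : S) v, e (c • v) = c • e v := by
    intro c v
    induction v using TensorProduct.induction_on with
    | zero => simp only [smul_zero, map_zero]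
    | tmul a b =>
      induction b using TensorProduct.induction_on with
      | zero => simp only [tmul_zero, smul_zero, map_zero]
      | tmul r x =>
        show (r • (c • a)) ⊗ₜ[R] x = c • ((r • a) ⊗ₜ[R] x)
        rw [smul_tmul', smul_comm]
      | add a b ha hb => simp only [tmul_add, smul_add, map_add, ha, hb]
    | add a b ha hb => simp only [smul_add, map_add, ha, hb]
  obtain ⟨v, hv⟩ := e.surjective (AlgebraTensorModule.rTensor R Q f z)
  obtain ⟨t, ht, htv⟩ := kill_at_of_fibre_nzd q' hq'm hflat' (algebraMap S S' s) hfib (A ⊗[R] Q) v (by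
    rw [algebraMap_smul]
    apply e.injective
    rw [he, hv, ← map_smul, hz, map_zero, map_zero])
  obtain ⟨a, c, rfl⟩ := IsLocalization.exists_mk'_eq T t
  have ha : a ∉ q := fun h => ht (by
    rw [IsLocalization.mk'_eq_mul_mk'_one]
    exact q'.mul_mem_right _ (Ideal.mem_map_of_mem _ h))
  have hav : a • v = 0 := by
    rw [← algebraMap_smul S' a v, ← IsLocalization.mk'_spec' S' a c, mul_smul, htv, smul_zero]
  have h0 : AlgebraTensorModule.rTensor R Q f (a • z) = 0 := by
    rw [map_smul, ← hv, ← he, hav, map_zero]
  obtain ⟨c', hc'⟩ := (IsLocalizedModule.eq_zero_iff T _).mp h0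
  exact ⟨c' * a, q.primeCompl.mul_mem (hTq _ c'.2) ha, by rw [mul_smul]; exact hc'⟩

/-- An element regular at `q` on the fibre of a module flat at `q` is regular at `q` on every `M ⊗ Q`. -/
theorem kill_at_fibre {R S M : Type u} [CommRing R] [CommRing S] [Algebra R S]
    [Algebra.FinitePresentation R S] [AddCommGroup M] [Module S M] [Module R M] [IsScalarTower R S M]
    [Module.FinitePresentation S M] (p : Ideal R) [p.IsPrime] (q : Ideal S) [q.IsPrime]
    (hqp : q.comap (algebraMap R S) = p)
    (hflat : Module.Flat R (LocalizedModule q.primeCompl M)) (s : S)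
    (hs : ∀ z : M ⊗[R] p.ResidueField, s • z = 0 → ∃ t ∉ q, t • z = 0)
    (Q : Type u) [AddCommGroup Q] [Module R Q] (z : M ⊗[R] Q) (hz : s • z = 0) :
    ∃ t ∉ q, t • z = 0 := by
  let A := Localization.AtPrime p
  let T := Algebra.algebraMapSubmonoid S p.primeCompl
  let S' := A ⊗[R] S
  have : IsLocalization T S' := (Algebra.isLocalization_iff_isPushout p.primeCompl A).mpr inferInstance
  let f : M →ₗ[S] S' ⊗[S] M := TensorProduct.mk S S' M 1
  have : IsLocalizedModule T f :=
    (isLocalizedModule_iff_isBaseChange T S' f).mpr (TensorProduct.isBaseChange S M S')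
  exact kill_at_fibre_aux (S' := S') (M' := S' ⊗[S] M) p f q hqp hflat s hs Q z hz

end Groth.Agent.FlatCrit65
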