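import Groth.Agent.FlatCrit65.Assassin.KillAt
import Groth.Agent.FlatCrit65.Point.Global

/-!
# Regularity on a fibre, for finite modules over finite type algebras
-/

universe u

noncomputable section

open TensorProduct

namespace Groth.Agent.FlatCrit65

/-- Tensoring a surjection whose kernel dies at a prime again gives a map whose kernel dies there. -/
theorem exists_smul_rTensor_eq_zero {R A M N : Type u} [CommRing R] [CommRing A] [Algebra R A]
    [AddCommGroup M] [Module A M] [Module R M] [IsScalarTower R A M]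
    [AddCommGroup N] [Module A N] [Module R N] [IsScalarTower R A N]
    (ρ : M →ₗ[A] N) (hρ : Function.Surjective ρ) (q : Ideal A) [q.IsPrime]
    (hker : ∀ m, ρ m = 0 → ∃ s ∉ q, s • m = 0) (Q : Type u) [AddCommGroup Q] [Module R Q]
    (y : M ⊗[R] Q) (hy : AlgebraTensorModule.rTensor R Q ρ y = 0) : ∃ t ∉ q, t • y = 0 := by
  obtain ⟨w, rfl⟩ := (rTensor_exact Q (f := (LinearMap.ker ρ).subtype.restrictScalars R)
    (g := ρ.restrictScalars R) (LinearMap.exact_subtype_ker_map ρ) hρ y).mp hy
  clear hy
  induction w using TensorProduct.induction_on with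
  | zero => exact ⟨1, q.primeCompl.one_mem, by rw [map_zero, smul_zero]⟩
  | tmul k x =>
    obtain ⟨s, hs, hsk⟩ := hker k.1 k.2
    refine ⟨s, hs, ?_⟩
    show (s • (k : M)) ⊗ₜ[R] x = 0
    rw [hsk, zero_tmul]
  | add a b ha hb =>
    obtain ⟨s, hs, hsa⟩ := ha
    obtain ⟨t, ht, htb⟩ := hb
    refine ⟨s * t, q.primeCompl.mul_mem hs ht, ?_⟩
    rw [map_add, smul_add, mul_smul s t ((LinearMap.rTensor Q _) b), htb, smul_zero, add_zero,
      mul_comm s t, mul_smul, hsa, smul_zero]

set_option maxHeartbeats 800000 in -- one long construction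
/-- An element regular at `q` on the fibre of a finite module flat at `q` over a finite type algebra is
regular at `q` on every `N ⊗ Q`. -/
theorem kill_at_finite {R S N : Type u} [CommRing R] [CommRing S] [Algebra R S]
    [Algebra.FiniteType R S] [AddCommGroup N] [Module S N] [Module R N] [IsScalarTower R S N]
    [Module.Finite S N] (p : Ideal R) [p.IsPrime] (q : Ideal S) [q.IsPrime]
    (hqp : q.comap (algebraMap R S) = p)
    (hflat : Module.Flat R (LocalizedModule q.primeCompl N)) (s : S)
    (hs : ∀ z : N ⊗[R] p.ResidueField, s • z = 0 → ∃ t ∉ q, t • z = 0)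
    (Q : Type u) [AddCommGroup Q] [Module R Q] (z : N ⊗[R] Q) (hz : s • z = 0) :
    ∃ t ∉ q, t • z = 0 := by
  classical
  obtain ⟨n, π, hπ⟩ := Algebra.FiniteType.iff_quotient_mvPolynomial''.mp ‹Algebra.FiniteType R S›
  let _ : Algebra (MvPolynomial (Fin n) R) S := π.toRingHom.toAlgebra
  have : IsScalarTower R (MvPolynomial (Fin n) R) S :=
    IsScalarTower.of_algebraMap_eq fun a => (π.commutes a).symm
  have : Module.Finite (MvPolynomial (Fin n) R) S :=
    Module.Finite.of_surjective (Algebra.linearMap (MvPolynomial (Fin n) R) S) hπ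
  let _ : Module (MvPolynomial (Fin n) R) N := Module.compHom N π.toRingHom
  have : IsScalarTower (MvPolynomial (Fin n) R) S N := IsScalarTower.of_algebraMap_smul fun _ _ => rfl
  have : IsScalarTower R (MvPolynomial (Fin n) R) N := IsScalarTower.of_algebraMap_smul fun a m => by
    show π (algebraMap R _ a) • m = a • m
    rw [π.commutes, algebraMap_smul]
  have : Module.Finite (MvPolynomial (Fin n) R) N := Module.Finite.trans S N
  have hπs : ∀ (X : Type u) [AddCommGroup X] [Module R X] (a : MvPolynomial (Fin n) R) (w : N ⊗[R] X),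
      π a • w = a • w := by
    intro X _ _ a w
    induction w using TensorProduct.induction_on with
    | zero => simp only [smul_zero]
    | tmul m x => rfl
    | add a b ha hb => simp only [smul_add, ha, hb]
  let q' : Ideal (MvPolynomial (Fin n) R) := q.comap (algebraMap (MvPolynomial (Fin n) R) S)
  have hq'p : q'.comap (algebraMap R (MvPolynomial (Fin n) R)) = p := by
    rw [Ideal.comap_comap, ← IsScalarTower.algebraMap_eq]
    exact hqp
  have hflat' : Module.Flat R (LocalizedModule q'.primeCompl N) :=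
    (flat_localized_comap_iff (A := MvPolynomial (Fin n) R) (M := N) hπ q).mp hflat
  have : Module.Finite (Localization.AtPrime q') (LocalizedModule q'.primeCompl N) :=
    Module.Finite.of_isLocalizedModule q'.primeCompl (LocalizedModule.mkLinearMap q'.primeCompl N)
  have : Module.FinitePresentation (Localization.AtPrime q') (LocalizedModule q'.primeCompl N) :=
    finitePresentation_of_flat_local (R := R) q'
  obtain ⟨k, σ, hσ⟩ := Module.Finite.exists_fin' (MvPolynomial (Fin n) R) N
  obtain ⟨K₀, hK₀fg, hK₀le, hK₀⟩ := exists_fg_le_ker_at σ hσ q'.primeCompl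
  let M₀ := (Fin k → MvPolynomial (Fin n) R) ⧸ K₀
  have : Module.FinitePresentation (MvPolynomial (Fin n) R) M₀ :=
    Module.finitePresentation_of_surjective K₀.mkQ K₀.mkQ_surjective (by rwa [Submodule.ker_mkQ])
  let ρ : M₀ →ₗ[MvPolynomial (Fin n) R] N := K₀.liftQ σ hK₀le
  have hρ : Function.Surjective ρ := fun v => by
    obtain ⟨x, rfl⟩ := hσ v
    exact ⟨K₀.mkQ x, rfl⟩
  have hker : ∀ m, ρ m = 0 → ∃ t ∉ q', t • m = 0 := by
    intro m hm
    obtain ⟨x, rfl⟩ := K₀.mkQ_surjective m
    obtain ⟨t, ht, htx⟩ := hK₀ x hm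
    exact ⟨t, ht, by rw [← map_smul]; exact (Submodule.Quotient.mk_eq_zero _).mpr htx⟩
  let ρQ := fun (X : Type u) [AddCommGroup X] [Module R X] => AlgebraTensorModule.rTensor R X ρ
  have hρQ : ∀ (X : Type u) [AddCommGroup X] [Module R X], Function.Surjective (ρQ X) := fun X _ _ =>
    LinearMap.rTensor_surjective (g := ρ.restrictScalars R) X hρ
  have hflat₀ : Module.Flat R (LocalizedModule q'.primeCompl M₀) := by
    refine (flat_localized_iff_kernels q').mpr fun I w hw => ?_
    have hnat : ∀ v : M₀ ⊗[R] I, I.subtype.lTensor N (ρQ I v) = ρQ R (I.subtype.lTensor M₀ v) := by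
      intro v
      induction v using TensorProduct.induction_on with
      | zero => simp only [map_zero]
      | tmul a b => rfl
      | add a b ha hb => simp only [map_add, ha, hb]
    obtain ⟨t, ht, htw⟩ := (flat_localized_iff_kernels q').mp hflat' I (ρQ I w) (by rw [hnat, hw, map_zero])
    obtain ⟨t', ht', htw'⟩ := exists_smul_rTensor_eq_zero ρ hρ q' hker I (t • w) (by rw [map_smul]; exact htw)
    exact ⟨t' * t, q'.primeCompl.mul_mem ht' ht, by rw [mul_smul, htw']⟩
  obtain ⟨s', rfl⟩ := hπ s
  obtain ⟨z₀, rfl⟩ := hρQ Q z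
  rw [hπs, ← map_smul] at hz
  obtain ⟨t, ht, htz⟩ := exists_smul_rTensor_eq_zero ρ hρ q' hker Q (s' • z₀) hz
  rw [smul_comm] at htz
  obtain ⟨t', ht', htz'⟩ := kill_at_fibre p q' hq'p hflat₀ s' (fun w hw => by
      obtain ⟨v, hv, hvw⟩ := hs (ρQ _ w) (by rw [hπs, ← map_smul, hw, map_zero])
      obtain ⟨v', rfl⟩ := hπ v
      rw [hπs, ← map_smul] at hvw
      obtain ⟨v'', hv'', hk⟩ := exists_smul_rTensor_eq_zero ρ hρ q' hker _ _ hvw
      exact ⟨v'' * v', q'.primeCompl.mul_mem hv'' hv, by rw [mul_smul, hk]⟩) Q (t • z₀) htz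
  refine ⟨π (t' * t), q'.primeCompl.mul_mem ht' ht, ?_⟩
  show π (t' * t) • ρQ Q z₀ = 0
  rw [hπs, ← map_smul, mul_smul, htz', map_zero]

end Groth.Agent.FlatCrit65
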