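import Groth.Agent.FlatCrit65.Assassin.Beta
import Groth.Agent.CAlg5.WeakAss
import Mathlib.RingTheory.Ideal.AssociatedPrime.Finiteness
import Mathlib.RingTheory.Ideal.GoingDown

/-!
# Universal injectivity over local algebras essentially of finite presentation
-/

universe u

noncomputable section

open TensorProduct IsLocalRing

attribute [local instance] Algebra.TensorProduct.rightAlgebra

namespace Groth.Agent.FlatCrit65

variable {R S : Type u} [CommRing R] [CommRing S] [Algebra R S]
  {N : Type u} [AddCommGroup N] [Module S N] [Module R N] [IsScalarTower R S N]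

/-- A prime of elements which are not regular on a fibre lies in an associated prime of the fibre. -/
theorem exists_assoc_ge [Algebra.EssFiniteType R S] [Module.Finite S N] (p : Ideal R) [p.IsPrime]
    (q : Ideal S) [q.IsPrime]
    (h : ∀ s ∈ q, ∃ z : FlatCA.fiberMod p S N, z ≠ 0 ∧ s • z = 0) :
    ∃ q' ∈ associatedPrimes S (FlatCA.fiberMod p S N), q ≤ q' := by
  classical
  let F := p.Fiber S
  have : IsNoetherianRing F := Algebra.EssFiniteType.isNoetherianRing p.ResidueField F
  have : Module.Finite F (FlatCA.fiberMod p S N) := inferInstanceAs (Module.Finite F (F ⊗[S] N))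
  have hfin := associatedPrimes.finite F (FlatCA.fiberMod p S N)
  let G := hfin.toFinset.image (Ideal.comap (algebraMap S F))
  have hG : ∀ q' ∈ G, q' ∈ associatedPrimes S (FlatCA.fiberMod p S N) := by
    intro q' hq'
    obtain ⟨P, hP, rfl⟩ := Finset.mem_image.mp hq'
    obtain ⟨hPp, x, hx⟩ := (Set.Finite.mem_toFinset hfin).mp hP
    refine ⟨Ideal.comap_isPrime _ _, x, ?_⟩
    rw [hx, Ideal.comap_radical]
    congr 1
  have hsub : (q : Set S) ⊆ ⋃ i ∈ (↑G : Set (Ideal S)), (i : Set S) := by
    intro s hs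
    obtain ⟨z, hz, hsz⟩ := h s hs
    have hzd : algebraMap S F s ∈ {r : F | ∃ x : FlatCA.fiberMod p S N, x ≠ 0 ∧ r • x = 0} :=
      ⟨z, hz, (one_tmul_smul_fiberMod (R := R) (p := p) (N := N) s z).trans hsz⟩
    rw [← biUnion_associatedPrimes_eq_zero_divisors] at hzd
    obtain ⟨P, hP, hsP⟩ := Set.mem_iUnion₂.mp hzd
    exact Set.mem_biUnion (Finset.mem_coe.mpr (Finset.mem_image.mpr ⟨P, (Set.Finite.mem_toFinset hfin).mpr hP, rfl⟩)) hsP
  obtain ⟨q', hq', hle⟩ := (Ideal.subset_union_prime q q fun i hi _ _ => (hG i hi).isPrime).mp hsub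
  exact ⟨q', hG q' hq', hle⟩

theorem essFiniteType_of_essFP {R S : Type u} [CommRing R] [CommRing S] [Algebra R S]
    (hS : FlatCA.EssFinitePresentation R S) : Algebra.EssFiniteType R S := by
  obtain ⟨S₀, _, _, _, _, T, _, _⟩ := hS
  have := Algebra.EssFiniteType.of_isLocalization (S := S) T
  exact Algebra.EssFiniteType.comp R S₀ S

/-- An element whose annihilator lies below a prime of a flat algebra survives in the base change. -/
theorem one_tmul_ne_zero {S' V : Type u} [CommRing S'] [Algebra S S'] [Module.Flat S S'] [AddCommGroup V]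
    [Module S V] (q' : Ideal S') [q'.IsPrime] (z : V)
    (hann : ∀ s : S, s • z = 0 → algebraMap S S' s ∈ q') : (1 : S') ⊗ₜ[S] z ≠ 0 := by
  intro h1
  let g : S →ₗ[S] V := LinearMap.toSpanSingleton S _ z
  let gbar : S ⧸ LinearMap.ker g →ₗ[S] V := (LinearMap.ker g).liftQ g le_rfl
  have hg : Function.Injective gbar := LinearMap.ker_eq_bot.mp (Submodule.ker_liftQ_eq_bot _ _ _ le_rfl)
  have h2 : (1 : S') ⊗ₜ[S] (Submodule.mkQ (LinearMap.ker g) 1) = 0 := by
    apply Module.Flat.lTensor_preserves_injective_linearMap (M := S') gbar hg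
    rw [map_zero, LinearMap.lTensor_tmul, ← h1]
    congr 1
    show (1 : S) • z = z
    rw [one_smul]
  let χ : S ⧸ LinearMap.ker g →ₗ[S] S' ⧸ q' :=
    (LinearMap.ker g).liftQ (Algebra.linearMap S (S' ⧸ q')) fun s hs => by
      show algebraMap S (S' ⧸ q') s = 0
      rw [IsScalarTower.algebraMap_apply S S' (S' ⧸ q')]
      exact Ideal.Quotient.eq_zero_iff_mem.mpr (hann s hs)
  let μ : S' ⊗[S] (S ⧸ LinearMap.ker g) →ₗ[S] S' ⧸ q' :=
    (LinearMap.mul' S (S' ⧸ q')).comp (TensorProduct.map (IsScalarTower.toAlgHom S S' (S' ⧸ q')).toLinearMap χ)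
  have h3 := congrArg μ h2
  rw [map_zero] at h3
  have h4 : μ ((1 : S') ⊗ₜ[S] (Submodule.mkQ (LinearMap.ker g) 1)) = 1 := by
    show Ideal.Quotient.mk q' 1 * algebraMap S (S' ⧸ q') 1 = 1
    rw [map_one, map_one, one_mul]
  rw [h4] at h3
  exact ‹q'.IsPrime›.ne_top ((Ideal.eq_top_iff_one _).mpr (Ideal.Quotient.eq_zero_iff_mem.mp h3))

variable [IsLocalRing R] [IsLocalRing S] [IsLocalHom (algebraMap R S)]

/-- A flat base change meeting all associated points of the closed fibre is universally injective. -/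
theorem mk_univInj_of_covered (hS : FlatCA.EssFinitePresentation R S) [Module.FinitePresentation S N]
    [Module.Flat R N] {S' : Type u} [CommRing S'] [Algebra R S'] [Algebra S S'] [IsScalarTower R S S']
    [Module.Flat S S']
    (h : ∀ q ∈ associatedPrimes S (FlatCA.fiberMod (maximalIdeal R) S N),
      ∃ q' : Ideal S', q'.IsPrime ∧ q'.comap (algebraMap S S') = q) :
    FlatCA.UnivInj R ((TensorProduct.mk S S' N 1).restrictScalars R) := by
  intro Q _ _
  rw [LinearMap.lTensor_inj_iff_rTensor_inj, injective_iff_map_eq_zero]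
  intro z hz
  let e := AlgebraTensorModule.assoc R S S S' N Q
  have key : ∀ w, e (((TensorProduct.mk S S' N 1).restrictScalars R).rTensor Q w) = (1 : S') ⊗ₜ[S] w := by
    intro w
    induction w using TensorProduct.induction_on with
    | zero => simp only [map_zero, TensorProduct.tmul_zero]
    | tmul m x => rfl
    | add a b ha hb => simp only [map_add, ha, hb, TensorProduct.tmul_add]
  have h1 : (1 : S') ⊗ₜ[S] z = 0 := by rw [← key, hz, map_zero]
  by_contra hne
  obtain ⟨q, hq, hann⟩ := Groth.Agent.CAlg5.exists_mem_weakAss (R := S) hne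
  have := Groth.Agent.CAlg5.weakAss_isPrime hq
  obtain ⟨v, hv, hv'⟩ := Groth.Agent.CAlg5.mem_weakAss_iff.mp hq
  have := essFiniteType_of_essFP hS
  obtain ⟨q₁, hq₁, hle⟩ := exists_assoc_ge (S := S) (N := N) (maximalIdeal R) q (fun s hs => by
    by_contra hc
    push Not at hc
    have hreg : s ∈ FlatCA.nzdFiber R S N :=
      mem_nonZeroSMulDivisors_iff.mpr fun x hx => by_contra fun hx0 => hc x hx0 hx
    obtain ⟨t, ht, n, hn⟩ := hv' s hs
    refine ht (hv t ?_)
    refine eq_zero_of_fibre_nzd hS (s ^ n) (pow_mem hreg n) Q (t • v) ?_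
    rw [← mul_smul, mul_comm]; exact hn)
  obtain ⟨q₁', hq₁', hc⟩ := h q₁ hq₁
  have := hq₁.isPrime
  have : q₁'.LiesOver q₁ := ⟨hc.symm⟩
  obtain ⟨q', -, hq', hqq'⟩ := Ideal.exists_ideal_le_liesOver_of_le q₁' hle
  exact one_tmul_ne_zero q' z (fun s hs => hqq'.over.le (hann s hs)) h1

end Groth.Agent.FlatCrit65
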