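import Groth.Agent.FlatCrit65.Assassin.FibrewiseInj

/-!
# Coefficients over a base with nil maximal ideal
-/

universe u

noncomputable section

open TensorProduct

namespace Groth.Agent.FlatCrit65

variable {R S M : Type u} [CommRing R] [CommRing S] [Algebra R S] [Algebra.FinitePresentation R S]
  [AddCommGroup M] [Module S M] [Module R M] [IsScalarTower R S M] [Module.FinitePresentation S M]

set_option maxHeartbeats 800000 in -- one long construction
/-- An element which is nonzero at a prime has a coefficient over a nil local algebra. -/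
theorem exists_coeff (q : Ideal S) [q.IsPrime] [Module.Flat R (LocalizedModule q.primeCompl M)]
    (P : Ideal R) [P.IsPrime]
    (A' : Type u) [CommRing A'] [IsLocalRing A'] [Algebra R A']
    (hnil : ∀ a ∈ IsLocalRing.maximalIdeal A', IsNilpotent a)
    [Algebra P.ResidueField (IsLocalRing.ResidueField A')]
    [IsScalarTower R P.ResidueField (IsLocalRing.ResidueField A')]
    (m : M) (hm : ∀ t ∉ q, (1 : A') ⊗ₜ[R] (t • m) ≠ 0) :
    ∃ r : A', r ≠ 0 ∧ ∀ J : Ideal A',
      (∃ t ∉ q, (1 : A') ⊗ₜ[R] (t • m) ∈ J • (⊤ : Submodule A' (A' ⊗[R] M))) → r ∈ J := by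
  classical
  obtain ⟨t₁, ht₁, hflat⟩ := exists_flat_powers (A := R) (M := M) q.primeCompl
  obtain ⟨t₂, ht₂, hkill⟩ := exists_fibre_killer (A := R) (M := M) q.primeCompl P
  let g : S := t₁ * t₂
  have hg : ∀ j : ℕ, g ^ j ∉ q := fun j => q.primeCompl.pow_mem (q.primeCompl.mul_mem ht₁ ht₂) j
  let Mg := LocalizedModule (Submonoid.powers g) M
  let ι := LocalizedModule.mkLinearMap (Submonoid.powers g) M
  have : Module.Flat R Mg := hflat g (dvd_mul_right t₁ t₂)
  let Sg := Localization (Submonoid.powers g)
  have : Algebra.FinitePresentation S Sg := IsLocalization.Away.finitePresentation g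
  have : Algebra.FinitePresentation R Sg := Algebra.FinitePresentation.trans R S Sg
  have : Module.FinitePresentation Sg Mg := .of_equiv
    (((IsLocalizedModule.isBaseChange (Submonoid.powers g) Sg ι).equiv))
  let S' := A' ⊗[R] Sg
  let _ : Algebra Sg S' := Algebra.TensorProduct.rightAlgebra
  let e : S' ⊗[Sg] Mg ≃ₗ[A'] A' ⊗[R] Mg := Algebra.IsPushout.cancelBaseChange R A' Sg S' Mg
  have : Module.FinitePresentation S' (S' ⊗[Sg] Mg) := inferInstance
  have : IsScalarTower A' S' (S' ⊗[Sg] Mg) := TensorProduct.isScalarTower_left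
  have : Module.Flat A' (S' ⊗[Sg] Mg) := Module.Flat.of_linearEquiv e
  have := free_of_flat_nil hnil (S := S') (M := S' ⊗[Sg] Mg)
  have : Module.Free A' (A' ⊗[R] Mg) := Module.Free.of_equiv e
  let x : A' ⊗[R] Mg := (1 : A') ⊗ₜ[R] ι m
  have hx : x ≠ 0 := by
    intro h0
    let ι' := AlgebraTensorModule.rTensor R A' ι
    have h1 : ι' (m ⊗ₜ[R] (1 : A')) = 0 := by
      have := congrArg (TensorProduct.comm R A' Mg) h0
      rwa [map_zero, TensorProduct.comm_tmul] at this
    obtain ⟨⟨_, j, rfl⟩, hj⟩ := (IsLocalizedModule.eq_zero_iff (Submonoid.powers g) ι').mp h1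
    refine hm _ (hg j) ?_
    have := congrArg (TensorProduct.comm R M A') hj
    rwa [map_zero, Submonoid.smul_def, smul_tmul', TensorProduct.comm_tmul] at this
  let bas := Module.Free.chooseBasis A' (A' ⊗[R] Mg)
  obtain ⟨i, hi⟩ : ∃ i, bas.repr x i ≠ 0 := by
    by_contra hc
    push Not at hc
    exact hx (bas.repr.injective (by rw [map_zero]; exact Finsupp.ext hc))
  refine ⟨bas.repr x i, hi, ?_⟩
  rintro J ⟨t, ht, htm⟩
  let θ : Mg →ₗ[R] Mg := (LinearMap.lsmul S Mg t).restrictScalars R
  have hθfib : Function.Injective (θ.lTensor P.ResidueField) := by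
    rw [LinearMap.lTensor_inj_iff_rTensor_inj, injective_iff_map_eq_zero]
    intro z hz
    let ι' := AlgebraTensorModule.rTensor R P.ResidueField ι
    obtain ⟨⟨y, s⟩, hys⟩ := IsLocalizedModule.surj (Submonoid.powers g) ι' z
    have hθ : ∀ w, θ.rTensor P.ResidueField w = t • w := by
      intro w
      induction w using TensorProduct.induction_on with
      | zero => simp only [map_zero, smul_zero]
      | tmul a b => rfl
      | add a b ha hb => simp only [map_add, smul_add, ha, hb]
    rw [hθ] at hz
    have h1 : ι' (t • y) = 0 := by rw [map_smul, ← hys, Submonoid.smul_def, smul_comm, hz, smul_zero]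
    obtain ⟨⟨_, j, rfl⟩, hj⟩ := (IsLocalizedModule.eq_zero_iff (Submonoid.powers g) ι').mp h1
    have h0 := hkill y ⟨g ^ j * t, q.primeCompl.mul_mem (hg j) ht, by rw [mul_smul]; exact hj⟩
    have hy : ι' y = 0 := (IsLocalizedModule.eq_zero_iff (Submonoid.powers g) ι').mpr
      ⟨⟨g, Submonoid.mem_powers g⟩, by
        show (t₁ * t₂) • y = 0
        rw [mul_smul, h0, smul_zero]⟩
    rw [hy] at hys
    exact IsLocalizedModule.smul_injective ι' s (hys.trans (smul_zero s).symm)
  have hθk : Function.Injective (θ.lTensor (IsLocalRing.ResidueField A')) :=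
    lTensor_injective_of_flat_over P.ResidueField (IsLocalRing.ResidueField A') θ hθfib
  have hmod : Function.Injective ((θ.baseChange A').lTensor (IsLocalRing.ResidueField A')) := by
    let e₁ := AlgebraTensorModule.cancelBaseChange R A' A' (IsLocalRing.ResidueField A') Mg
    have key : ∀ w, e₁ ((θ.baseChange A').lTensor (IsLocalRing.ResidueField A') w) =
        θ.lTensor (IsLocalRing.ResidueField A') (e₁ w) := by
      intro w
      induction w using TensorProduct.induction_on with
      | zero => simp only [map_zero]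
      | add a b ha hb => simp only [map_add, ha, hb]
      | tmul r x =>
        induction x using TensorProduct.induction_on with
        | zero => simp only [TensorProduct.tmul_zero, map_zero]
        | add a b ha hb => simp only [TensorProduct.tmul_add, map_add, ha, hb]
        | tmul a y => simp [e₁]
    intro a b hab
    apply e₁.injective
    apply hθk
    rw [← key, ← key, hab]
  have hinj := lTensor_injective_of_projective (θ.baseChange A') hmod (A' ⧸ J)
  have hxJ : x ∈ J • (⊤ : Submodule A' (A' ⊗[R] Mg)) := by
    rw [← one_tmul_eq_zero_iff]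
    apply hinj
    rw [map_zero, LinearMap.lTensor_tmul, one_tmul_eq_zero_iff]
    have hmap := Submodule.mem_map_of_mem (f := (ι.restrictScalars R).baseChange A') htm
    rw [Submodule.map_smul''] at hmap
    have := (Submodule.smul_mono le_rfl le_top : _ ≤ J • (⊤ : Submodule A' (A' ⊗[R] Mg))) hmap
    rw [LinearMap.baseChange_tmul, LinearMap.restrictScalars_apply, map_smul] at this
    exact this
  refine Submodule.smul_induction_on hxJ (fun a ha w _ => ?_) (fun a b ha hb => ?_)
  · rw [map_smul, Finsupp.smul_apply, smul_eq_mul]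
    exact J.mul_mem_right _ ha
  · rw [map_add, Finsupp.add_apply]
    exact J.add_mem ha hb

end Groth.Agent.FlatCrit65
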