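import Groth.Agent.FlatCrit65.Assassin.FibrewiseInj
import Groth.Agent.FlatCrit65.Injective
import Groth.Agent.EtAlg23.GlueFlat

/-!
# Elements acting injectively on the closed fibre act universally injectively
-/

universe u

noncomputable section

open TensorProduct MvPolynomial

namespace Groth.Agent.FlatCrit65.Monom

variable {A R : Type u} [CommRing A] [CommRing R] [Algebra A R] {n k : ℕ}

/-- Tensoring the base change of a polynomial module is tensoring the module. -/
theorem exists_bc_tensor (L₁ : Submodule (MvPolynomial (Fin n) A) (Fin k → MvPolynomial (Fin n) A))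
    (Q : Type u) [AddCommGroup Q] [Module R Q] [Module A Q] [IsScalarTower A R Q] :
    ∃ E : ((Fin k → MvPolynomial (Fin n) A) ⧸ L₁) ⊗[A] Q →+
        ((Fin k → MvPolynomial (Fin n) R) ⧸ bcSub R L₁) ⊗[R] Q,
      Function.Bijective E ∧ ∀ (s : MvPolynomial (Fin n) A) z, E (s • z) = MvPolynomial.map (algebraMap A R) s • E z := by
  classical
  set L := bcSub R L₁ with hL
  let J₀ : (Fin k → MvPolynomial (Fin n) A) →ₗ[A] (Fin k → MvPolynomial (Fin n) R) ⧸ L :=
    { toFun := fun y => L.mkQ (bc R y)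
      map_add' := fun a b => by rw [bc_add, map_add]
      map_smul' := fun r a => by
        rw [bc_smul, LinearMap.map_smul_of_tower, RingHom.id_apply, algebraMap_smul] }
  let J : ((Fin k → MvPolynomial (Fin n) A) ⧸ L₁) →ₗ[A] (Fin k → MvPolynomial (Fin n) R) ⧸ L :=
    (L₁.restrictScalars A).liftQ J₀ (fun y hy =>
      (Submodule.Quotient.mk_eq_zero L).mpr (Submodule.subset_span ⟨y, hy, rfl⟩)) ∘ₗ
    (Submodule.Quotient.restrictScalarsEquiv A L₁).symm.toLinearMap
  have hJ : ∀ y, J (L₁.mkQ y) = L.mkQ (bc R y) := fun y => rfl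
  let E : ((Fin k → MvPolynomial (Fin n) A) ⧸ L₁) ⊗[A] Q →+
      ((Fin k → MvPolynomial (Fin n) R) ⧸ L) ⊗[R] Q :=
    TensorProduct.liftAddHom
      { toFun := fun m =>
          { toFun := fun c => J m ⊗ₜ[R] c
            map_zero' := tmul_zero _ _
            map_add' := fun c d => tmul_add _ c d }
        map_zero' := by ext; simp
        map_add' := fun a b => by ext; simp [add_tmul] }
      (fun r m c => by
        show J (r • m) ⊗ₜ[R] c = J m ⊗ₜ[R] (r • c)
        rw [map_smul, ← algebraMap_smul R r (J m), smul_tmul, algebraMap_smul])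
  let Ψ₀ : (Fin k → MvPolynomial (Fin n) R) →ₗ[R] R ⊗[A] ((Fin k → MvPolynomial (Fin n) A) ⧸ L₁) :=
    constrE fun x => (1 : R) ⊗ₜ[A] L₁.mkQ (e A x)
  have hΨbc : ∀ v, Ψ₀ (bc R v) = (1 : R) ⊗ₜ[A] L₁.mkQ v :=
    constrE_bc _ (L₁.mkQ.restrictScalars A)
      (TensorProduct.mk A R ((Fin k → MvPolynomial (Fin n) A) ⧸ L₁) 1).toAddMonoidHom
      (fun c v => by
        show (1 : R) ⊗ₜ[A] (c • v) = algebraMap A R c • ((1 : R) ⊗ₜ[A] v)
        rw [tmul_smul, algebraMap_smul]) (fun _ => rfl)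
  have hΨ : L.restrictScalars R ≤ LinearMap.ker Ψ₀ := fun y hy => by
    refine (Submodule.span_le.mpr ?_) (mem_span_of_mem_bcSub (A := R) (L₀ := L₁) hy)
    rintro _ ⟨v, hv, rfl⟩
    rw [SetLike.mem_coe, LinearMap.mem_ker, hΨbc, Submodule.mkQ_apply, (Submodule.Quotient.mk_eq_zero L₁).mpr hv,
      tmul_zero]
  let Ψ : ((Fin k → MvPolynomial (Fin n) R) ⧸ L) →ₗ[R] R ⊗[A] ((Fin k → MvPolynomial (Fin n) A) ⧸ L₁) :=
    (L.restrictScalars R).liftQ Ψ₀ hΨ ∘ₗ (Submodule.Quotient.restrictScalarsEquiv R L).symm.toLinearMap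
  let G : ((Fin k → MvPolynomial (Fin n) R) ⧸ L) ⊗[R] Q →ₗ[R] Q ⊗[A] ((Fin k → MvPolynomial (Fin n) A) ⧸ L₁) :=
    (AlgebraTensorModule.cancelBaseChange A R R Q _).toLinearMap ∘ₗ
      (TensorProduct.comm R _ Q).toLinearMap ∘ₗ Ψ.rTensor Q
  have hGE : ∀ z, G (E z) = TensorProduct.comm A _ Q z := by
    intro z
    induction z using TensorProduct.induction_on with
    | zero => simp only [map_zero]
    | add a b ha hb => simp only [map_add, ha, hb]
    | tmul m c =>
      obtain ⟨v, rfl⟩ := L₁.mkQ_surjective m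
      show AlgebraTensorModule.cancelBaseChange A R R Q _ (c ⊗ₜ[R] Ψ₀ (bc R v)) = _
      rw [hΨbc, AlgebraTensorModule.cancelBaseChange_tmul, one_smul, TensorProduct.comm_tmul]
  refine ⟨E, ⟨fun a b hab => (TensorProduct.comm A _ Q).injective (by rw [← hGE, ← hGE, hab]), fun z => ?_⟩, ?_⟩
  · induction z using TensorProduct.induction_on with
    | zero => exact ⟨0, map_zero _⟩
    | add a b ha hb =>
      obtain ⟨a', rfl⟩ := ha
      obtain ⟨b', rfl⟩ := hb
      exact ⟨a' + b', map_add _ _ _⟩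
    | tmul m c =>
      obtain ⟨y, rfl⟩ := L.mkQ_surjective m
      refine ⟨∑ x ∈ monoms y, L₁.mkQ (e A x) ⊗ₜ[A] (coord y x • c), ?_⟩
      conv_rhs => rw [← sum_coord y _ subset_rfl, map_sum, TensorProduct.sum_tmul]
      rw [map_sum]
      refine Finset.sum_congr rfl fun x _ => ?_
      show J (L₁.mkQ (e A x)) ⊗ₜ[R] (coord y x • c) = _
      rw [hJ, bc_e, LinearMap.map_smul_of_tower, smul_tmul]
  · intro s z
    induction z using TensorProduct.induction_on with
    | zero => simp only [smul_zero, map_zero]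
    | add a b ha hb => simp only [smul_add, map_add, ha, hb]
    | tmul m c =>
      obtain ⟨v, rfl⟩ := L₁.mkQ_surjective m
      rw [smul_tmul', ← map_smul]
      show J (L₁.mkQ (s • v)) ⊗ₜ[R] c = _ • (J (L₁.mkQ v) ⊗ₜ[R] c)
      rw [hJ, hJ, bc_psmul, map_smul, smul_tmul']

set_option maxHeartbeats 800000 in -- one long construction
theorem exists_local_model {R₀ A : Type u} [CommRing R₀] [CommRing A] [IsNoetherianRing A]
    [Algebra R₀ A] [Algebra A R] [Algebra R₀ R] [IsScalarTower R₀ A R] [IsLocalRing R]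
    {L₀ : Submodule (MvPolynomial (Fin n) R₀) (Fin k → MvPolynomial (Fin n) R₀)}
    (q : Ideal (MvPolynomial (Fin n) R)) [q.IsPrime]
    (D : StdData L₀ ((q.comap (algebraMap R (MvPolynomial (Fin n) R))).comap (algebraMap R₀ R)))
    (sA : MvPolynomial (Fin n) A)
    (hsvA : ∀ v ∈ L₀, (∀ a, coord v a ∈ (q.comap (algebraMap R (MvPolynomial (Fin n) R))).comap (algebraMap R₀ R)) →
        sA • bc A v ∈ ((q.comap (algebraMap R (MvPolynomial (Fin n) R))).comap (algebraMap R₀ R)).map (algebraMap R₀ A) •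
          (bcSub A L₀).restrictScalars A)
    (hs : MvPolynomial.map (algebraMap A R) sA ∉ q) :
    ∃ (A₁ : Type u) (_ : CommRing A₁) (_ : IsLocalRing A₁) (_ : IsNoetherianRing A₁) (_ : Algebra A₁ R)
      (_ : Algebra A A₁) (L₁ : Submodule (MvPolynomial (Fin n) A₁) (Fin k → MvPolynomial (Fin n) A₁)),
      IsLocalHom (algebraMap A₁ R) ∧ bcSub R L₀ = bcSub R L₁ ∧
      (∀ t : MvPolynomial (Fin n) R, (∀ a ∈ t.coeffs, ∃ b, algebraMap A R b = a) →
        ∃ t₁, MvPolynomial.map (algebraMap A₁ R) t₁ = t) ∧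
      Module.Flat A₁ (LocalizedModule (q.comap (MvPolynomial.map (algebraMap A₁ R))).primeCompl
        ((Fin k → MvPolynomial (Fin n) A₁) ⧸ L₁)) := by
  classical
  let ι := MvPolynomial.map (σ := Fin n) (algebraMap A R)
  have hqA : Module.Flat A (LocalizedModule (q.comap ι).primeCompl
      ((Fin k → MvPolynomial (Fin n) A) ⧸ bcSub A L₀)) := by
    refine flat_of_stage D sA hsvA (q.comap ι) ?_ ?_ hs
    · rw [Ideal.map_map, Ideal.map_le_iff_le_comap]
      intro a ha
      show ι (algebraMap A _ (algebraMap R₀ A a)) ∈ q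
      simpa [ι, MvPolynomial.map_C, ← IsScalarTower.algebraMap_apply] using ha
    · intro h
      refine D.notMem ?_
      have h' : ι (algebraMap A _ (algebraMap R₀ A D.f)) ∈ q := h
      simpa [ι, MvPolynomial.map_C, ← IsScalarTower.algebraMap_apply] using h'
  let pA := (IsLocalRing.maximalIdeal R).comap (algebraMap A R)
  let A₁ := Localization.AtPrime pA
  have hunit : ∀ y : pA.primeCompl, IsUnit (algebraMap A R y) := fun y =>
    not_not.mp fun h => y.2 ((IsLocalRing.mem_maximalIdeal _).mpr h)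
  let _ : Algebra A₁ R := (IsLocalization.lift hunit).toAlgebra
  have : IsScalarTower A A₁ R := IsScalarTower.of_algebraMap_eq fun x => (IsLocalization.lift_eq hunit x).symm
  have : IsScalarTower R₀ A₁ R := IsScalarTower.of_algebraMap_eq fun x => by
    rw [IsScalarTower.algebraMap_apply R₀ A A₁, ← IsScalarTower.algebraMap_apply A A₁ R,
      ← IsScalarTower.algebraMap_apply]
  let ι₁ := MvPolynomial.map (σ := Fin n) (algebraMap A₁ R)
  have hloc : IsLocalHom (algebraMap A₁ R) := ⟨fun v hv => by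
    obtain ⟨b, t, rfl⟩ := IsLocalization.exists_mk'_eq pA.primeCompl v
    refine (IsLocalization.AtPrime.isUnit_mk'_iff A₁ pA b t).mpr fun hb => ?_
    have h2 : algebraMap A₁ R (algebraMap A A₁ b) = algebraMap A R b := (IsScalarTower.algebraMap_apply A A₁ R b).symm
    rw [← IsLocalization.mk'_spec A₁ b t, map_mul] at h2
    exact (IsLocalRing.mem_maximalIdeal _).mp hb (h2 ▸ hv.mul ((IsLocalization.map_units A₁ t).map _))⟩
  refine ⟨A₁, inferInstance, inferInstance, IsLocalization.isNoetherianRing pA.primeCompl A₁ inferInstance,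
    inferInstance, inferInstance, bcSub A₁ L₀, hloc, (bcSub_bcSub (R₀ := R₀) (A := A₁) L₀).symm, fun t ht => ?_, ?_⟩
  · refine (MvPolynomial.mem_range_map_iff_coeffs_subset (f := algebraMap A₁ R) (x := t)).mpr fun a ha => ?_
    obtain ⟨b, rfl⟩ := ht a ha
    exact ⟨algebraMap A A₁ b, (IsScalarTower.algebraMap_apply A A₁ R b).symm⟩
  · have hcomp : (q.comap ι₁).comap (MvPolynomial.map (algebraMap A A₁)) = q.comap ι := by
      rw [Ideal.comap_comap]
      congr 1
      refine RingHom.ext fun x => ?_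
      show MvPolynomial.map _ (MvPolynomial.map _ x) = _
      rw [MvPolynomial.map_map, ← IsScalarTower.algebraMap_eq A A₁ R]
    have hqA' : ∀ (q' : Ideal (MvPolynomial (Fin n) A)) (_ : q'.IsPrime), q' = q.comap ι →
        Module.Flat A (LocalizedModule q'.primeCompl ((Fin k → MvPolynomial (Fin n) A) ⧸ bcSub A L₀)) := by
      rintro q' _ rfl
      exact hqA
    have := flat_bc (R := A₁) (bcSub A L₀) (q.comap ι₁) (hqA' _ inferInstance hcomp)
    rwa [bcSub_bcSub] at this


/-- A flat point descends to a Noetherian local ring, together with given polynomials. -/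
theorem exists_descended_flat [IsLocalRing R] (T : Finset (Fin k → MvPolynomial (Fin n) R))
    (ps : Finset (MvPolynomial (Fin n) R)) (q : Ideal (MvPolynomial (Fin n) R)) [q.IsPrime]
    (hflat : Module.Flat R (LocalizedModule q.primeCompl
      ((Fin k → MvPolynomial (Fin n) R) ⧸ Submodule.span (MvPolynomial (Fin n) R) (T : Set (Fin k → MvPolynomial (Fin n) R))))) :
    ∃ (A₁ : Type u) (_ : CommRing A₁) (_ : IsLocalRing A₁) (_ : IsNoetherianRing A₁) (_ : Algebra A₁ R)
      (L₁ : Submodule (MvPolynomial (Fin n) A₁) (Fin k → MvPolynomial (Fin n) A₁)),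
      IsLocalHom (algebraMap A₁ R) ∧ Submodule.span (MvPolynomial (Fin n) R) (T : Set (Fin k → MvPolynomial (Fin n) R)) = bcSub R L₁ ∧
      (∀ t ∈ ps, ∃ t₁, MvPolynomial.map (algebraMap A₁ R) t₁ = t) ∧
      Module.Flat A₁ (LocalizedModule (q.comap (MvPolynomial.map (algebraMap A₁ R))).primeCompl
        ((Fin k → MvPolynomial (Fin n) A₁) ⧸ L₁)) := by
  classical
  let c : Finset R := (T.biUnion fun v => Finset.univ.biUnion fun i : Fin k => (v i).coeffs) ∪ ps.biUnion fun t => t.coeffs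
  let R₀ := Algebra.adjoin ℤ (c : Set R)
  have : Algebra.FiniteType ℤ R₀ := (Subalgebra.fg_iff_finiteType _).mp (Subalgebra.fg_adjoin_finset _)
  have : IsNoetherianRing R₀ := Algebra.FiniteType.isNoetherianRing ℤ R₀
  have hT : ∀ v : T, ∃ v₀ : Fin k → MvPolynomial (Fin n) R₀, bc R v₀ = v.1 := by
    rintro ⟨v, hv⟩
    choose w hw using fun i => MvPolynomial.mem_range_map_iff_coeffs_subset (f := algebraMap R₀ R)
      (x := v i) |>.mpr fun a ha => ⟨⟨a, Algebra.subset_adjoin (Finset.mem_coe.mpr (Finset.mem_union_left _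
        (Finset.mem_biUnion.mpr ⟨v, hv, Finset.mem_biUnion.mpr ⟨i, Finset.mem_univ _, ha⟩⟩)))⟩, rfl⟩
    exact ⟨w, funext hw⟩
  choose v₀ hv₀ using hT
  let L₀ := Submodule.span (MvPolynomial (Fin n) R₀) (Set.range v₀)
  have hL : Submodule.span (MvPolynomial (Fin n) R) (T : Set (Fin k → MvPolynomial (Fin n) R)) = bcSub R L₀ := by
    rw [bcSub_span, ← Set.range_comp]
    congr 1
    ext x
    exact ⟨fun hx => ⟨⟨x, hx⟩, hv₀ _⟩, fun ⟨⟨y, hy⟩, hyx⟩ => by rw [← hyx, Function.comp_apply, hv₀]; exact hy⟩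
  rw [hL] at hflat ⊢
  let p := (q.comap (algebraMap R (MvPolynomial (Fin n) R))).comap (algebraMap R₀ R)
  obtain ⟨D⟩ := exists_stdData L₀ p
  obtain ⟨s, hs, hsv⟩ := exists_smul_cap (R₀ := R₀) (L₀ := L₀) (p := p) q hflat
  obtain ⟨A, _, sA, hsA, hsvA⟩ := exists_descended p v₀ s hsv
  obtain ⟨A₁, i1, i2, i3, i4, i5, L₁, hloc, hL₁, hmap, hflat₁⟩ := exists_local_model (A := A) q D sA hsvA (hsA ▸ hs)
  refine ⟨A₁, i1, i2, i3, i4, L₁, hloc, hL₁, fun t ht => ?_, hflat₁⟩
  exact hmap t fun a ha => ⟨algebraMap R₀ A ⟨a, Algebra.subset_adjoin (Finset.mem_coe.mpr (Finset.mem_union_right _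
    (Finset.mem_biUnion.mpr ⟨t, ht, ha⟩)))⟩, (IsScalarTower.algebraMap_apply R₀ A R _).symm⟩

set_option maxHeartbeats 1000000 in -- one long construction
/-- Torsion freeness on the closed fibre gives universal torsion freeness. -/
theorem exists_kill_of_fibre_nzd [IsLocalRing R] (T : Finset (Fin k → MvPolynomial (Fin n) R))
    (q : Ideal (MvPolynomial (Fin n) R)) [q.IsPrime]
    (hqm : q.comap (algebraMap R (MvPolynomial (Fin n) R)) = IsLocalRing.maximalIdeal R)
    (hflat : Module.Flat R (LocalizedModule q.primeCompl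
      ((Fin k → MvPolynomial (Fin n) R) ⧸ Submodule.span (MvPolynomial (Fin n) R) (T : Set (Fin k → MvPolynomial (Fin n) R)))))
    (s : MvPolynomial (Fin n) R)
    (hs : ∀ z : ((Fin k → MvPolynomial (Fin n) R) ⧸ Submodule.span (MvPolynomial (Fin n) R) (T : Set (Fin k → MvPolynomial (Fin n) R))) ⊗[R] (IsLocalRing.maximalIdeal R).ResidueField,
      s • z = 0 → ∃ t ∉ q, t • z = 0)
    (Q : Type u) [AddCommGroup Q] [Module R Q]
    (z : ((Fin k → MvPolynomial (Fin n) R) ⧸ Submodule.span (MvPolynomial (Fin n) R) (T : Set (Fin k → MvPolynomial (Fin n) R))) ⊗[R] Q)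
    (hz : s • z = 0) : ∃ t ∉ q, t • z = 0 := by
  classical
  let m := IsLocalRing.maximalIdeal R
  obtain ⟨t₂, ht₂, hkill⟩ := exists_fibre_killer (A := R) (B := MvPolynomial (Fin n) R)
    (M := (Fin k → MvPolynomial (Fin n) R) ⧸ Submodule.span (MvPolynomial (Fin n) R) (T : Set (Fin k → MvPolynomial (Fin n) R)))
    q.primeCompl m
  obtain ⟨A₁, _, _, _, _, L₁, hloc, hL, hps, hflat₁⟩ := exists_descended_flat T {s, t₂} q hflat
  obtain ⟨s₁, hs₁⟩ := hps s (Finset.mem_insert_self _ _)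
  obtain ⟨u₁, hu₁⟩ := hps t₂ (Finset.mem_insert_of_mem (Finset.mem_singleton_self _))
  revert z
  rw [hL] at hs hkill ⊢
  intro z hz
  let q₁ := q.comap (MvPolynomial.map (algebraMap A₁ R))
  let M₁ := (Fin k → MvPolynomial (Fin n) A₁) ⧸ L₁
  let N₁ := LocalizedModule q₁.primeCompl M₁
  let f : N₁ →ₗ[A₁] N₁ := (LinearMap.lsmul (MvPolynomial (Fin n) A₁) N₁ s₁).restrictScalars A₁
  -- the residue fields
  let m₁ := IsLocalRing.maximalIdeal A₁
  let _ : Module A₁ Q := Module.compHom Q (algebraMap A₁ R)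
  have : IsScalarTower A₁ R Q := IsScalarTower.of_algebraMap_smul fun _ _ => rfl
  have hm₁ : ∀ a ∈ m₁, algebraMap A₁ m.ResidueField a = 0 := fun a ha => by
    rw [IsScalarTower.algebraMap_apply A₁ R m.ResidueField]
    refine Ideal.algebraMap_residueField_eq_zero.mpr ?_
    exact (IsLocalRing.mem_maximalIdeal _).mpr fun hu => (IsLocalRing.mem_maximalIdeal _).mp ha (hloc.1 a hu)
  let χ : A₁ ⧸ m₁ →+* m.ResidueField := Ideal.Quotient.lift m₁ (algebraMap A₁ m.ResidueField) hm₁
  let _ : Field (A₁ ⧸ m₁) := Ideal.Quotient.field m₁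
  let _ : Algebra (A₁ ⧸ m₁) m.ResidueField := χ.toAlgebra
  have : IsScalarTower A₁ (A₁ ⧸ m₁) m.ResidueField := IsScalarTower.of_algebraMap_eq fun _ => rfl
  obtain ⟨g, hg⟩ := (Algebra.linearMap (A₁ ⧸ m₁) m.ResidueField).exists_leftInverse_of_injective
    (LinearMap.ker_eq_bot.mpr χ.injective)
  let incl : A₁ ⧸ m₁ →ₗ[A₁] m.ResidueField := (Algebra.linearMap (A₁ ⧸ m₁) m.ResidueField).restrictScalars A₁
  obtain ⟨E, hE, hEs⟩ := exists_bc_tensor (R := R) L₁ m.ResidueField
  have hfib : Function.Injective (f.rTensor (A₁ ⧸ m₁)) := by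
    rw [injective_iff_map_eq_zero]
    intro w hw
    let ι := AlgebraTensorModule.rTensor A₁ (A₁ ⧸ m₁) (LocalizedModule.mkLinearMap q₁.primeCompl M₁)
    have hfι : ∀ v, f.rTensor (A₁ ⧸ m₁) v = s₁ • v := by
      intro v
      induction v using TensorProduct.induction_on with
      | zero => simp only [map_zero, smul_zero]
      | tmul a b => rfl
      | add a b ha hb => simp only [map_add, smul_add, ha, hb]
    rw [hfι] at hw
    obtain ⟨⟨y, t⟩, hy⟩ := IsLocalizedModule.surj q₁.primeCompl ι w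
    have h1 : ι (s₁ • y) = 0 := by
      rw [map_smul, ← hy, Submonoid.smul_def, smul_comm, hw, smul_zero]
    obtain ⟨t', ht'⟩ := (IsLocalizedModule.eq_zero_iff q₁.primeCompl ι).mp h1
    rw [Submonoid.smul_def, smul_comm] at ht'
    -- compare with the fibre over `R`
    let y' := (t' : MvPolynomial (Fin n) A₁) • y
    have hEy : s • E (incl.lTensor M₁ y') = 0 := by
      rw [← hs₁, ← hEs]
      have : s₁ • incl.lTensor M₁ y' = 0 := by
        show s₁ • AlgebraTensorModule.lTensor (MvPolynomial (Fin n) A₁) M₁ incl y' = 0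
        rw [← map_smul, ht', map_zero]
      rw [this, map_zero]
    obtain ⟨t'', ht'', hkt⟩ := hs _ hEy
    have h2 := hkill _ ⟨t'', ht'', hkt⟩
    rw [← hu₁, ← hEs] at h2
    have h3 : u₁ • y' = 0 := by
      have h4 : incl.lTensor M₁ (u₁ • y') = 0 := by
        apply hE.1
        rw [map_zero, ← h2]
        congr 1
        exact (AlgebraTensorModule.lTensor (MvPolynomial (Fin n) A₁) M₁ incl).map_smul u₁ y'
      have h5 := congrArg ((g.restrictScalars A₁).lTensor M₁) h4
      rwa [map_zero, ← LinearMap.lTensor_comp_apply, show (g.restrictScalars A₁) ∘ₗ incl = LinearMap.id from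
        LinearMap.ext fun a => LinearMap.congr_fun hg a, LinearMap.lTensor_id, LinearMap.id_apply] at h5
    have hu₁q : u₁ ∉ q₁ := fun h => ht₂ (hu₁ ▸ (Ideal.mem_comap.mp h) : t₂ ∈ q)
    have h6 : ι y = 0 := (IsLocalizedModule.eq_zero_iff q₁.primeCompl ι).mpr
      ⟨⟨u₁ * t', q₁.primeCompl.mul_mem hu₁q t'.2⟩, by rw [Submonoid.smul_def, mul_smul]; exact h3⟩
    rw [h6] at hy
    exact IsLocalizedModule.smul_injective ι t (hy.trans (smul_zero t).symm)
  let S₁ := Localization.AtPrime q₁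
  have : Algebra.FiniteType A₁ (MvPolynomial (Fin n) A₁) := inferInstance
  have : IsNoetherianRing S₁ := IsLocalization.isNoetherianRing q₁.primeCompl S₁
    (Algebra.FiniteType.isNoetherianRing A₁ _)
  have : Module.Finite S₁ N₁ :=
    Module.Finite.of_isLocalizedModule q₁.primeCompl (LocalizedModule.mkLinearMap q₁.primeCompl M₁)
  have hjac : m₁.map (algebraMap A₁ S₁) ≤ Ideal.jacobson ⊥ := by
    refine le_trans ?_ (IsLocalRing.maximalIdeal_le_jacobson _)
    rw [Ideal.map_le_iff_le_comap]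
    intro a ha
    rw [Ideal.mem_comap, IsScalarTower.algebraMap_apply A₁ (MvPolynomial (Fin n) A₁) S₁, IsLocalRing.mem_maximalIdeal,
      mem_nonunits_iff, IsLocalization.AtPrime.isUnit_to_map_iff S₁ q₁]
    refine fun h => h ?_
    show MvPolynomial.map (algebraMap A₁ R) (algebraMap A₁ _ a) ∈ q
    rw [MvPolynomial.algebraMap_eq, MvPolynomial.map_C]
    have hmem : algebraMap A₁ R a ∈ q.comap (algebraMap R (MvPolynomial (Fin n) R)) := by
      rw [hqm]
      exact (IsLocalRing.mem_maximalIdeal _).mpr fun hu => (IsLocalRing.mem_maximalIdeal _).mp ha (hloc.1 a hu)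
    exact hmem
  obtain ⟨hinj, hcoker⟩ := injective_and_flat_quotient (S := S₁) (R := A₁) m₁ hjac f
    ((LinearMap.lTensor_inj_iff_rTensor_inj _ _).mpr hfib)
  have huniv := Groth.Agent.EtAlg23.rTensor_injective_of_flat_quotient
    (LinearMap.exact_map_mkQ_range f) (Submodule.mkQ_surjective (LinearMap.range f)) hinj Q
  obtain ⟨E', hE', hE's⟩ := exists_bc_tensor (R := R) L₁ Q
  obtain ⟨z₁, rfl⟩ := hE'.2 z
  rw [← hs₁, ← hE's] at hz
  have hz₁ : s₁ • z₁ = 0 := hE'.1 (hz.trans (map_zero _).symm)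
  let ιQ := AlgebraTensorModule.rTensor A₁ Q (LocalizedModule.mkLinearMap q₁.primeCompl M₁)
  have h0 : ιQ z₁ = 0 := by
    apply huniv
    rw [map_zero]
    have hfι : ∀ v, f.rTensor Q v = s₁ • v := by
      intro v
      induction v using TensorProduct.induction_on with
      | zero => simp only [map_zero, smul_zero]
      | tmul a b => rfl
      | add a b ha hb => simp only [map_add, smul_add, ha, hb]
    rw [hfι, ← map_smul, hz₁, map_zero]
  obtain ⟨t₁, ht₁⟩ := (IsLocalizedModule.eq_zero_iff q₁.primeCompl ιQ).mp h0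
  refine ⟨MvPolynomial.map (algebraMap A₁ R) (t₁ : MvPolynomial (Fin n) A₁), t₁.2, ?_⟩
  rw [← hE's, show (t₁ : MvPolynomial (Fin n) A₁) • z₁ = 0 from ht₁, map_zero]

end Groth.Agent.FlatCrit65.Monom
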