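import Groth.Agent.FlatCrit65.Assassin.MainAss
import Mathlib.RingTheory.QuasiFinite.Basic

/-!
# Weakly associated primes of base change along flat quasi-finite maps
-/

universe u

noncomputable section

open TensorProduct

namespace Groth.Agent.FlatCrit65

/-- For a flat quasi-finite algebra, the weakly associated primes of a base change lie over those of
the module. -/
theorem mem_weakAss_quasiFinite_iff {A B : Type u} [CommRing A] [CommRing B] [Algebra A B]
    [Algebra.FiniteType A B] [Algebra.QuasiFinite A B] [Module.Flat A B]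
    {M : Type u} [AddCommGroup M] [Module A M] (p : Ideal A) [p.IsPrime] (t : Ideal B) [t.IsPrime]
    [t.LiesOver p] : t ∈ FlatCA.weakAss B (B ⊗[A] M) ↔ p ∈ FlatCA.weakAss A M := by
  refine (mem_weakAss_tensor_iff t (flat_localized_of_flat t)).trans (and_iff_left ?_)
  refine fiberIdeal_mem_ass ⟨(1 : B) ⊗ₜ[A] (1 : p.ResidueField), ⟨‹_›, fun b hb => ?_⟩, fun P hP hPt => ?_⟩
  · have h := Groth.Agent.CAlg5.mem_ann.mp hb
    rw [smul_tmul', smul_eq_mul, mul_one, Groth.Agent.CAlg6.tmul_one_eq_zero_iff] at h
    obtain ⟨r, hr, hrb⟩ := h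
    rw [Algebra.smul_def r b] at hrb
    have hle : ∀ x ∈ p • (⊤ : Submodule A B), x ∈ t := fun x hx =>
      Submodule.smul_induction_on hx (fun a ha y _ => by
        rw [Algebra.smul_def]
        exact t.mul_mem_right _ ((Ideal.LiesOver.over (P := t) (p := p)) ▸ ha : a ∈ t.under A))
        (fun x y => t.add_mem)
    exact ((‹t.IsPrime›).mem_or_mem (hle _ hrb)).resolve_left fun h' =>
      hr ((Ideal.LiesOver.over (P := t) (p := p)).symm ▸ h' : r ∈ p)
  · have := hP.1
    refine (Algebra.QuasiFinite.eq_of_le_of_under_eq (R := A) P t hPt ?_).ge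
    refine le_antisymm (Ideal.comap_mono hPt) ?_
    intro a ha
    rw [← Ideal.LiesOver.over (P := t) (p := p)] at ha
    exact hP.2 (Groth.Agent.CAlg5.mem_ann.mpr (smul_fibre_eq_zero ha _))

end Groth.Agent.FlatCrit65
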