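import Groth.Agent.FlatCrit65.Assassin.InjModMax

/-!
# Socles of tensor products with a flat finite module over a local algebra essentially of finite type
-/

universe u

noncomputable section

open TensorProduct

namespace Groth.Agent.FlatCrit65

theorem exists_socle_of_essFiniteType {A B N : Type u} [CommRing A] [CommRing B] [IsLocalRing A]
    [IsLocalRing B] [Algebra A B] [IsLocalHom (algebraMap A B)] [Algebra.EssFiniteType A B]
    [AddCommGroup N] [Module A N] [Module B N] [IsScalarTower A B N] [Module.Finite B N] [Module.Flat A N]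
    {X : Type u} [AddCommGroup X] [Module A X] (x₀ : N ⊗[A] X) (hx₀ : x₀ ≠ 0) :
    ∃ (J : Submodule A X) (c : X ⧸ J) (n : N),
      (∀ a ∈ IsLocalRing.maximalIdeal A, a • c = 0) ∧
      J.mkQ.lTensor N x₀ = n ⊗ₜ[A] c ∧ n ⊗ₜ[A] c ≠ 0 := by
  obtain ⟨ι, _, q, _, ω, hω, hqm⟩ := exists_poly_local_cover A B
  let L := Localization.AtPrime q
  let S := MvPolynomial ι A
  have hqm' : q.comap (algebraMap A S) = IsLocalRing.maximalIdeal A :=
    hqm.trans (((IsLocalRing.local_hom_TFAE (algebraMap A B)).out 0 4).mp ‹_›)
  let _ : Algebra L B := ω.toRingHom.toAlgebra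
  have : IsScalarTower A L B := IsScalarTower.of_algebraMap_eq fun a => (ω.commutes a).symm
  let _ : Module L N := Module.compHom N (algebraMap L B)
  have : IsScalarTower L B N := IsScalarTower.of_algebraMap_smul fun _ _ => rfl
  have : IsScalarTower A L N := IsScalarTower.of_algebraMap_smul fun a n => by
    show algebraMap L B (algebraMap A L a) • n = a • n
    rw [← IsScalarTower.algebraMap_apply, algebraMap_smul]
  have : Module.Finite L B := Module.Finite.of_surjective (Algebra.linearMap L B) hω
  have : Module.Finite L N := Module.Finite.trans B N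
  have hfpL : Module.FinitePresentation L N := finitePresentation_of_flat_local (R := A) (S := S) q
  let _ : Module S N := Module.compHom N (algebraMap S L)
  have : IsScalarTower S L N := IsScalarTower.of_algebraMap_smul fun _ _ => rfl
  have : IsScalarTower A S N := IsScalarTower.of_algebraMap_smul fun a n => by
    show algebraMap S L (algebraMap A S a) • n = a • n
    rw [← IsScalarTower.algebraMap_apply, algebraMap_smul]
  obtain ⟨M₀, _, _, f, hfp, hf⟩ := exists_fp_model q.primeCompl L N
  let _ : Module A M₀ := Module.compHom M₀ (algebraMap A S)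
  have : IsScalarTower A S M₀ := IsScalarTower.of_algebraMap_smul fun _ _ => rfl
  let e := (IsLocalizedModule.iso q.primeCompl f).restrictScalars A
  have : Module.Flat A (LocalizedModule q.primeCompl M₀) := Module.Flat.of_linearEquiv e
  obtain ⟨J, c, n, hc, hxn, hne⟩ := exists_socle q hqm' ((e.symm.rTensor X) x₀)
    fun h => hx₀ ((e.symm.rTensor X).map_eq_zero_iff.mp h)
  refine ⟨J, c, e n, hc, ?_, fun h => hne ?_⟩
  · have h1 := congrArg (e.toLinearMap.rTensor (X ⧸ J)) hxn
    rw [LinearMap.rTensor_tmul] at h1
    refine Eq.trans ?_ h1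
    rw [← LinearMap.comp_apply, LinearMap.rTensor_comp_lTensor, ← LinearMap.lTensor_comp_rTensor,
      LinearMap.comp_apply]
    exact congrArg _ ((e.rTensor X).apply_symm_apply x₀).symm
  · refine (e.rTensor (X ⧸ J)).map_eq_zero_iff.mp ?_
    exact h

/-- Over a valuation ring, an element of a flat finite module over a local algebra essentially of finite type
has a smallest ideal `I` with `x ∈ I N`, and it is principal. -/
theorem exists_content_of_valuationRing {A B N : Type u} [CommRing A] [IsDomain A] [ValuationRing A] [CommRing B]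
    [IsLocalRing B] [Algebra A B] [IsLocalHom (algebraMap A B)] [Algebra.EssFiniteType A B]
    [AddCommGroup N] [Module B N] [Module A N] [IsScalarTower A B N] [Module.Finite B N] [Module.Flat A N] (x : N) :
    ∃ I : Ideal A, I.IsPrincipal ∧ x ∈ I • (⊤ : Submodule A N) ∧
      ∀ J : Ideal A, x ∈ J • (⊤ : Submodule A N) → I ≤ J := by
  rcases eq_or_ne x 0 with rfl | hx
  · exact ⟨⊥, bot_isPrincipal, Submodule.zero_mem _, fun J _ => bot_le⟩
  obtain ⟨J, c, n, hc, hxn, hne⟩ := exists_socle_of_essFiniteType (B := B) (x ⊗ₜ[A] (1 : A))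
    fun h => hx ((TensorProduct.rid A N).symm.map_eq_zero_iff.mp h)
  obtain ⟨c, rfl⟩ := Submodule.mkQ_surjective J c
  let e := TensorProduct.tensorQuotEquivQuotSMul N (J : Ideal A)
  have hx' : x - c • n ∈ J • (⊤ : Submodule A N) := by
    have h1 := congrArg e hxn
    rw [LinearMap.lTensor_tmul] at h1
    simp only [e, Submodule.mkQ_apply] at h1
    change e (x ⊗ₜ Ideal.Quotient.mk J 1) = e (n ⊗ₜ Ideal.Quotient.mk J c) at h1
    rw [TensorProduct.tensorQuotEquivQuotSMul_tmul_mk, TensorProduct.tensorQuotEquivQuotSMul_tmul_mk, one_smul] at h1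
    exact (Submodule.Quotient.eq _).mp h1
  have hcn : c • n ∉ J • (⊤ : Submodule A N) := fun h => hne <| e.map_eq_zero_iff.mp <| by
    show e (n ⊗ₜ Ideal.Quotient.mk J c) = 0
    rw [TensorProduct.tensorQuotEquivQuotSMul_tmul_mk]
    exact (Submodule.Quotient.mk_eq_zero _).mpr h
  have hcJ : c ∉ J := fun h => hcn (Submodule.smul_mem_smul h trivial)
  have hJc : J ≤ Ideal.span {c} := ((Std.Total.total (r := fun a b : Ideal A => a ≤ b)) (Ideal.span {c}) J).resolve_left fun h =>
    hcJ (h (Ideal.mem_span_singleton_self c))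
  refine ⟨Ideal.span {c}, ⟨c, rfl⟩, ?_, fun J' hJ' => ?_⟩
  · rw [← sub_add_cancel x (c • n)]
    exact add_mem (Submodule.smul_mono_left hJc hx')
      (Submodule.smul_mem_smul (Ideal.mem_span_singleton_self c) trivial)
  · by_contra hle
    have hJ'c : J' ≤ Ideal.span {c} := ((Std.Total.total (r := fun a b : Ideal A => a ≤ b)) (Ideal.span {c}) J').resolve_left hle
    have hJ'J : J' ≤ J := fun j hj => by
      obtain ⟨a, rfl⟩ := Ideal.mem_span_singleton'.mp (hJ'c hj)
      have ha : a ∈ IsLocalRing.maximalIdeal A := (IsLocalRing.mem_maximalIdeal _).mpr fun hu => by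
        obtain ⟨u, rfl⟩ := hu
        refine hle ((Ideal.span_singleton_le_iff_mem _).mpr ?_)
        have := J'.mul_mem_left (↑u⁻¹) hj
        rwa [← mul_assoc, Units.inv_mul, one_mul] at this
      have := hc a ha
      rw [← map_smul] at this
      exact (Submodule.Quotient.mk_eq_zero _).mp this
    refine hcn ?_
    rw [← sub_sub_cancel x (c • n)]
    exact sub_mem (Submodule.smul_mono_left hJ'J hJ') hx'

end Groth.Agent.FlatCrit65
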