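import Groth.Agent.FlatCrit65.Point.General
import Groth.Agent.FlatCrit65.FlatLocus.Kernels
import Mathlib.RingTheory.Flat.TorsionFree
import Mathlib.RingTheory.Valuation.ValuationRing
import Mathlib.RingTheory.Nakayama

/-!
# Flat finite modules over valuation rings have no divisible elements
-/

universe u

noncomputable section

open TensorProduct

namespace Groth.Agent.FlatCrit65

set_option maxHeartbeats 400000 in -- saturation argument
/-- A flat finite module at a point over a valuation ring has no nonzero divisible element. -/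
theorem eq_zero_of_divisible_valuation {V S : Type u} [CommRing V] [IsDomain V] [ValuationRing V]
    [CommRing S] [Algebra V S] [Algebra.FinitePresentation V S] (q : Ideal S) [q.IsPrime]
    {M : Type u} [AddCommGroup M] [Module S M] [Module V M] [IsScalarTower V S M] [Module.Finite S M]
    [Module.Flat V (LocalizedModule q.primeCompl M)] {m₀ : V} (hm₀ : m₀ ≠ 0)
    (hm₀q : algebraMap V S m₀ ∈ q) (z : LocalizedModule q.primeCompl M)
    (hz : ∀ v : V, v ≠ 0 → ∃ z', v • z' = z) : z = 0 := by
  let L := Localization.AtPrime q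
  let N := LocalizedModule q.primeCompl M
  have : Module.Finite L N := Module.Finite.of_isLocalizedModule q.primeCompl (LocalizedModule.mkLinearMap q.primeCompl M)
  let sat : Submodule L N :=
    { carrier := {n | ∃ b : V, b ≠ 0 ∧ b • n ∈ Submodule.span L {z}}
      add_mem' := by
        rintro a c ⟨b, hb, ha⟩ ⟨d, hd, hc⟩
        refine ⟨b * d, mul_ne_zero hb hd, ?_⟩
        rw [smul_add, mul_comm b d, mul_smul, mul_comm d b, mul_smul]
        exact add_mem (Submodule.smul_of_tower_mem _ d ha) (Submodule.smul_of_tower_mem _ b hc)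
      zero_mem' := ⟨1, one_ne_zero, by rw [smul_zero]; exact zero_mem _⟩
      smul_mem' := by
        rintro l n ⟨b, hb, hn⟩
        exact ⟨b, hb, by rw [smul_comm]; exact Submodule.smul_mem _ l hn⟩ }
  have hflat : Module.Flat V (N ⧸ sat) := by
    refine (Module.Flat.flat_iff_torsion_eq_bot_of_isBezout (R := V)).mpr ?_
    rw [eq_bot_iff]
    intro w hw
    obtain ⟨w, rfl⟩ := sat.mkQ_surjective w
    obtain ⟨⟨b, hb⟩, hbw⟩ := (Submodule.mem_torsion_iff _).mp hw
    change b • sat.mkQ w = 0 at hbw
    rw [← LinearMap.map_smul_of_tower, Submodule.mkQ_apply, Submodule.Quotient.mk_eq_zero] at hbw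
    obtain ⟨d, hd, hdw⟩ := hbw
    rw [Submodule.mem_bot, Submodule.mkQ_apply, Submodule.Quotient.mk_eq_zero]
    exact ⟨d * b, mul_ne_zero hd (nonZeroDivisors.ne_zero hb), by rw [mul_smul]; exact hdw⟩
  have : Module.Finite L (N ⧸ sat) := Module.Finite.quotient L sat
  have : Module.FinitePresentation L (N ⧸ sat) := finitePresentation_of_flat_local (R := V) q
  have hfg : sat.FG := by
    have := Module.FinitePresentation.fg_ker sat.mkQ sat.mkQ_surjective
    rwa [Submodule.ker_mkQ] at this
  let I : Ideal L := IsLocalRing.maximalIdeal L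
  have hmem : algebraMap V L m₀ ∈ I := by
    rw [IsScalarTower.algebraMap_apply V S L, IsLocalRing.mem_maximalIdeal, mem_nonunits_iff,
      IsLocalization.AtPrime.isUnit_to_map_iff L q]
    exact fun h => h hm₀q
  have hle : sat ≤ I • sat := by
    rintro n ⟨b, hb, hn⟩
    obtain ⟨l, hl⟩ := Submodule.mem_span_singleton.mp hn
    obtain ⟨z', hz'⟩ := hz (b * m₀) (mul_ne_zero hb hm₀)
    have hn' : n = algebraMap V L m₀ • (l • z') := by
      rw [algebraMap_smul]
      refine Module.Flat.isSMulRegular_of_nonZeroDivisors (mem_nonZeroDivisors_of_ne_zero hb) ?_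
      show b • n = b • m₀ • l • z'
      rw [← hl, ← mul_smul, smul_comm, hz']
    rw [hn']
    refine Submodule.smul_mem_smul hmem ⟨b * m₀, mul_ne_zero hb hm₀, ?_⟩
    rw [smul_comm, hz']
    exact Submodule.smul_mem _ l (Submodule.mem_span_singleton_self z)
  have hbot : sat = ⊥ := Submodule.eq_bot_of_le_smul_of_le_jacobson_bot I sat hfg hle
    (IsLocalRing.maximalIdeal_le_jacobson _)
  have hzmem : z ∈ sat := ⟨1, one_ne_zero, by rw [one_smul]; exact Submodule.mem_span_singleton_self z⟩
  rwa [hbot, Submodule.mem_bot] at hzmem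

end Groth.Agent.FlatCrit65
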