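import Groth.Agent.FlatCrit65.Assassin.MainAss
import Groth.Agent.FlatCrit65.Point.Global

/-!
# Flat points over a base with finitely many weakly associated primes
-/

universe u

noncomputable section

open TensorProduct

namespace Groth.Agent.FlatCrit65

set_option maxHeartbeats 1000000 in -- one long construction
/-- Near a flat point a finite module is cut out by finitely many relations and is flat. -/
theorem exists_fp_nhd_of_weakAss_finite {R A N : Type u} [CommRing R] [CommRing A] [Algebra R A]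
    [Algebra.FinitePresentation R A] (hR : (FlatCA.weakAss R R).Finite)
    [AddCommGroup N] [Module A N] [Module R N] [IsScalarTower R A N] [Module.Finite A N]
    (q : Ideal A) [q.IsPrime] (hflat : Module.Flat R (LocalizedModule q.primeCompl N)) :
    ∃ g : A, g ∉ q ∧ (∀ q' : PrimeSpectrum A, g ∉ q'.asIdeal →
        Module.Flat R (LocalizedModule q'.asIdeal.primeCompl N)) ∧
      Module.FinitePresentation (Localization.Away g) (LocalizedModule (Submonoid.powers g) N) := by
  classical
  obtain ⟨k, π, hπ⟩ := Module.Finite.exists_fin' A N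
  have : Module.Finite (Localization.AtPrime q) (LocalizedModule q.primeCompl N) :=
    Module.Finite.of_isLocalizedModule q.primeCompl (LocalizedModule.mkLinearMap q.primeCompl N)
  have : Module.FinitePresentation (Localization.AtPrime q) (LocalizedModule q.primeCompl N) :=
    finitePresentation_of_flat_local (R := R) q
  obtain ⟨K₀, hK₀fg, hK₀le, hKq⟩ := exists_fg_le_ker_at π hπ q.primeCompl
  let M₀ := (Fin k → A) ⧸ K₀
  have : Module.FinitePresentation A M₀ :=
    Module.finitePresentation_of_surjective K₀.mkQ K₀.mkQ_surjective (by rwa [Submodule.ker_mkQ])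
  let ρ : M₀ →ₗ[A] N := K₀.liftQ π hK₀le
  have hρ : Function.Surjective ρ := fun n => by
    obtain ⟨x, rfl⟩ := hπ n
    exact ⟨K₀.mkQ x, rfl⟩
  have hρq : ∀ m : M₀, ρ m = 0 → ∃ s ∉ q, s • m = 0 := by
    intro m hm
    obtain ⟨x, rfl⟩ := K₀.mkQ_surjective m
    obtain ⟨s, hs, hsx⟩ := hKq x hm
    exact ⟨s, hs, by rw [← map_smul]; exact (Submodule.Quotient.mk_eq_zero _).mpr hsx⟩
  have hbij : ∀ T : Submonoid A, (∀ m, ρ m = 0 → ∃ s ∈ T, s • m = 0) →
      Function.Bijective (LocalizedModule.map T ρ) := by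
    intro T hT
    refine ⟨?_, LocalizedModule.map_surjective _ ρ hρ⟩
    rw [injective_iff_map_eq_zero]
    intro v hv
    induction v using LocalizedModule.induction_on with
    | h m s =>
      rw [LocalizedModule.map_mk, localized_mk_eq_zero_iff] at hv
      obtain ⟨u, hu, hum⟩ := hv
      obtain ⟨s', hs', hsm⟩ := hT (u • m) (by rw [map_smul, hum])
      rw [localized_mk_eq_zero_iff]
      exact ⟨s' * u, T.mul_mem hs' hu, by rw [mul_smul, hsm]⟩
  have hflat₀ : Module.Flat R (LocalizedModule q.primeCompl M₀) :=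
    Module.Flat.of_linearEquiv ((LinearEquiv.ofBijective _ (hbij _ hρq)).restrictScalars R)
  obtain ⟨_, ⟨g₁, rfl⟩, hqg, hgU⟩ :=
    PrimeSpectrum.isTopologicalBasis_basic_opens.exists_subset_of_mem_open
      (show (⟨q, ‹_›⟩ : PrimeSpectrum A) ∈ {q' : PrimeSpectrum A |
        Module.Flat R (LocalizedModule q'.asIdeal.primeCompl M₀)} from hflat₀)
      isOpen_flat_locus_module
  -- finitely many weakly associated primes near `q`
  let W : Set (Ideal A) := {P | P ∈ FlatCA.weakAss A M₀ ∧ g₁ ∉ P}
  have hW : W.Finite := by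
    let F : Ideal R → Set (Ideal A) := fun p => {P | ∃ _ : p.IsPrime,
      P ∈ FlatCA.weakAss A (M₀ ⊗[R] p.ResidueField)}
    refine (hR.biUnion fun p _ => ?_ : (⋃ p ∈ FlatCA.weakAss R R, F p).Finite).subset fun P hP => ?_
    · by_cases hp : p.IsPrime
      · exact (finite_weakAss_fibre (S := A) (N := M₀) p).subset fun P hP => hP.2
      · exact Set.finite_empty.subset fun P hP => (hp hP.1).elim
    · obtain ⟨hw, hg⟩ := hP
      have hPp := Groth.Agent.CAlg5.weakAss_isPrime hw
      let p := P.comap (algebraMap R A)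
      have : P.LiesOver p := ⟨rfl⟩
      have hfl : Module.Flat R (LocalizedModule P.primeCompl M₀) := hgU (show (⟨P, hPp⟩ : PrimeSpectrum A) ∈ _ from hg)
      have hw' : P ∈ FlatCA.weakAss A (M₀ ⊗[R] R) := by
        let e := AlgebraTensorModule.rid R A M₀
        obtain ⟨x, hx, hx'⟩ := Groth.Agent.CAlg5.mem_weakAss_iff.mp hw
        refine Groth.Agent.CAlg5.mem_weakAss_iff.mpr ⟨e.symm x, fun s hs => hx s ?_, fun b hb => ?_⟩
        · rwa [← map_smul, LinearEquiv.map_eq_zero_iff] at hs
        · obtain ⟨s, hs, j, hj⟩ := hx' b hb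
          exact ⟨s, hs, j, by rw [← map_smul, hj, map_zero]⟩
      obtain ⟨hp, hfib⟩ := (mem_weakAss_tensor_iff (p := p) P hfl).mp hw'
      exact Set.mem_biUnion hp ⟨inferInstance, mem_weakAss_fibre hfib⟩
  have hh : ∀ P ∈ hW.toFinset.filter (fun P => ¬ P ≤ q), ∃ h ∈ P, h ∉ q := fun P hP =>
    SetLike.not_le_iff_exists.mp (Finset.mem_filter.mp hP).2
  choose! h hhP hhq using hh
  let g := g₁ * ∏ P ∈ hW.toFinset.filter (fun P => ¬ P ≤ q), h P
  have hgq : g ∉ q := by
    refine fun hm => (‹q.IsPrime›.mem_or_mem hm).elim hqg fun hm' => ?_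
    obtain ⟨P, hP, hPm⟩ := (‹q.IsPrime›.prod_mem_iff).mp hm'
    exact hhq P hP hPm
  have hker : ∀ m, ρ m = 0 → ∃ s ∈ Submonoid.powers g, s • m = 0 := by
    intro m hm
    have : g ∈ (Submodule.span A {m}).annihilator.radical := by
      rw [Ideal.radical_eq_sInf, Ideal.mem_sInf]
      rintro P ⟨hle, hP⟩
      by_contra hg
      obtain ⟨P₁, hmin, hP₁⟩ := Ideal.exists_minimalPrimes_le hle
      have hg' : g ∉ P₁ := fun h => hg (hP₁ h)
      have hP₁W : P₁ ∈ W := ⟨⟨m, hmin⟩, fun h => hg' (P₁.mul_mem_right _ h)⟩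
      obtain ⟨s, hs, hsm⟩ := hρq m hm
      have hsP : s ∈ P₁ := hmin.1.2 (Groth.Agent.CAlg5.mem_ann.mpr hsm)
      by_cases hPq : P₁ ≤ q
      · exact hs (hPq hsP)
      · have hmem : P₁ ∈ hW.toFinset.filter (fun P => ¬ P ≤ q) :=
          Finset.mem_filter.mpr ⟨hW.mem_toFinset.mpr hP₁W, hPq⟩
        exact hg' (P₁.mul_mem_left _ (Ideal.mem_of_dvd _ (Finset.dvd_prod_of_mem h hmem) (hhP P₁ hmem)))
    obtain ⟨j, hj⟩ := this
    exact ⟨g ^ j, ⟨j, rfl⟩, Groth.Agent.CAlg5.mem_ann.mp hj⟩
  refine ⟨g, hgq, fun q' hq' => ?_, ?_⟩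
  · have : Module.Flat R (LocalizedModule q'.asIdeal.primeCompl M₀) :=
      hgU (show q' ∈ _ from fun h => hq' (q'.asIdeal.mul_mem_right _ h))
    refine Module.Flat.of_linearEquiv ((LinearEquiv.ofBijective _ (hbij q'.asIdeal.primeCompl fun m hm => ?_)).restrictScalars R).symm
    obtain ⟨_, ⟨j, rfl⟩, hs⟩ := hker m hm
    exact ⟨g ^ j, fun h => hq' (q'.isPrime.mem_of_pow_mem j h), hs⟩
  · exact Module.FinitePresentation.of_equiv (LinearEquiv.ofBijective _ (hbij _ hker))

theorem isOpen_flat_locus_of_weakAss_finite {R A N : Type u} [CommRing R] [CommRing A] [Algebra R A]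
    [Algebra.FinitePresentation R A] (hR : (FlatCA.weakAss R R).Finite)
    [AddCommGroup N] [Module A N] [Module R N] [IsScalarTower R A N] [Module.Finite A N] :
    IsOpen {q : PrimeSpectrum A | Module.Flat R (LocalizedModule q.asIdeal.primeCompl N)} := by
  rw [isOpen_iff_forall_mem_open]
  intro q hq
  obtain ⟨g, hg, hgflat, -⟩ := exists_fp_nhd_of_weakAss_finite hR q.asIdeal hq
  exact ⟨PrimeSpectrum.basicOpen g, fun q' hq' => hgflat q' hq', PrimeSpectrum.isOpen_basicOpen, hg⟩

set_option maxHeartbeats 1000000 in -- one long construction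
/-- The version for an algebra of finite type. -/
theorem exists_relFP_nhd_of_weakAss_finite {R S N : Type u} [CommRing R] [CommRing S] [Algebra R S]
    [Algebra.FiniteType R S] (hR : (FlatCA.weakAss R R).Finite)
    [AddCommGroup N] [Module S N] [Module R N] [IsScalarTower R S N] [Module.Finite S N]
    (q : Ideal S) [q.IsPrime] (hflat : Module.Flat R (LocalizedModule q.primeCompl N)) :
    ∃ g : S, g ∉ q ∧ (∀ q' : PrimeSpectrum S, g ∉ q'.asIdeal →
        Module.Flat R (LocalizedModule q'.asIdeal.primeCompl N)) ∧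
      Module.Flat R (LocalizedModule (Submonoid.powers g) N) ∧
      FlatCA.RelFinitePresentation R (Localization.Away g) (LocalizedModule (Submonoid.powers g) N) := by
  obtain ⟨n, π, hπ⟩ := Algebra.FiniteType.iff_quotient_mvPolynomial''.mp ‹Algebra.FiniteType R S›
  let A := MvPolynomial (Fin n) R
  let _ : Algebra A S := π.toRingHom.toAlgebra
  have : IsScalarTower R A S := IsScalarTower.of_algebraMap_eq fun a => (π.commutes a).symm
  have : Module.Finite A S := Module.Finite.of_surjective (Algebra.linearMap A S) hπ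
  let _ : Module A N := Module.compHom N π.toRingHom
  have : IsScalarTower A S N := IsScalarTower.of_algebraMap_smul fun _ _ => rfl
  have : IsScalarTower R A N := IsScalarTower.of_algebraMap_smul fun a m => by
    show π (algebraMap R _ a) • m = a • m
    rw [π.commutes, algebraMap_smul]
  have : Module.Finite A N := Module.Finite.trans S N
  obtain ⟨g₀, hg₀, hflat₀, hfp⟩ := exists_fp_nhd_of_weakAss_finite hR (q.comap (algebraMap A S))
    ((flat_localized_comap_iff (A := A) (M := N) hπ q).mp hflat)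
  let g := algebraMap A S g₀
  let T := Submonoid.powers g
  let ι := (LocalizedModule.mkLinearMap T N).restrictScalars A
  have hloc : IsLocalizedModule (Submonoid.powers g₀) ι := by
    have hu : ∀ (j : ℕ) (v : LocalizedModule T N), (g₀ ^ j) • v = (g ^ j) • v := fun j v => by
      rw [← algebraMap_smul S (g₀ ^ j) v, map_pow]
    refine ⟨?_, fun y => ?_, fun {x y} h => ?_⟩
    · rintro ⟨_, j, rfl⟩
      have hb := (Module.End.isUnit_iff _).mp
        (IsLocalizedModule.map_units (LocalizedModule.mkLinearMap T N) (⟨g ^ j, j, rfl⟩ : T))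
      refine (Module.End.isUnit_iff _).mpr ?_
      convert hb using 1
      funext v
      exact hu j v
    · obtain ⟨⟨x, ⟨_, j, rfl⟩⟩, hx⟩ := IsLocalizedModule.surj T (LocalizedModule.mkLinearMap T N) y
      exact ⟨⟨x, ⟨g₀ ^ j, j, rfl⟩⟩, (hu j y).trans hx⟩
    · obtain ⟨⟨_, j, rfl⟩, hj⟩ := (IsLocalizedModule.eq_iff_exists T (LocalizedModule.mkLinearMap T N)).mp h
      refine ⟨⟨g₀ ^ j, j, rfl⟩, ?_⟩
      show g₀ ^ j • x = g₀ ^ j • y
      rw [← algebraMap_smul S (g₀ ^ j) x, ← algebraMap_smul S (g₀ ^ j) y, map_pow]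
      exact hj
  let A₁ := Localization.Away g₀
  let L := Localization.Away g
  let e₀ := IsLocalizedModule.iso (Submonoid.powers g₀) ι
  have hθu : IsUnit ((IsScalarTower.toAlgHom R S L).comp π g₀) := IsLocalization.Away.algebraMap_isUnit g
  let θ : A₁ →+* L := IsLocalization.Away.lift g₀ (g := ((IsScalarTower.toAlgHom R S L).comp π).toRingHom) hθu
  have hθ : ∀ a : A, θ (algebraMap A A₁ a) = algebraMap S L (π a) := IsLocalization.Away.lift_eq g₀ hθu
  let _ : Algebra A₁ L := θ.toAlgebra
  have : IsScalarTower A A₁ L := IsScalarTower.of_algebraMap_eq fun a =>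
    ((hθ a).trans (IsScalarTower.algebraMap_apply A S L a).symm).symm
  let _ : Module A₁ (LocalizedModule T N) := Module.compHom _ θ
  have : IsScalarTower A A₁ (LocalizedModule T N) := IsScalarTower.of_algebraMap_smul fun a v => by
    show θ (algebraMap A A₁ a) • v = a • v
    rw [hθ, algebraMap_smul, ← algebraMap_smul S a v]
    rfl
  have : Module.FinitePresentation A₁ (LocalizedModule T N) := Module.FinitePresentation.of_equiv
    (e₀.extendScalarsOfIsLocalization (Submonoid.powers g₀) A₁)
  have hθsurj : Function.Surjective θ := by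
    intro l
    obtain ⟨a, ⟨_, j, rfl⟩, rfl⟩ := IsLocalization.exists_mk'_eq T l
    obtain ⟨a, rfl⟩ := hπ a
    refine ⟨IsLocalization.mk' A₁ a (⟨g₀ ^ j, j, rfl⟩ : Submonoid.powers g₀), ?_⟩
    rw [IsLocalization.eq_mk'_iff_mul_eq]
    show θ _ * algebraMap S L (g ^ j) = _
    rw [show g ^ j = π (g₀ ^ j) from (map_pow π g₀ j).symm, ← hθ, ← map_mul, IsLocalization.mk'_spec, hθ]
  have : Algebra.FinitePresentation R A₁ :=
    have := IsLocalization.Away.finitePresentation (S := A₁) g₀
    Algebra.FinitePresentation.trans R A A₁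
  obtain ⟨m, ψ, hψ, hψker⟩ := ‹Algebra.FinitePresentation R A₁›.out
  have hall : ∀ q' : PrimeSpectrum S, g ∉ q'.asIdeal →
      Module.Flat R (LocalizedModule q'.asIdeal.primeCompl N) := fun q' hq' =>
    (flat_localized_comap_iff (A := A) (M := N) hπ q'.asIdeal).mpr
      (hflat₀ ⟨q'.asIdeal.comap (algebraMap A S), inferInstance⟩ hq')
  have hflatA : Module.Flat R (LocalizedModule (Submonoid.powers g₀) N) :=
    flat_powers_of_forall g₀ fun P hP => hflat₀ P hP
  refine ⟨g, hg₀, hall, Module.Flat.of_linearEquiv (e₀.restrictScalars R).symm, m,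
    { toRingHom := θ.comp ψ.toRingHom
      commutes' := fun r => by
        show θ (ψ (algebraMap R _ r)) = _
        rw [ψ.commutes, IsScalarTower.algebraMap_apply R A A₁, hθ, π.commutes, ← IsScalarTower.algebraMap_apply] },
    hθsurj.comp hψ, ?_⟩
  let P := MvPolynomial (Fin m) R
  let _ : Algebra P A₁ := ψ.toRingHom.toAlgebra
  let _ : Module P (LocalizedModule T N) := Module.compHom _ (θ.comp ψ.toRingHom)
  let _ : Module P A₁ := Algebra.toModule
  have : IsScalarTower P A₁ (LocalizedModule T N) := IsScalarTower.of_algebraMap_smul fun _ _ => rfl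
  have : Module.FinitePresentation P A₁ :=
    Module.finitePresentation_of_surjective (Algebra.linearMap P A₁) hψ hψker
  exact Module.FinitePresentation.trans P (LocalizedModule T N) A₁

end Groth.Agent.FlatCrit65
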